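import Cfsg.Agent.Th.Word
set_option linter.all false

/-!
R05 (Thompson type): the equation lemmas of the letter function `gam`, made once here, so that
the files which simplify with `gam` share one copy of them.
-/

set_option autoImplicit false

namespace Cfsg.Agent.ThType.GamEqs

open Cfsg.Agent.Th.Word

universe v

variable {G : Type v} [Group G]

theorem gam_at1 (a b c d e s t u : G) : gam a b c d e s t u 1 = a := by simp only [gam]

theorem gam_at12 (a b c d e s t u : G) (n : ℕ) : gam a b c d e s t u (n + 12) = 1 := by
  simp [gam]

end Cfsg.Agent.ThType.GamEqs
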