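import Cfsg.Agent.Lib.CosetPartial
import Cfsg.Agent.Th.COracleSound
import Cfsg.Agent.ThType.GamEqs
set_option linter.all false

-- part: ThType/ColAData
section
set_option autoImplicit false
set_option maxRecDepth 100000

namespace Cfsg.Agent.ThType.ColAData

open Cfsg.Agent.SporadicRecognition.CosetCert

noncomputable def tree : Tr := (.N 48 (.N 16 (.L 0xc18b198b291c269a281b2c134bf0b261affff188b1f9523982ffffffffffff23182197178b0ffff2096ffff1f15168a1e141ffff1d13ffff1c1215891b111c2061a102c8b190f1486180e1ffff11851389ffff170d140a4ffff1004130affff160c11094ffffffffffff0d840f880f052ffff0d070a870b0709840b871c2830883ffff128a150b0c864ffff120affff070308050e882ffff1089ffff0e080a0706030c30209060c030785050206841c381028104020382058304824ffff03020201018101010081f) (.N 32 (.L 0xffff49b3922548b2321347b11bb902f12442e309346b0311a4ffff2d1137a3ffff45af2e994ffffffffffffffff29912b171ffffffff289043ae42ad34213ffffffff412bffff27903fa91c013258fffff27103ea8319f4ffff250effff3b263da72e1e4ffff3c26ffff228e2498240f2ffffffffffff2217210e2a9d1ffff200d3aa636a339a5ffff4c0863623ffff1e8dffffffff2ffff3522ffffffffffff1d8d0c1101c8c33a1301f32a02b904ffff2f9fffff1b8cffffffff2ffff2d9effffffff2a1d1a8c0)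 (.L 0xffffffffffffffff461f5dc41ffff5cc39db4ffff451effff1ffffffff449f431c8f399e222ffffffff56b0ffff421c5b411ffff419bffffffffffffffff4ffffffff409bffff9124593f3ffffffffffff401b523bffff2ffffffff58bfffff55be3f1b0be0f54bd53bc51bb3e1a50ba1ffffffff4fb94eb83d19ffff1ffff3c983a163b994db7ffff3ffffffff91a0ffff39164cb61ffffffffffffffff90ab38960ffff3595381e37164bb5ffff4ffff3494ffffffff4ab49eae4bc8fffff3313ffff573cffff3))) (.N 80 (.N 64 (.L 0xffffffffffff76d75a2cffff1ffffffff5829ffffffff59ab3ffffffff7455563e5529ffff1ffff54287354ffff725395504be95ffff5328ffff57a1b16d3ffffffffffff512852aa70d22b7b5a1deffff7052ffff50280ffffffff4f276f51ffffffff3ffffffffffff4e276d4fffff2ffff6e5099b56ccf4d266bce1ffffffffffffffff6a4d4c250bd8fba5bffff694c4b23684b1ffff674a9d2fffff4a2266491ffff4920654863c761c6a5434ffff6347ffff4820ffffffff2ffff6146ffffffff5fc547200) (.L 0xffff6db7ffffffffa6e994bd4ffffffffffff6c37ffff94612b8bc9b6095cb8ee18b686b370ffff6acd8ae8975669b6ffff1bd35ffff9ae168b5ffff88e62b6a8ffff964e8866876567b50ffff66b4ffffffff85e3ffff4ffffffffffffffff84e265b40ffff82e164b380e07fdfa45b3ffff62b2ffff6433ffffffff4ffff60b1ffffffff6233ffff4ffff60457dddffff5f31ffff1ffffffff5ec1ffff7cdc5d300ffff5c2f7bdbffff79daa4b34ffffffffffff5bad8fd178d92ffffffff5e44785974d55aad0))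 (.N 96 (.L 0xb7489bceffff8048ffff81de2b650ffffffffffff7f48af671b95ba13a7ec7a25bffff81603ffffffff7d45ffffb1edffff3ffff7e5dffffffff7c448de81bf9a9f527b43a2deffffa3c83ffffffffffffaaec79437ad81ffffffffffff77c19866ffff2ffff7740ffffa96ba5d87a5a4ffffa8ebffff7640ffffffff2ffffffffffff96cd75bf9c621bb1fffff73be92e5754199653ffffffff72bdffffb36cffff3ffffffffffffb56a71bda7ea1bacc9fdbffff6fba8361713b2ffffffffffff6eb99042ffff2) (.L 0xffffffffb46ab06eae6bace30ffffac5fffffffffffffb0bc4ffffffffffffaa5affffabeb2ffffa857ffffa9d8adeeab6c4ffffffffb3eeb4d3b2eaa7530b260ffffffffffffa650ffff1bc0f8ce58a4dffff8bce8d5c3b5bd89cbffffa364ffffaedf4ffffa0e4ffff87cb97d9894c2b81a8c68ffff935586cb98d51ffffa066864affffffffffff3ffffffffffffafe3854aad6e1ffffffffffffffff84499cd61b9bc82489a4c8e4e83d293cf4))))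

noncomputable def wtree : WT := (.N 28 (.N 14 (.N 7 (.N 3 (.N 1 (.L 2 [4,2,4]) (.N 2 (.L 3 [4,1,0,1,2,1,0,1,4]) (.L 0 [4,1,0,1,0,1,0,1,0,4]))) (.N 5 (.N 4 (.L 1 [2,1,2,1,2]) (.L 3 [1,0,1,3,1,0,1])) (.N 6 (.L 2 [1,0,1,4,3,4,1,0,1]) (.L 0 [2,1,0,1,3,1,0,1,2,3])))) (.N 10 (.N 8 (.L 3 [0,1,3,2,1,0,1,2,0,1]) (.N 9 (.L 0 [4,0,1,0,1,0,1,0,1,4]) (.L 4 [1,0,1,4,1,0,1,4,1,0,1]))) (.N 12 (.N 11 (.L 0 [2,0,2]) (.L 0 [1,0,1,0,4,0,4,1,0,1])) (.N 13 (.L 3 [1,2,3,0,1,0,1,0,2,1,0]) (.L 0 [3,0,3]))))) (.N 21 (.N 17 (.N 15 (.L 2 [0,3,2,3]) (.N 16 (.L 4 [1,0,1,2,1,0,1,4,3]) (.L 3 [0,2,3,2]))) (.N 19 (.N 18 (.L 3 [1,3,1,0,1,2,1,0,1,0,2,1]) (.L 1 [3,0,1,0,1,2,1,0,1,2,1,3])) (.N 20 (.L 3 [0,3,0]) (.L 1 [4,1,0,4,1,4,1,0,4,1,4,1,0,4,1,4,1,0,4])))) (.N 24 (.N 22 (.L 1 [0,1,3,1,0,1,3]) (.N 23 (.L 0 [4,1,4,1,0,4,1,4,1,0,4,1,4,1,0,4,1,4,1]) (.L 0 [3,2,3,2]))) (.N 26 (.N 25 (.L 1 [0,1,2,1,0,1,4,3,4]) (.L 0 [1,0,1,4,0,4,0,1,0,1])) (.N 27 (.L 2 [1,0,1,2,0,1,3,1,3,1,0,1]) (.L 1 [2,1,3,0,1,0,1,0,1,2,1,3]))))))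 (.N 42 (.N 35 (.N 31 (.N 29 (.L 1 [0,2,3,1,0,1,0,1,2,1,3,2]) (.N 30 (.L 1 [0,1,0,1,3,1,2,1,0,1,2,3]) (.L 3 [0,1,3,1,2,1,0,1,2,1,0,1]))) (.N 33 (.N 32 (.L 2 [1,3,1,0,1,0,1,3,2,1,0,1]) (.L 0 [2,1,3,1,0,1,3,1,2])) (.N 34 (.L 3 [1,0,1,3,1,3,2,3,2,1]) (.L 2 [1,0,1,0,2,1,0,3,1,3])))) (.N 38 (.N 36 (.L 1 [2,3,1,3,2,1,3,1,3,1,2]) (.N 37 (.L 0 [1,3,1,3,1,0,1,2,1,0,1,2]) (.L 3 [2,0,2,1,3,2,1,0,1,0,2,1]))) (.N 40 (.N 39 (.L 3 [2,1,0,1,3,1,0,1,2,0]) (.L 4 [2,4,2])) (.N 41 (.L 3 [0,1,0,1,0,1,0,3,1,3,1,3,1]) (.L 0 [3,2,1,3,0,1,2,0,1,0,1]))))) (.N 49 (.N 45 (.N 43 (.L 4 [3,4,1,0,1,2,1,0,1]) (.N 44 (.L 4 [0,4,1,0,1,0,1,0,1,0]) (.L 1 [0,1,0,4,0,4,1,0,1,0]))) (.N 47 (.N 46 (.L 1 [2,1,0,1,4,3,4,1,0]) (.L 0 [2,3,1,0,1,2,0,1,0,3,1])) (.N 48 (.L 2 [0,1,2,1,2,1,0]) (.L 2 [0,2,0])))) (.N 53 (.N 51 (.N 50 (.L 0 [4,0,4,1,0,1,0,1,0,1]) (.L 1 [3,1,0,1,3,1,0])) (.N 52 (.L 5 [4,1,0,4,1,4,1,0,4,1,4,1,0,4,1,4,1,0,4,1]) (.L 1 [0,1,0,1,0,4,0,4,1,0]))) (.N 55 (.N 54 (.L 1 [3,0,1,2,3,0,1,0,1,0,2])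 (.L 3 [1,0,1,0,1,0,2,3,1,0,2,1,2])) (.N 56 (.L 2 [1,0,1,3,1,0,1,2,3,0]) (.L 5 [2,3,1,0,3,1,0,2,1,0,1])))))))

noncomputable def stree : ST := (.N 2 (.N 1 (.L 0 [] []) (.L 1 [] [])) (.N 3 (.L 2 [] []) (.L 3 [] [])))

noncomputable def C : Cert where
  data := tree
  lm := 15
  rb := 100
  fb := 16
  mask := 65535
  B := 128
  k := 5
  N := 110
  inv := fun x => x
  words := wtree
  subs := stree

/-- letters: 0 = c, 1 = d, 2 = e, 3 = j, 4 = w -/
def rels : List (List Nat) := [[0,2,0,2], [0,3,0,3], [4,2,4,2], [0,2,3,2,3], [1,2,1,2,1,2], [0,1,2,1,2,1,0,2], [0,1,3,1,0,1,3,1], [0,1,2,1,2,1,3,2,3], [0,2,3,1,2,1,2,1,3], [0,1,3,1,2,0,2,1,3,1], [0,1,3,1,3,0,3,1,3,1], [1,2,3,1,3,1,2,3,1,3], [4,1,0,1,2,1,0,1,4,3], [0,1,0,1,2,3,1,0,3,1,2], [0,1,0,1,2,3,1,3,0,1,2], [0,1,0,2,1,0,1,2,3,1,3], [0,1,2,0,1,3,0,1,3,2,1], [0,1,2,0,3,2,1,0,1,3,1], [0,1,3,1,2,3,2,3,1,3,1], [0,2,1,3,1,2,3,1,3,1,3], [4,0,4,1,0,1,0,1,0,1,0], [0,1,0,1,0,2,1,0,3,1,2,3], [0,1,0,1,0,2,1,3,0,1,2,3],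 [0,1,0,1,2,0,1,0,3,1,2,3], [0,1,0,1,2,1,3,2,1,3,2,1], [0,1,0,1,3,2,0,1,3,0,1,2], [0,1,0,2,1,0,1,3,0,2,1,3], [0,1,0,2,1,0,1,3,2,0,1,3], [0,1,0,3,1,0,3,1,0,3,1,3], [0,1,0,3,1,0,3,1,3,0,1,3], [0,1,2,1,2,1,0,1,2,1,2,1], [0,1,3,1,0,1,3,2,1,2,1,2], [0,2,1,3,1,3,0,3,1,3,1,2], [1,2,1,2,3,1,3,2,1,3,1,3], [1,0,1,4,1,0,1,4,1,0,1,4], [0,1,0,1,0,1,2,1,3,1,2,1,3], [0,1,0,1,2,1,0,1,2,1,3,1,3], [0,1,0,1,2,1,0,1,3,1,3,1,2], [0,1,0,1,2,1,0,2,3,1,3,2,1], [0,1,0,1,2,1,3,1,2,1,0,3,1], [0,1,0,1,2,1,3,2,1,0,2,3,1], [0,1,0,1,2,3,1,2,0,2,3,1,2], [0,1,0,1,3,1,2,1,0,1,2,3,1], [0,1,2,0,1,3,1,3,1,0,1,2,1], [0,1,2,0,1,3,2,0,2,1,3,2,1], [0,1,2,1,0,1,2,1,3,1,0,3,1], [0,1,3,0,1,3,2,1,3,0,3,1,2], [0,2,1,3,2,1,2,1,3,1,3,1,3], [0,2,1,3,2,1,3,1,3,1,2,1,3], [0,1,0,1,0,1,0,3,1,3,1,3,1,3], [0,1,0,1,0,1,2,1,3,2,1,0,3,2], [0,1,0,1,0,1,3,0,1,3,1,3,1,3], [0,1,0,1,0,1,3,1,3,1,3,0,1,3], [0,1,0,1,0,1,3,2,1,2,0,1,3,2], [0,1,0,1,3,2,1,3,2,3,1,2,3,1], [0,1,2,1,0,1,3,1,3,1,3,2,3,1], [0,1,3,0,1,3,1,2,1,3,2,3,1,2],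 [0,1,3,1,2,1,3,2,3,1,0,2,1,3], [0,1,3,2,3,1,0,2,1,3,1,3,1,2], [4,1,4,1,0,4,1,4,1,0,4,1,4,1,0,4,1,4,1,0]]

def subw : List (List Nat) := [[0], [1], [2], [3]]

/-- targets:  w -/
def targets : List (List Nat) := [[4]]

end Cfsg.Agent.ThType.ColAData
end

-- part: ThType/ColAChk0
section
set_option autoImplicit false
set_option maxRecDepth 100000

namespace Cfsg.Agent.ThType.ColAChk0

open Cfsg.Agent.SporadicRecognition.CosetCert Cfsg.Agent.Lib.CosetPartial Cfsg.Agent.ThType.ColAData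

theorem c0 : PartP C 0 64 := runP_sound C (by decide +kernel : runP C 10 1023 0x8010000000400000020000214c0100001008000080200001000020080000001008a3008000080000400004020000000000004330000294c0200402000000000200794000020040200a8300001008010080350c020080000400000020000000801000000000100802008000040000002005b3a4c0044c000040200400000000000000400008d30000000433000000080000801008020080100800008020040000801008020000078c000040200000001d30040100802008000040000002008000040048c0000802008010080140c02008a30041300002008000000000402000010080234c000080000402004000080200801000e3008233cc00004330080000053004b30040200c02000020000100000008000000000401008030088300800004000000200000008010040200c0200802000010cca3000000080200402000020040200800008010080230c0200402004020000208c0104c000082300000004330089310c53004630040000c0220c02000010cca30080000802004021cc02004020041300c0208c020d42505405 22 4194303 0x1d445c00000949c1c0000000000000000000001de017000000000000000000000000000000000000000000000000000000000000000000c0ecdc0000000000000000000000000000000026bb17000000ce42700000000000000000000001f501c00000000000000000000005671700000056747000000000001480dc751270000000000000000258a3700000000000000000000000ad11c000000000001271702391c00000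 0 64 = true)

theorem c1 : PartP C 64 110 := runP_sound C (by decide +kernel : runP C 10 1023 0x2c0c0200401000000031300000004000080100002b4ca300363dcf43004000000000400008010000264c0100003002e30080000633008f30000200643a8c010000000000002f30040200000000010080198da300a030080000400008000000000402acc0100c005cc0000400c8c003cc000000100aa300402000a300000008010080000001008000040000ec358c0200001000000000088c012cc00005f30080200001003530000000002004020080000583008000000100800004000000220c0000001000029ce1300953004930080200400000020040028c000080200801004000000200000000000080100801008020080100002000000040000002000930080000400000020000200401008000097300000005c328c004cc0254c01 22 4194303 0x33633911c003830000013ca1700000000000000002fc747bd3c5de66078f7c1c00000000000751470000000000000000000000000000ce4070000000000068e49c00000000000000004f28dc00000bb691de66470000000000000000000000000000000000000000000000000000000 64 46 = true)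

theorem all : PartP C 0 110 := (c0).append C c1

end Cfsg.Agent.ThType.ColAChk0
end

-- part: ThType/ColA
section
set_option autoImplicit false
set_option maxRecDepth 100000

namespace Cfsg.Agent.ThType.ColA

open Cfsg.Agent.SporadicRecognition.CosetCert Cfsg.Agent.Lib.CosetPartial Cfsg.Agent.ThType.ColAData

theorem part : PartP C 0 C.N := Cfsg.Agent.ThType.ColAChk0.all

/-- every target word lies in `H` as soon as the relators hold and the subgroup words lie in `H` -/
theorem mem {G : Type*} [Group G] (H : Subgroup G) (g : Nat → G)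
    (hinv : ∀ x, x < 5 → g x * g (C.inv x) = 1)
    (hrel : ∀ r ∈ rels, ev g r = 1) (hsub : ∀ s ∈ subw, ev g s ∈ H) :
    ∀ w ∈ targets, ev g w ∈ H :=
  mem_of_checks C H g rels subw targets (by decide +kernel) hinv hrel hsub part (by decide +kernel)

end Cfsg.Agent.ThType.ColA
end

-- part: ThType/ColBData
section
set_option autoImplicit false
set_option maxRecDepth 100000

namespace Cfsg.Agent.ThType.ColBData

open Cfsg.Agent.SporadicRecognition.CosetCert

noncomputable def tree : Tr := (.N 16 (.L 0xb0cfff910fff83566c0fff60bfff7d464f8f24fff7b4fff5cbffffff2ffffffffffff73358b0fffffffff6d15496901fff62f92b5ee5065ad1c034654e9fffffffff4b844044cab4956c4494bc3ffffff3643e83c52ffffff2a72c72642e71fff223fff4aa52b3264be348afff1c32053a82ba34293443882871830c222463031e51421a41c410a11020e21631224fff0c2081061041021f) (.L 0xfffffffffad8a94fff1fffffffffa57a12fff1fff951fff9b2a769d44b298b5fff8558108931fff78efff7efab89f64b69773fff75370d8751fff6ecfff996a378cf4fff976af16acffffff2))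

noncomputable def wtree : WT := (.N 9 (.N 4 (.N 2 (.N 1 (.L 2 [4,2,4]) (.L 3 [4,1,0,1,2,1,0,1,4])) (.N 3 (.L 0 [4,1,0,1,0,1,0,1,0,4]) (.L 1 [2,1,2,1,2]))) (.N 6 (.N 5 (.L 3 [1,0,1,3,1,0,1]) (.L 2 [1,0,1,4,3,4,1,0,1])) (.N 7 (.L 0 [2,1,0,1,3,1,0,1,2,3]) (.N 8 (.L 3 [0,1,3,2,1,0,1,2,0,1]) (.L 0 [4,0,1,0,1,0,1,0,1,4]))))) (.N 13 (.N 11 (.N 10 (.L 3 [1,0,2,1,0,1,2,3,1,0]) (.L 0 [2,0,2])) (.N 12 (.L 1 [4,1,4,1,4,1,4,1,4,1,4]) (.L 4 [1,0,1,4,1,0,1,4,1,0,1]))) (.N 15 (.N 14 (.L 0 [1,0,1,0,4,0,4,1,0,1]) (.L 4 [1,0,1,0,1,0,1,0,4,0])) (.N 16 (.L 3 [1,2,3,0,1,0,1,0,2,1,0]) (.N 17 (.L 2 [1,2,1,2,1]) (.L 5 [2,3,2,0,3]))))))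

noncomputable def stree : ST := (.N 2 (.N 1 (.L 0 [] []) (.L 1 [] [])) (.N 3 (.L 2 [] []) (.L 3 [] [])))

noncomputable def C : Cert where
  data := tree
  lm := 15
  rb := 76
  fb := 12
  mask := 4095
  B := 32
  k := 5
  N := 24
  inv := fun x => x
  words := wtree
  subs := stree

/-- letters: 0 = c, 1 = d, 2 = e, 3 = j, 4 = w -/
def rels : List (List Nat) := [[0,2,0,2], [0,3,0,3], [4,2,4,2], [0,2,3,2,3], [1,2,1,2,1,2], [0,1,2,1,2,1,0,2], [0,1,3,1,0,1,3,1], [0,1,2,1,2,1,3,2,3], [0,2,3,1,2,1,2,1,3], [0,1,3,1,2,0,2,1,3,1], [0,1,3,1,3,0,3,1,3,1], [1,2,3,1,3,1,2,3,1,3], [4,1,0,1,2,1,0,1,4,3], [0,1,0,1,2,3,1,0,3,1,2], [0,1,0,1,2,3,1,3,0,1,2], [0,1,0,2,1,0,1,2,3,1,3], [0,1,2,0,1,3,0,1,3,2,1], [0,1,2,0,3,2,1,0,1,3,1], [0,1,3,1,2,3,2,3,1,3,1], [0,2,1,3,1,2,3,1,3,1,3], [4,0,4,1,0,1,0,1,0,1,0], [0,1,0,1,0,2,1,0,3,1,2,3], [0,1,0,1,0,2,1,3,0,1,2,3], [0,1,0,1,2,0,1,0,3,1,2,3], [0,1,0,1,2,1,3,2,1,3,2,1], [0,1,0,1,3,2,0,1,3,0,1,2], [0,1,0,2,1,0,1,3,0,2,1,3], [0,1,0,2,1,0,1,3,2,0,1,3],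 [0,1,0,3,1,0,3,1,0,3,1,3], [0,1,0,3,1,0,3,1,3,0,1,3], [0,1,2,1,2,1,0,1,2,1,2,1], [0,1,3,1,0,1,3,2,1,2,1,2], [0,2,1,3,1,3,0,3,1,3,1,2], [1,2,1,2,3,1,3,2,1,3,1,3], [1,0,1,4,1,0,1,4,1,0,1,4], [4,1,4,1,4,1,4,1,4,1,4,1], [0,1,0,1,0,1,2,1,3,1,2,1,3], [0,1,0,1,2,1,0,1,2,1,3,1,3], [0,1,0,1,2,1,0,1,3,1,3,1,2], [0,1,0,1,2,1,0,2,3,1,3,2,1], [0,1,0,1,2,1,3,1,2,1,0,3,1], [0,1,0,1,2,1,3,2,1,0,2,3,1], [0,1,0,1,2,3,1,2,0,2,3,1,2], [0,1,0,1,3,1,2,1,0,1,2,3,1], [0,1,2,0,1,3,1,3,1,0,1,2,1], [0,1,2,0,1,3,2,0,2,1,3,2,1], [0,1,2,1,0,1,2,1,3,1,0,3,1], [0,1,3,0,1,3,2,1,3,0,3,1,2], [0,2,1,3,2,1,2,1,3,1,3,1,3], [0,2,1,3,2,1,3,1,3,1,2,1,3], [0,1,0,1,0,1,0,3,1,3,1,3,1,3], [0,1,0,1,0,1,2,1,3,2,1,0,3,2], [0,1,0,1,0,1,3,0,1,3,1,3,1,3], [0,1,0,1,0,1,3,1,3,1,3,0,1,3], [0,1,0,1,0,1,3,2,1,2,0,1,3,2], [0,1,0,1,3,2,1,3,2,3,1,2,3,1], [0,1,2,1,0,1,3,1,3,1,3,2,3,1], [0,1,3,0,1,3,1,2,1,3,2,3,1,2], [0,1,3,1,2,1,3,2,3,1,0,2,1,3], [0,1,3,2,3,1,0,2,1,3,1,3,1,2]]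

def subw : List (List Nat) := [[0], [1], [2], [3]]

/-- targets:  w -/
def targets : List (List Nat) := [[4]]

end Cfsg.Agent.ThType.ColBData
end

-- part: ThType/ColBChk0
section
set_option autoImplicit false
set_option maxRecDepth 100000

namespace Cfsg.Agent.ThType.ColBChk0

open Cfsg.Agent.SporadicRecognition.CosetCert Cfsg.Agent.Lib.CosetPartial Cfsg.Agent.ThType.ColBData

theorem c0 : PartP C 0 24 := runP_sound C (by decide +kernel : runP C 9 511 0x20601000000053008000200010cd46e30014c02020080004020130c005300b4c02000180906020980400000024c000200804000359808040000800000000000040100000040101009e60200808020200000000109d1004230000002330100086530098c02000180906020000466a30124c040200808e6020080802130180846021a8942a05 18 262143 0x16f17000011407000000000004580000000000000000000000120dd144790c9c00000000102271c81c47170911c0000 0 24 = true)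

theorem all : PartP C 0 24 := c0

end Cfsg.Agent.ThType.ColBChk0
end

-- part: ThType/ColB
section
set_option autoImplicit false
set_option maxRecDepth 100000

namespace Cfsg.Agent.ThType.ColB

open Cfsg.Agent.SporadicRecognition.CosetCert Cfsg.Agent.Lib.CosetPartial Cfsg.Agent.ThType.ColBData

theorem part : PartP C 0 C.N := Cfsg.Agent.ThType.ColBChk0.all

/-- every target word lies in `H` as soon as the relators hold and the subgroup words lie in `H` -/
theorem mem {G : Type*} [Group G] (H : Subgroup G) (g : Nat → G)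
    (hinv : ∀ x, x < 5 → g x * g (C.inv x) = 1)
    (hrel : ∀ r ∈ rels, ev g r = 1) (hsub : ∀ s ∈ subw, ev g s ∈ H) :
    ∀ w ∈ targets, ev g w ∈ H :=
  mem_of_checks C H g rels subw targets (by decide +kernel) hinv hrel hsub part (by decide +kernel)

end Cfsg.Agent.ThType.ColB
end

-- part: ThType/Collapse
section
/-!
Collapse certificates for the identification of a group of Thompson type (R05).
In an arbitrary group `G` with `RelC a c d e s t u`, let `w` be an involution with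
`w a w = c`, `[w, e] = 1`, `(d c d w)^3 = 1` and `w (k e k) w = c k u k u`, `k = d c d`.
If `(w (d w d) c)^4 = 1` (the `A6` case of `C_G(s)/<s>`) or `(w d)^6 = 1` (the bad hexagon)
then `w` lies in `<c, d, e, c k u k u>`, hence commutes with `a`, and `a = c`.
-/

set_option autoImplicit false
set_option maxRecDepth 100000

namespace Cfsg.Agent.ThType.Collapse

open Cfsg.Agent.Th.Base Cfsg.Agent.Th.Word Cfsg.Agent.Th.COracleDef Cfsg.Agent.Th.COracleSound

universe v

variable {G : Type v} [Group G]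

/-- the five letters of the certificates -/
def let5 (c d e j w : G) : ℕ → G
  | 0 => c
  | 1 => d
  | 2 => e
  | 3 => j
  | 4 => w
  | _ => 1

/-- substitution of the letters `c, d, e, j` by words in the letters of `RelC` -/
def subL : ℕ → List ℕ
  | 0 => [3]
  | 1 => [4]
  | 2 => [5]
  | _ => [3,4,3,4,10,4,3,4,10]

def subW : List ℕ → List ℕ
  | [] => []
  | x :: w => subL x ++ subW w

/-- only the letters `0..3` occur -/
def low (w : List ℕ) : Bool := w.all fun x => Nat.blt x 4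

theorem ev_subW (a b c d e s t u w : G) {r : List ℕ} (hr : low r = true) :
    Cfsg.Agent.SporadicRecognition.CosetCert.ev
      (let5 c d e (c * d * c * d * u * d * c * d * u) w) r = ev (gam a b c d e s t u) (subW r) := by
  induction r with
  | nil => rfl
  | cons x r ih =>
    have h1 : low r = true := by
      simp only [low, List.all_cons, Bool.and_eq_true] at hr ⊢
      exact hr.2
    have h2 : x < 4 := by
      simp only [low, List.all_cons, Bool.and_eq_true] at hr
      exact Nat.le_of_ble_eq_true hr.1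
    rw [Cfsg.Agent.SporadicRecognition.CosetCert.ev_cons, ih h1, subW, ev_append]
    congr 1
    interval_cases x <;> simp [let5, subL, gam, mul_assoc]

/-- the relators which involve `w` -/
def wrels : List (List ℕ) := [[4,2,4,2], [4,1,0,1,2,1,0,1,4,3], [4,0,4,1,0,1,0,1,0,1,0],
  [1,0,1,4,1,0,1,4,1,0,1,4]]

/-- every relator of the list is a `w`-relator or a true word in the letters of `RelC` -/
noncomputable def okA : Bool := ColAData.rels.all fun r => (low r && corc (subW r)) || decide (r ∈ wrels) ||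
  decide (r = [4,1,4,1,0,4,1,4,1,0,4,1,4,1,0,4,1,4,1,0])

noncomputable def okB : Bool := ColBData.rels.all fun r => (low r && corc (subW r)) || decide (r ∈ wrels) ||
  decide (r = [4,1,4,1,4,1,4,1,4,1,4,1])

theorem okA_true : okA = true := by decide +kernel

theorem okB_true : okB = true := by decide +kernel


/-- the hypotheses on `w` common to both cases -/
structure WRel (a c d e u w : G) : Prop where
  w2 : w * w = 1
  aw : w * a * w = c
  we : w * e = e * w
  kw : (d * c * d * w) ^ 3 = 1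
  jw : w * (d * c * d * e * (d * c * d)) * w = c * (d * c * d) * u * (d * c * d) * u

theorem sq_one {x : G} (h : x ^ 2 = 1) : x * x = 1 := by rw [← sq]; exact h

theorem inv_eq_self_of_sq {x : G} (h : x * x = 1) : x⁻¹ = x := inv_eq_of_mul_eq_one_left h

/-- true words of `C_G(a)` -/
theorem corc_gam {a c d e s t u : G} (hC : RelC a c d e s t u) {w : List ℕ} (hw : corc w = true) :
    ev (gam a 1 c d e s t u) w = 1 :=
  corc_sound (γ := gam a 1 c d e s t u)
    (invCompat_gam hC.a2 (one_pow 2) hC.c2 hC.d2 hC.e2) hC hw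

theorem wrels_ev {a c d e s t u w : G} (hC : RelC a c d e s t u) (h : WRel a c d e u w) :
    ∀ r ∈ wrels, Cfsg.Agent.SporadicRecognition.CosetCert.ev
      (let5 c d e (c * d * c * d * u * d * c * d * u) w) r = 1 := by
  have ha := sq_one hC.a2
  have hc := sq_one hC.c2
  have hd := sq_one hC.d2
  have he := sq_one hC.e2
  have hj : (c * d * c * d * u * d * c * d * u) * (c * d * c * d * u * d * c * d * u) = 1 := by
    have := corc_gam hC (w := [3,4,3,4,10,4,3,4,10] ++ [3,4,3,4,10,4,3,4,10]) (by decide +kernel)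
    simpa [gam, mul_assoc] using this
  have hcd : a = (c * d) ^ 4 := by
    have := hC.acd
    rwa [mul_inv_eq_one] at this
  intro r hr
  simp only [wrels, List.mem_cons, List.not_mem_nil, or_false] at hr
  rcases hr with rfl | rfl | rfl | rfl
  · simp only [Cfsg.Agent.SporadicRecognition.CosetCert.ev, List.map, List.prod_cons,
      List.prod_nil, let5, mul_one]
    calc w * (e * (w * e)) = w * e * (w * e) := by group
      _ = w * e * (e * w) := by rw [h.we]
      _ = w * (e * e) * w := by group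
      _ = 1 := by rw [he, mul_one, h.w2]
  · simp only [Cfsg.Agent.SporadicRecognition.CosetCert.ev, List.map, List.prod_cons,
      List.prod_nil, let5, mul_one]
    have := h.jw
    calc w * (d * (c * (d * (e * (d * (c * (d * (w * (c * d * c * d * u * d * c * d * u)))))))))
        = (w * (d * c * d * e * (d * c * d)) * w) * (c * d * c * d * u * d * c * d * u) := by
          simp only [mul_assoc]
      _ = (c * d * c * d * u * d * c * d * u) * (c * d * c * d * u * d * c * d * u) := by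
          rw [this]; simp only [mul_assoc]
      _ = 1 := hj
  · simp only [Cfsg.Agent.SporadicRecognition.CosetCert.ev, List.map, List.prod_cons,
      List.prod_nil, let5, mul_one]
    have h1 : w * c * w = a := by
      rw [← h.aw]
      calc w * (w * a * w) * w = (w * w) * a * (w * w) := by simp only [mul_assoc]
        _ = a := by rw [h.w2, one_mul, mul_one]
    have h2 : (c * d) ^ 4 * (d * c) ^ 4 = 1 := by
      have h3 : (d * c) = (c * d)⁻¹ := by
        rw [mul_inv_rev, inv_eq_self_of_sq hc, inv_eq_self_of_sq hd]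
      rw [h3, inv_pow, mul_inv_cancel]
    calc w * (c * (w * (d * (c * (d * (c * (d * (c * (d * c)))))))))
        = (w * c * w) * (d * c) ^ 4 := by simp only [pow_succ, pow_zero, one_mul, mul_assoc]
      _ = 1 := by rw [h1, hcd, h2]
  · simp only [Cfsg.Agent.SporadicRecognition.CosetCert.ev, List.map, List.prod_cons,
      List.prod_nil, let5, mul_one]
    have := h.kw
    simpa only [pow_succ, pow_zero, one_mul, mul_assoc] using this

theorem commute_closure {a c d e s t u : G} (hC : RelC a c d e s t u) {x : G}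
    (hx : x ∈ Subgroup.closure {c, d, e, c * d * c * d * u * d * c * d * u}) : x * a = a * x := by
  have hca : c * a = a * c := by
    have := corc_gam hC (w := [3,1,3,1]) (by decide +kernel)
    have h1 := sq_one hC.a2
    have h2 := sq_one hC.c2
    simp only [ev, gam, mul_one] at this
    calc c * a = (c * (a * (c * a))) * (a * c) := by
          rw [show c * (a * (c * a)) * (a * c) = c * a * (c * (a * a) * c) by simp only [mul_assoc],
            h1, mul_one, h2, mul_one]
      _ = a * c := by rw [this, one_mul]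
  have hda : d * a = a * d := by
    have := corc_gam hC (w := [4,1,4,1]) (by decide +kernel)
    have h1 := sq_one hC.a2
    have h2 := sq_one hC.d2
    simp only [ev, gam, mul_one] at this
    calc d * a = (d * (a * (d * a))) * (a * d) := by
          rw [show d * (a * (d * a)) * (a * d) = d * a * (d * (a * a) * d) by simp only [mul_assoc],
            h1, mul_one, h2, mul_one]
      _ = a * d := by rw [this, one_mul]
  have hea : e * a = a * e := by
    have := corc_gam hC (w := [5,1,5,1]) (by decide +kernel)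
    have h1 := sq_one hC.a2
    have h2 := sq_one hC.e2
    simp only [ev, gam, mul_one] at this
    calc e * a = (e * (a * (e * a))) * (a * e) := by
          rw [show e * (a * (e * a)) * (a * e) = e * a * (e * (a * a) * e) by simp only [mul_assoc],
            h1, mul_one, h2, mul_one]
      _ = a * e := by rw [this, one_mul]
  have hua : Commute u a := by
    have := hC.ua
    have h3 : u * a = a * u := by
      calc u * a = a * u * (u⁻¹ * a⁻¹ * u * a) := by group
        _ = a * u := by rw [this, mul_one]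
    exact h3
  have hca' : Commute c a := hca
  have hda' : Commute d a := hda
  have hea' : Commute e a := hea
  have key : ∀ y ∈ ({c, d, e, c * d * c * d * u * d * c * d * u} : Set G), Commute y a := by
    intro y hy
    simp only [Set.mem_insert_iff, Set.mem_singleton_iff] at hy
    rcases hy with rfl | rfl | rfl | rfl
    · exact hca'
    · exact hda'
    · exact hea'
    · exact ((((((((hca'.mul_left hda').mul_left hca').mul_left hda').mul_left hua).mul_left
        hda').mul_left hca').mul_left hda').mul_left hua)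
  induction hx using Subgroup.closure_induction with
  | mem y hy => exact key y hy
  | one => rw [one_mul, mul_one]
  | mul y z _ _ hy hz =>
    exact (Commute.mul_left (show Commute y a from hy) (show Commute z a from hz))
  | inv y _ hy => exact (Commute.inv_left (show Commute y a from hy))

theorem eq_of_mem {a c d e s t u w : G} (hC : RelC a c d e s t u) (h : WRel a c d e u w)
    (hw : w ∈ Subgroup.closure {c, d, e, c * d * c * d * u * d * c * d * u}) : a = c := by
  have h1 := commute_closure hC hw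
  rw [← h.aw, h1, mul_assoc, h.w2, mul_one]

/-- the `A6` case is impossible -/
theorem mem_A {a c d e s t u w : G} (hC : RelC a c d e s t u) (h : WRel a c d e u w)
    (h4 : (w * (d * w * d) * c) ^ 4 = 1) :
    w ∈ Subgroup.closure {c, d, e, c * d * c * d * u * d * c * d * u} := by
  have hc := sq_one hC.c2
  have hd := sq_one hC.d2
  have he := sq_one hC.e2
  have hj : (c * d * c * d * u * d * c * d * u) * (c * d * c * d * u * d * c * d * u) = 1 := by
    have := corc_gam hC (w := [3,4,3,4,10,4,3,4,10] ++ [3,4,3,4,10,4,3,4,10]) (by decide +kernel)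
    simpa [gam, mul_assoc] using this
  have := ColA.mem (Subgroup.closure {c, d, e, c * d * c * d * u * d * c * d * u})
    (let5 c d e (c * d * c * d * u * d * c * d * u) w) (by
      intro x hx
      interval_cases x
      · exact hc
      · exact hd
      · exact he
      · exact hj
      · exact h.w2) (by
      intro r hr
      have h0 := List.all_eq_true.mp okA_true r hr
      rw [Bool.or_eq_true, Bool.or_eq_true, Bool.and_eq_true, decide_eq_true_eq,
        decide_eq_true_eq] at h0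
      rcases h0 with (⟨h1, h2⟩ | h1) | rfl
      · rw [ev_subW a 1 c d e s t u w h1]
        exact corc_gam hC h2
      · exact wrels_ev hC h r h1
      · simp only [Cfsg.Agent.SporadicRecognition.CosetCert.ev, List.map, List.prod_cons,
          List.prod_nil, let5, mul_one]
        simpa only [pow_succ, pow_zero, one_mul, mul_assoc] using h4) (by
      intro r hr
      simp only [ColAData.subw, List.mem_cons, List.not_mem_nil, or_false] at hr
      rcases hr with rfl | rfl | rfl | rfl <;>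
        simp only [Cfsg.Agent.SporadicRecognition.CosetCert.ev, List.map, List.prod_cons,
          List.prod_nil, let5, mul_one] <;>
        exact Subgroup.subset_closure (by simp)) [4] (by simp [ColAData.targets])
  simpa [Cfsg.Agent.SporadicRecognition.CosetCert.ev, let5] using this

/-- the bad hexagon is impossible -/
theorem mem_B {a c d e s t u w : G} (hC : RelC a c d e s t u) (h : WRel a c d e u w)
    (h6 : (w * d) ^ 6 = 1) :
    w ∈ Subgroup.closure {c, d, e, c * d * c * d * u * d * c * d * u} := by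
  have hc := sq_one hC.c2
  have hd := sq_one hC.d2
  have he := sq_one hC.e2
  have hj : (c * d * c * d * u * d * c * d * u) * (c * d * c * d * u * d * c * d * u) = 1 := by
    have := corc_gam hC (w := [3,4,3,4,10,4,3,4,10] ++ [3,4,3,4,10,4,3,4,10]) (by decide +kernel)
    simpa [gam, mul_assoc] using this
  have := ColB.mem (Subgroup.closure {c, d, e, c * d * c * d * u * d * c * d * u})
    (let5 c d e (c * d * c * d * u * d * c * d * u) w) (by
      intro x hx
      interval_cases x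
      · exact hc
      · exact hd
      · exact he
      · exact hj
      · exact h.w2) (by
      intro r hr
      have h0 := List.all_eq_true.mp okB_true r hr
      rw [Bool.or_eq_true, Bool.or_eq_true, Bool.and_eq_true, decide_eq_true_eq,
        decide_eq_true_eq] at h0
      rcases h0 with (⟨h1, h2⟩ | h1) | rfl
      · rw [ev_subW a 1 c d e s t u w h1]
        exact corc_gam hC h2
      · exact wrels_ev hC h r h1
      · simp only [Cfsg.Agent.SporadicRecognition.CosetCert.ev, List.map, List.prod_cons,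
          List.prod_nil, let5, mul_one]
        simpa only [pow_succ, pow_zero, one_mul, mul_assoc] using h6) (by
      intro r hr
      simp only [ColBData.subw, List.mem_cons, List.not_mem_nil, or_false] at hr
      rcases hr with rfl | rfl | rfl | rfl <;>
        simp only [Cfsg.Agent.SporadicRecognition.CosetCert.ev, List.map, List.prod_cons,
          List.prod_nil, let5, mul_one] <;>
        exact Subgroup.subset_closure (by simp)) [4] (by simp [ColBData.targets])
  simpa [Cfsg.Agent.SporadicRecognition.CosetCert.ev, let5] using this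

/-- CASE A6 EXCLUDED: `(w (d w d) c)^4 = 1` forces `a = c` -/
theorem eq_A {a c d e s t u w : G} (hC : RelC a c d e s t u) (h : WRel a c d e u w)
    (h4 : (w * (d * w * d) * c) ^ 4 = 1) : a = c :=
  eq_of_mem hC h (mem_A hC h h4)

/-- BAD HEXAGON EXCLUDED: `(w d)^6 = 1` forces `a = c` -/
theorem eq_B {a c d e s t u w : G} (hC : RelC a c d e s t u) (h : WRel a c d e u w)
    (h6 : (w * d) ^ 6 = 1) : a = c :=
  eq_of_mem hC h (mem_B hC h h6)

end Cfsg.Agent.ThType.Collapse
end
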