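import Cfsg.Agent.ThType.SevenBase
import Mathlib.GroupTheory.Sylow
import Mathlib.GroupTheory.PGroup
import Mathlib.Tactic
import Cfsg.Prelude.Def_Sporadic
import Cfsg.Agent.ThType.CSideMain_mg
import Cfsg.Agent.ThType.SevenG2
import Cfsg.Agent.TwoFusion.ClosingPrime
import Cfsg.Agent.SporRec.TCUpperCert
import Cfsg.Agent.Th.Base
set_option linter.all false

-- part: ThType/SevenG6
section
set_option autoImplicit false

namespace Cfsg.Agent.ThType.SevenG6

open Cfsg.Agent.Th Cfsg.Agent.Th.MatEngine Cfsg.Agent.Th.Words248 Cfsg.Agent.Th.Gen248 Cfsg.Agent.Th.Hom248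
  Cfsg.Agent.ThType.SevenData Cfsg.Agent.ThType.SevenBase

set_option maxRecDepth 100000
set_option maxHeartbeats 400000

/-- first part of the word `edubaUbSUdSUSdusdbuabUdec` -/
def wg6_1 : Wd := (.mul (.mul (.mul (.mul (.mul (.mul (.mul (.mul (.mul (.mul (.mul (.g .e) (.g .d)) (.g .u)) (.g .b)) (.g .a)) (.g .U)) (.g .b)) (.g .S)) (.g .U)) (.g .d)) (.g .S)) (.g .U))

/-- second part of the word `edubaUbSUdSUSdusdbuabUdec` -/
def wg6_2 : Wd := (.mul (.mul (.mul (.mul (.mul (.mul (.mul (.mul (.mul (.mul (.mul (.mul (.g .S) (.g .d)) (.g .u)) (.g .s)) (.g .d)) (.g .b)) (.g .u)) (.g .a)) (.g .b)) (.g .U)) (.g .d)) (.g .e)) (.g .c))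

/-- the conjugating word `edubaUbSUdSUSdusdbuabUdec` -/
def g6 : Wd := .mul wg6_1 wg6_2

theorem ck_g6_1 : Nat.beq (evN false wg6_1) (expd mg6_1) = true := by decide +kernel

theorem ck_g6_2 : Nat.beq (Words248.mul (expd mg6_1) (evN false wg6_2)) (expd mg6_2) = true := by decide +kernel

theorem rep_g6 : Rep (expd mg6_2) (evG g6) :=
  (((rep_word wg6_1).of_beq ck_g6_1).mul (rep_word wg6_2)).of_beq ck_g6_2

theorem ck_g6 : Nat.beq (Words248.mul (evN false (.pow (.g .s) 2)) (expd mg6_2))
    (Words248.mul (expd mg6_2) (Words248.mul (pm .s) (powN (expd my) 6))) = true := by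
  decide +kernel

theorem e6 : evG (.g .s) ^ 2 * evG g6 = evG g6 * (evG (.g .s) * evG wy ^ 6) := by
  have h1 := (rep_word (.pow (.g .s) 2)).mul rep_g6
  exact (h1.of_beq ck_g6).eq (rep_g6.mul ((rep_word (.g .s)).mul (rep_pow rep_my 6)))


end Cfsg.Agent.ThType.SevenG6
end

-- part: ThType/SevenAbstract
section
/-!
# Elements of order 7 commuting with involutions: abstract part

A finite group `G` with `7³ ∤ |G|` and two commuting elements `s`, `y` of order 7 with `y ∉ ⟨s⟩`: every
element of order 7 is conjugate to some `s^i y^j` (`exists_conj_eq`). With a few conjugations this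
shows that every element of order 7 commutes with an involution (`exists_involution`).
-/

set_option autoImplicit false

namespace Cfsg.Agent.ThType.SevenAbstract

variable {G : Type*} [Group G]

/-- the subgroup `⟨s, y⟩` for commuting elements `s`, `y` of exponent 7 -/
def grp (s y : G) (hs : s ^ 7 = 1) (hy : y ^ 7 = 1) (hsy : Commute s y) : Subgroup G where
  carrier := {x | ∃ i j : ℕ, x = s ^ i * y ^ j}
  mul_mem' := by
    rintro _ _ ⟨i, j, rfl⟩ ⟨i', j', rfl⟩
    refine ⟨i + i', j + j', ?_⟩
    rw [pow_add, pow_add]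
    have := (hsy.pow_pow i' j).eq
    calc s ^ i * y ^ j * (s ^ i' * y ^ j') = s ^ i * (y ^ j * s ^ i') * y ^ j' := by group
      _ = s ^ i * (s ^ i' * y ^ j) * y ^ j' := by rw [this]
      _ = _ := by group
  one_mem' := ⟨0, 0, by simp⟩
  inv_mem' := by
    rintro _ ⟨i, j, rfl⟩
    refine ⟨6 * i, 6 * j, ?_⟩
    rw [inv_eq_iff_mul_eq_one]
    have := (hsy.pow_pow (6 * i) j).eq
    calc s ^ i * y ^ j * (s ^ (6 * i) * y ^ (6 * j)) = s ^ i * (y ^ j * s ^ (6 * i)) * y ^ (6 * j) := by group
      _ = s ^ i * (s ^ (6 * i) * y ^ j) * y ^ (6 * j) := by rw [this]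
      _ = s ^ (7 * i) * y ^ (7 * j) := by
        rw [← mul_assoc, ← pow_add, mul_assoc, ← pow_add]
        congr 2 <;> ring
      _ = 1 := by rw [pow_mul, pow_mul, hs, hy, one_pow, one_pow, one_mul]

theorem mem_grp {s y : G} {hs : s ^ 7 = 1} {hy : y ^ 7 = 1} {hsy : Commute s y} {x : G} :
    x ∈ grp s y hs hy hsy ↔ ∃ i j : ℕ, x = s ^ i * y ^ j := Iff.rfl

theorem pow_seven {s y : G} (hs : s ^ 7 = 1) (hy : y ^ 7 = 1) (hsy : Commute s y) {x : G}
    (hx : x ∈ grp s y hs hy hsy) : x ^ 7 = 1 := by
  obtain ⟨i, j, rfl⟩ := hx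
  rw [(hsy.pow_pow i j).mul_pow, ← pow_mul, ← pow_mul, mul_comm i 7, mul_comm j 7, pow_mul, pow_mul, hs, hy,
    one_pow, one_pow, one_mul]

theorem isPGroup_grp {s y : G} (hs : s ^ 7 = 1) (hy : y ^ 7 = 1) (hsy : Commute s y) :
    IsPGroup 7 (grp s y hs hy hsy) := by
  intro x
  refine ⟨1, ?_⟩
  apply Subtype.ext
  rw [pow_one]
  exact pow_seven hs hy hsy x.2

/-- every element of order 7 is conjugate to an element of `⟨s, y⟩` -/
theorem exists_conj_eq [Finite G] {s y : G} (hs : s ^ 7 = 1) (hs1 : s ≠ 1) (hy : y ^ 7 = 1) (hsy : Commute s y)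
    (hns : y ∉ Subgroup.zpowers s) (h49 : ¬ 7 ^ 3 ∣ Nat.card G) {k : G} (hk : orderOf k = 7) :
    ∃ g : G, ∃ i j : ℕ, g * k * g⁻¹ = s ^ i * y ^ j := by
  classical
  have : Fact (Nat.Prime 7) := ⟨by norm_num⟩
  obtain ⟨Q, hQ⟩ := (isPGroup_grp hs hy hsy).exists_le_sylow
  -- the cardinality of `Q` is at most 49
  have hcardQ : ∃ n, n ≤ 2 ∧ Nat.card Q = 7 ^ n := by
    obtain ⟨n, hn⟩ := IsPGroup.iff_card.1 Q.isPGroup'
    refine ⟨n, ?_, hn⟩
    by_contra hlt
    push Not at hlt
    apply h49
    refine (pow_dvd_pow 7 hlt).trans ?_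
    rw [← hn]
    exact Subgroup.card_subgroup_dvd_card _
  have hle : Nat.card Q ≤ Nat.card (grp s y hs hy hsy) := by
    obtain ⟨n, hn2, hn⟩ := hcardQ
    obtain ⟨m, hm⟩ := IsPGroup.iff_card.1 (isPGroup_grp hs hy hsy)
    have hsmem : s ∈ grp s y hs hy hsy := ⟨1, 0, by simp⟩
    have hymem : y ∈ grp s y hs hy hsy := ⟨0, 1, by simp⟩
    have horder : orderOf s = 7 := orderOf_eq_prime hs hs1
    have hlt : Subgroup.zpowers s < grp s y hs hy hsy := by
      refine lt_of_le_of_ne (Subgroup.zpowers_le.2 hsmem) ?_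
      intro heq
      apply hns
      rw [heq]
      exact hymem
    have h7 : Nat.card (Subgroup.zpowers s) = 7 := by rw [Nat.card_zpowers, horder]
    have hlt' : Nat.card (Subgroup.zpowers s) < Nat.card (grp s y hs hy hsy) := by
      apply Set.ncard_lt_ncard (s := (Subgroup.zpowers s : Set G)) (t := (grp s y hs hy hsy : Set G))
      exact hlt
    rw [h7, hm] at hlt'
    have hm2 : 2 ≤ m := by
      by_contra hcon
      have : m ≤ 1 := by omega
      have := Nat.pow_le_pow_right (n := 7) (by norm_num) this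
      omega
    rw [hn, hm]
    exact Nat.pow_le_pow_right (by norm_num) (hn2.trans hm2)
  have heq : grp s y hs hy hsy = (Q : Subgroup G) := by
    apply Subgroup.eq_of_le_of_card_ge hQ
    exact hle
  -- conjugate `k` into `Q`
  have hkp : IsPGroup 7 (Subgroup.zpowers k) := by
    apply IsPGroup.of_card (n := 1)
    rw [Nat.card_zpowers, hk, pow_one]
  obtain ⟨R, hR⟩ := hkp.exists_le_sylow
  obtain ⟨g, hg⟩ := MulAction.exists_smul_eq G R Q
  refine ⟨g, ?_⟩
  have hkR : k ∈ (R : Subgroup G) := hR (Subgroup.mem_zpowers k)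
  have hkQ : g * k * g⁻¹ ∈ (Q : Subgroup G) := by
    rw [← hg, Sylow.coe_subgroup_smul]
    exact Subgroup.smul_mem_pointwise_smul _ (MulAut.conj g) _ hkR
  rw [← heq] at hkQ
  exact hkQ

/-- `x` commutes with an involution -/
def CI (x : G) : Prop := ∃ σ : G, orderOf σ = 2 ∧ σ * x = x * σ

theorem CI.pow {x : G} (h : CI x) (n : ℕ) : CI (x ^ n) := by
  obtain ⟨σ, h2, hc⟩ := h
  exact ⟨σ, h2, ((show Commute σ x from hc).pow_right n).eq⟩

theorem CI.of_conj {x y g : G} (h : CI x) (hg : x * g = g * y) : CI y := by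
  obtain ⟨σ, h2, hc⟩ := h
  refine ⟨g⁻¹ * σ * g, ?_, ?_⟩
  · rw [← h2]
    have : g⁻¹ * σ * g = g⁻¹ * σ * (g⁻¹)⁻¹ := by rw [inv_inv]
    rw [this]
    exact orderOf_injective (MulAut.conj g⁻¹).toMonoidHom (MulAut.conj g⁻¹).injective σ
  · have hy : y = g⁻¹ * x * g := by rw [mul_assoc, hg]; group
    rw [hy]
    calc g⁻¹ * σ * g * (g⁻¹ * x * g) = g⁻¹ * (σ * x) * g := by group
      _ = g⁻¹ * (x * σ) * g := by rw [hc]
      _ = g⁻¹ * x * g * (g⁻¹ * σ * g) := by group

theorem solve : ∀ i < 7, ∀ j < 7, i = 0 ∨ ∃ k < 7, (k * i) % 7 = j := by decide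

/-- Every element of order 7 commutes with an involution. -/
theorem exists_involution [Finite G] {s y t a gY g2 g6 : G} {n₁ n₂ n₃ : ℕ} (hs : s ^ 7 = 1) (hs1 : s ≠ 1) (hy : y ^ 7 = 1)
    (hsy : s * y = y * s) (h49 : ¬ 7 ^ 3 ∣ Nat.card G) (ha : orderOf a = 2) (has : a * s = s * a)
    (hay : a * y ≠ y * a) (hts : s * t = t * s ^ 2) (hty : y * t = t * y)
    (hgY : s ^ n₁ * gY = gY * y) (hg2 : s ^ n₂ * g2 = g2 * (s * y ^ 2)) (hg6 : s ^ n₃ * g6 = g6 * (s * y ^ 6))
    {k : G} (hk : orderOf k = 7) : CI k := by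
  have hns : y ∉ Subgroup.zpowers s := by
    rintro ⟨n, rfl⟩
    apply hay
    exact ((show Commute a s from has).zpow_right n).eq
  have hC : Commute s y := hsy
  have hCs : CI s := ⟨a, ha, has⟩
  have hCy : CI y := (hCs.pow n₁).of_conj hgY
  have hC2 : CI (s * y ^ 2) := (hCs.pow n₂).of_conj hg2
  have hC6 : CI (s * y ^ 6) := (hCs.pow n₃).of_conj hg6
  -- conjugation by `t` multiplies the slope by 4
  have hstep : ∀ n m : ℕ, (4 * n) % 7 = m → CI (s * y ^ n) → CI (s * y ^ m) := by
    intro n m hnm h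
    have h1 : CI (s ^ 2 * y ^ n) := by
      refine h.of_conj (g := t) ?_
      have : y ^ n * t = t * y ^ n := ((show Commute y t from hty).pow_left n).eq
      rw [mul_assoc, this, ← mul_assoc, hts, mul_assoc]
    have h2 := h1.pow 4
    rw [((hC.pow_pow 2 n)).mul_pow, ← pow_mul, ← pow_mul] at h2
    have h3 : s ^ (2 * 4) = s := by
      rw [show 2 * 4 = 7 + 1 by norm_num, pow_succ, hs, one_mul]
    have h4 : y ^ (n * 4) = y ^ m := by
      rw [pow_eq_pow_mod (n * 4) hy, mul_comm, hnm]
    rw [h3, h4] at h2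
    exact h2
  have hC1 : CI (s * y ^ 1) := hstep 2 1 (by norm_num) hC2
  have hC4 : CI (s * y ^ 4) := hstep 1 4 (by norm_num) hC1
  have hC3 : CI (s * y ^ 3) := hstep 6 3 (by norm_num) hC6
  have hC5 : CI (s * y ^ 5) := hstep 3 5 (by norm_num) hC3
  have hall : ∀ n < 7, CI (s * y ^ n) := by
    intro n hn
    interval_cases n
    · simpa using hCs
    · exact hC1
    · exact hC2
    · exact hC3
    · exact hC4
    · exact hC5
    · exact hC6
  obtain ⟨g, i, j, hg⟩ := exists_conj_eq hs hs1 hy hC hns h49 hk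
  have hP : CI (s ^ i * y ^ j) := by
    rw [pow_eq_pow_mod i hs, pow_eq_pow_mod j hy]
    rcases solve (i % 7) (Nat.mod_lt _ (by norm_num)) (j % 7) (Nat.mod_lt _ (by norm_num)) with h0 | ⟨n, hn, hnj⟩
    · rw [h0, pow_zero, one_mul]
      exact hCy.pow _
    · have := (hall n hn).pow (i % 7)
      rw [(hC.pow_right n).mul_pow, ← pow_mul, pow_eq_pow_mod (n * (i % 7)) hy, hnj] at this
      exact this
  refine hP.of_conj (g := g) ?_
  rw [← hg]
  group

end Cfsg.Agent.ThType.SevenAbstract
end

-- part: ThType/Seven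
section
/-!
# Every element of order 7 of the presented Thompson group commutes with an involution

Conditional on `IsTh Spor.Th` (order and simplicity, S1700), given as a hypothesis.
-/

set_option autoImplicit false

namespace Cfsg.Agent.ThType.Seven

open Cfsg.Agent.Th.Gen248 Cfsg.Agent.Th.Hom248 Cfsg.Agent.ThType.SevenBase
  Cfsg.Agent.ThType.SevenGY Cfsg.Agent.ThType.SevenG2 Cfsg.Agent.ThType.SevenG6 Cfsg.Agent.ThType.SevenAbstract

/-- the value of a word in the presented Thompson group -/
noncomputable def W (w : Wd) : Cfsg.Spor.Th := PresentedGroup.mk _ (toFree w)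

theorem rho_W (w : Wd) : rho (W w) = evG w := rho_mk w

theorem W_mul (x y : Wd) : W (.mul x y) = W x * W y := map_mul _ _ _

theorem W_inv (x : Wd) : W (.inv x) = (W x)⁻¹ := map_inv _ _

theorem W_pow (x : Wd) (n : ℕ) : W (.pow x n) = W x ^ n := map_pow _ _ _

theorem W_one : W .one = 1 := map_one _

/-- the 248-dimensional representation is faithful -/
theorem rho_injective (h : Cfsg.IsTh Cfsg.Spor.Th) : Function.Injective rho := by
  have := h.1
  rw [← MonoidHom.ker_eq_bot_iff]
  rcases IsSimpleGroup.eq_bot_or_eq_top_of_normal rho.ker inferInstance with h1 | h1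
  · exact h1
  · exfalso
    apply evG_ne ck_a
    have h2 : W (.g .a) ∈ rho.ker := by rw [h1]; trivial
    rw [MonoidHom.mem_ker, rho_W] at h2
    rw [h2]
    rfl

theorem W_eq (h : Cfsg.IsTh Cfsg.Spor.Th) {v w : Wd} (hvw : evG v = evG w) : W v = W w := by
  apply rho_injective h
  rw [rho_W, rho_W]
  exact hvw

theorem W_ne {v w : Wd} (hvw : evG v ≠ evG w) : W v ≠ W w := by
  intro heq
  apply hvw
  rw [← rho_W, ← rho_W, heq]

/-- Every element of order 7 of `Spor.Th` commutes with an involution. -/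
theorem exists_involution_Th (h : Cfsg.IsTh Cfsg.Spor.Th) {k : Cfsg.Spor.Th} (hk : orderOf k = 7) :
    ∃ σ : Cfsg.Spor.Th, orderOf σ = 2 ∧ σ * k = k * σ := by
  have : Finite Cfsg.Spor.Th := Nat.finite_of_card_ne_zero (by rw [h.2]; norm_num)
  have hrel : ∀ w ∈ ws, W w = 1 := by
    intro w hw
    apply PresentedGroup.mk_eq_one_iff.2
    apply Subgroup.subset_normalClosure
    right
    rw [Set.mem_ofPred_eq, extra_eq]
    exact List.mem_map_of_mem hw
  have ra : W w1 = 1 := hrel w1 (by simp [ws])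
  have rs : W w15 = 1 := hrel w15 (by simp [ws])
  have rsa : W w16 = 1 := hrel w16 (by simp [ws])
  have rtb : W w23 = 1 := hrel w23 (by simp [ws])
  have rtc : W w24 = 1 := hrel w24 (by simp [ws])
  have rtd : W w25 = 1 := hrel w25 (by simp [ws])
  have rst : W w27 = 1 := hrel w27 (by simp [ws])
  have hcomm : ∀ p q : Cfsg.Spor.Th, p⁻¹ * q⁻¹ * p * q = 1 → p * q = q * p := by
    intro p q hpq
    have h1 : q * p * (p⁻¹ * q⁻¹ * p * q) = p * q := by group
    rw [← h1, hpq, mul_one]
  have htb : W (.g .t) * W (.g .b) = W (.g .b) * W (.g .t) := by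
    apply hcomm
    rw [← rtb]
    simp only [w23, W_mul, W_inv]
  have htc : W (.g .t) * W (.g .c) = W (.g .c) * W (.g .t) := by
    apply hcomm
    rw [← rtc]
    simp only [w24, W_mul, W_inv]
  have htd : W (.g .t) * W (.g .d) = W (.g .d) * W (.g .t) := by
    apply hcomm
    rw [← rtd]
    simp only [w25, W_mul, W_inv]
  have hsa : W (.g .s) * W (.g .a) = W (.g .a) * W (.g .s) := by
    apply hcomm
    rw [← rsa]
    simp only [w16, W_mul, W_inv]
  refine exists_involution (s := W (.g .s)) (y := W wy) (t := W (.g .t)) (a := W (.g .a)) (gY := W gY) (g2 := W g2)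
    (g6 := W g6) (n₁ := 2) (n₂ := 1) (n₃ := 2) ?_ ?_ ?_ ?_ ?_ ?_ ?_ ?_ ?_ ?_ ?_ ?_ ?_ hk
  · rw [← W_pow]; exact rs
  · rw [← W_one]; exact W_ne (evG_ne ck_s)
  · rw [← W_pow, ← W_one]; exact W_eq h y7
  · rw [← W_mul, ← W_mul]; exact W_eq h sy
  · rw [h.2]; norm_num
  · apply orderOf_eq_prime
    · rw [← W_pow]; exact ra
    · rw [← W_one]; exact W_ne (evG_ne ck_a)
  · exact hsa.symm
  · rw [← W_mul, ← W_mul]; exact W_ne ay
  · have h1 : (W (.g .t))⁻¹ * W (.g .s) * W (.g .t) * (W (.g .s) ^ 2)⁻¹ = 1 := by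
      rw [← rst]
      simp only [w27, W_mul, W_inv, W_pow]
    rw [mul_inv_eq_one] at h1
    rw [← h1]
    group
  · have hb : Commute (W (.g .b)) (W (.g .t)) := htb.symm
    have hc : Commute (W (.g .c)) (W (.g .t)) := htc.symm
    have hd : Commute (W (.g .d)) (W (.g .t)) := htd.symm
    have : W wy = W (.g .c) * W (.g .b) * W (.g .d) * W (.g .c) * W (.g .d) := by
      simp only [wy, W_mul]
    rw [this]
    exact ((((hc.mul_left hb).mul_left hd).mul_left hc).mul_left hd).eq
  · rw [← W_pow, ← W_mul, ← W_mul]; exact W_eq h eY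
  · rw [← W_pow, ← W_pow, ← W_mul, ← W_mul, ← W_mul]; exact W_eq h e2
  · rw [← W_pow, ← W_pow, ← W_mul, ← W_mul, ← W_mul]; exact W_eq h e6

end Cfsg.Agent.ThType.Seven
end

-- part: ThType/Close
section
/-!
# The closing step for the Thompson type (project R05)

`eq_top_of_Th`: a subgroup `H` of the finite group `G`, isomorphic to the presented Thompson group,
containing the centraliser of one of its involutions `t` (`49 ∤ |C_G(t)|`) and with one class of
involutions is `G`.
`eq_top`: the same with the data of the project (`SpinAt`, `E`, `N_G(E)`).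
`oneClass_G`: all involutions of `G` are conjugate.
-/

set_option autoImplicit false

namespace Cfsg.Agent.ThType.Close

open Cfsg.Agent.ThType.SpinData Cfsg.Agent.ThType.Squares

variable {G : Type*} [Group G] [Finite G]

/-- an involution of `H` is `H`-conjugate into a subgroup of odd index -/
theorem exists_conj_mem_of_odd {H C : Subgroup G} (_hCH : C ≤ H) (hodd : Odd (C.relIndex H)) {x : G}
    (hx : x ∈ H) (hx2 : x * x = 1) : ∃ g ∈ H, g⁻¹ * x * g ∈ C := by
  classical
  have : Fact (Nat.Prime 2) := ⟨Nat.prime_two⟩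
  let X : Subgroup H := Subgroup.zpowers ⟨x, hx⟩
  have hX : IsPGroup 2 X := by
    intro y
    obtain ⟨n, hn⟩ := y.2
    refine ⟨1, ?_⟩
    apply Subtype.ext
    have h1 : ((⟨x, hx⟩ : H)) ^ 2 = 1 := by
      apply Subtype.ext
      show x ^ 2 = 1
      rw [pow_two, hx2]
    show (y : H) ^ (2 ^ 1) = 1
    rw [← hn, pow_one]
    show ((⟨x, hx⟩ : H) ^ n) ^ 2 = 1
    rw [← zpow_natCast, zpow_comm, zpow_natCast, h1, one_zpow]
  have hcard : ¬ 2 ∣ Nat.card (H ⧸ C.subgroupOf H) := by
    have : Nat.card (H ⧸ C.subgroupOf H) = C.relIndex H := rfl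
    rw [this]
    exact fun h => (Nat.not_even_iff_odd.2 hodd) (even_iff_two_dvd.2 h)
  obtain ⟨q, hq⟩ := hX.nonempty_fixed_point_of_prime_not_dvd_card (H ⧸ C.subgroupOf H) hcard
  obtain ⟨g, rfl⟩ := QuotientGroup.mk_surjective q
  refine ⟨g.1, g.2, ?_⟩
  have h1 := hq ⟨⟨x, hx⟩, Subgroup.mem_zpowers _⟩
  have h2 : ((⟨x, hx⟩ * g : H) : H ⧸ C.subgroupOf H) = (g : H ⧸ C.subgroupOf H) := h1
  rw [eq_comm, QuotientGroup.eq, Subgroup.mem_subgroupOf] at h2
  have h3 : (g.1)⁻¹ * (x * g.1) ∈ C := h2
  rwa [← mul_assoc] at h3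

/-- A subgroup isomorphic to the presented Thompson group, containing the centraliser of an
involution and with one class of involutions, is the whole group. -/
theorem eq_top_of_Th (hTh : Cfsg.IsTh Cfsg.Spor.Th) {H : Subgroup G} (e : Nonempty (H ≃* Cfsg.Spor.Th))
    {t : G} (ht : orderOf t = 2) (hC : Subgroup.centralizer ({t} : Set G) ≤ H)
    (h49 : ¬ 49 ∣ Nat.card (Subgroup.centralizer ({t} : Set G)))
    (hone : ∀ x ∈ H, orderOf x = 2 → ∃ g ∈ H, g * t * g⁻¹ = x) : H = ⊤ := by
  obtain ⟨f⟩ := e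
  refine Cfsg.Agent.TwoFusion.ClosingPrime.eq_top_of_prime ht hC hone 7 (by norm_num) ?_ ?_
  · -- divisibility
    by_contra h7
    have hcop : Nat.Coprime 49 ((Subgroup.centralizer ({t} : Set G)).relIndex H) := by
      have : Nat.Coprime 7 ((Subgroup.centralizer ({t} : Set G)).relIndex H) :=
        (Nat.Prime.coprime_iff_not_dvd (by norm_num)).2 h7
      exact Nat.Coprime.pow_left 2 this
    have h1 : Nat.card H = 90745943887872000 := by
      rw [Nat.card_congr f.toEquiv]; exact hTh.2
    have h2 : Nat.card (Subgroup.centralizer ({t} : Set G)) *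
        (Subgroup.centralizer ({t} : Set G)).relIndex H = Nat.card H := by
      rw [← Subgroup.relIndex_bot_left, ← Subgroup.relIndex_bot_left]
      exact Subgroup.relIndex_mul_relIndex _ _ _ bot_le hC
    apply h49
    apply hcop.dvd_of_dvd_mul_right
    rw [h2, h1]
    norm_num
  · intro k hk hk7
    have h1 : orderOf (f ⟨k, hk⟩) = 7 := by
      rw [← hk7, ← Subgroup.orderOf_mk k hk]
      exact orderOf_injective f.toMonoidHom f.injective _
    obtain ⟨σ, hσ2, hσ⟩ := Seven.exists_involution_Th hTh h1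
    refine ⟨(f.symm σ).1, (f.symm σ).2, ?_, ?_⟩
    · rw [Subgroup.orderOf_coe, ← hσ2]
      exact orderOf_injective f.symm.toMonoidHom f.symm.injective _
    · have h2 : f.symm σ * ⟨k, hk⟩ = ⟨k, hk⟩ * f.symm σ := by
        apply f.injective
        rw [map_mul, map_mul, f.apply_symm_apply]
        exact hσ
      exact congrArg Subtype.val h2

section spin

variable {z : G} (S : SpinAt G z) {E : Subgroup G} (hE : IsE S E) (ht : Trans z E)
  (hcent : ∀ x, (∀ e ∈ E, x * e = e * x) → x ∈ E)
include S hE ht hcent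

/-- every noncentral involution of `Q` is conjugate to `z` in every subgroup containing `C_G(z)` and
`N_G(E)` -/
theorem conj_Q {K : Subgroup G} (hCK : ∀ x, x * z = z * x → x ∈ K)
    (hNK : ∀ g, (∀ e ∈ E, g * e * g⁻¹ ∈ E) → g ∈ K) :
    ∀ x ∈ S.Q, x * x = 1 → x ≠ 1 → ∃ g ∈ K, g * z * g⁻¹ = x := by
  intro x hx hx2 hx1
  by_cases hxz : x = z
  · subst hxz
    exact ⟨1, K.one_mem, by group⟩
  -- a noncentral element of `E`
  obtain ⟨y, hy, hyπ⟩ := S.π_surj (Pi.single 0 1)
  have hyE : y ∈ E := by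
    rw [hE]
    refine ⟨hy, ?_⟩
    rw [hyπ]
    decide
  have hy0 : S.π y ≠ 0 := by
    rw [hyπ]
    decide
  have hy1 : y ≠ 1 := by
    rintro rfl
    exact hy0 (ElemE.pi_one S)
  have hyz : y ≠ z := by
    rintro rfl
    exact hy0 (ElemE.pi_z S)
  have hy2 : y * y = 1 := E_sq S hE hyE
  obtain ⟨g, hg, hgE⟩ := ht y hyE hy1
  obtain ⟨h, hh, hhy⟩ := ElemE.conj_in_C S hy hy1 hyz hy2 hx hx1 hxz hx2
  refine ⟨h * g, K.mul_mem (hCK h hh) (hNK g hgE), ?_⟩
  rw [← hhy, ← hg]
  group

/-- one class of involutions in every subgroup `K ≥ C_G(z), N_G(E)` in which `C_G(z)` has odd index -/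
theorem oneClass_K {K : Subgroup G} (hCK : ∀ x, x * z = z * x → x ∈ K)
    (hNK : ∀ g, (∀ e ∈ E, g * e * g⁻¹ ∈ E) → g ∈ K)
    (hodd : Odd ((Subgroup.centralizer ({z} : Set G)).relIndex K)) :
    ∀ x ∈ K, orderOf x = 2 → ∃ g ∈ K, g * z * g⁻¹ = x := by
  intro x hx hx2
  have hxx : x * x = 1 := by
    rw [← pow_two, ← hx2, pow_orderOf_eq_one]
  have hx1 : x ≠ 1 := by
    rintro rfl
    rw [orderOf_one] at hx2
    exact absurd hx2 (by norm_num)
  have hle : Subgroup.centralizer ({z} : Set G) ≤ K := by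
    intro y hy
    exact hCK y (Subgroup.mem_centralizer_singleton_iff.1 hy)
  obtain ⟨g, hg, hgx⟩ := exists_conj_mem_of_odd hle hodd hx hxx
  rw [Subgroup.mem_centralizer_singleton_iff] at hgx
  have h2 : g⁻¹ * x * g * (g⁻¹ * x * g) = 1 := by
    calc g⁻¹ * x * g * (g⁻¹ * x * g) = g⁻¹ * (x * x) * g := by group
      _ = 1 := by rw [hxx]; group
  have h1 : g⁻¹ * x * g ≠ 1 := by
    intro h
    apply hx1
    calc x = g * (g⁻¹ * x * g) * g⁻¹ := by group
      _ = 1 := by rw [h]; group
  obtain ⟨k, hk, hkz⟩ := oneClass_in S hE ht hcent K hCK hNK (conj_Q S hE ht hcent hCK hNK) hgx h2 h1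
  refine ⟨g * k, K.mul_mem hg hk, ?_⟩
  calc g * k * z * (g * k)⁻¹ = g * (k * z * k⁻¹) * g⁻¹ := by group
    _ = x := by rw [hkz]; group

/-- **The closing step.** -/
theorem eq_top (hTh : Cfsg.IsTh Cfsg.Spor.Th) {H : Subgroup G} (e : Nonempty (H ≃* Cfsg.Spor.Th))
    (hCK : ∀ x, x * z = z * x → x ∈ H) (hNK : ∀ g, (∀ e ∈ E, g * e * g⁻¹ ∈ E) → g ∈ H) : H = ⊤ := by
  have hle : Subgroup.centralizer ({z} : Set G) ≤ H := by
    intro y hy
    exact hCK y (Subgroup.mem_centralizer_singleton_iff.1 hy)
  have hcard : Nat.card (Subgroup.centralizer ({z} : Set G)) = 512 * 181440 := ElemE.card_C S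
  have hodd : Odd ((Subgroup.centralizer ({z} : Set G)).relIndex H) := by
    obtain ⟨f⟩ := e
    have h1 : Nat.card H = 90745943887872000 := by
      rw [Nat.card_congr f.toEquiv]; exact hTh.2
    have h2 : Nat.card (Subgroup.centralizer ({z} : Set G)) *
        (Subgroup.centralizer ({z} : Set G)).relIndex H = Nat.card H := by
      rw [← Subgroup.relIndex_bot_left, ← Subgroup.relIndex_bot_left]
      exact Subgroup.relIndex_mul_relIndex _ _ _ bot_le hle
    rw [hcard, h1] at h2
    have h3 : (Subgroup.centralizer ({z} : Set G)).relIndex H = 976841775 := by omega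
    rw [h3]
    decide
  refine eq_top_of_Th hTh e ?_ hle ?_ (oneClass_K S hE ht hcent hCK hNK hodd)
  · exact orderOf_eq_prime (by rw [pow_two]; exact S.z_sq) S.z_ne
  · rw [hcard]
    norm_num

/-- All involutions of `G` are conjugate. -/
theorem oneClass_G (hTh : Cfsg.IsTh Cfsg.Spor.Th) (e : Nonempty (G ≃* Cfsg.Spor.Th)) :
    ∀ x y : G, orderOf x = 2 → orderOf y = 2 → IsConj x y := by
  have hcard : Nat.card (Subgroup.centralizer ({z} : Set G)) = 512 * 181440 := ElemE.card_C S
  have hodd : Odd ((Subgroup.centralizer ({z} : Set G)).relIndex ⊤) := by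
    obtain ⟨f⟩ := e
    have h1 : Nat.card G = 90745943887872000 := by
      rw [Nat.card_congr f.toEquiv]; exact hTh.2
    have h2 := Subgroup.card_mul_index (Subgroup.centralizer ({z} : Set G))
    rw [hcard, h1] at h2
    rw [Subgroup.relIndex_top_right]
    have h3 : (Subgroup.centralizer ({z} : Set G)).index = 976841775 := by omega
    rw [h3]
    decide
  have h := oneClass_K S hE ht hcent (K := ⊤) (fun _ _ => trivial) (fun _ _ => trivial) hodd
  intro x y hx hy
  obtain ⟨g, -, hg⟩ := h x trivial hx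
  obtain ⟨k, -, hk⟩ := h y trivial hy
  exact (isConj_iff.2 ⟨g, hg⟩).symm.trans (isConj_iff.2 ⟨k, hk⟩)

omit ht hcent [Finite G] in
/-- `N_G(E) ≤ H` as soon as `C_G(z) ≤ H` and some element of `H` moves `z` inside `Q` -/
theorem normalizer_le {H : Subgroup G} (hCK : ∀ x, x * z = z * x → x ∈ H) {h : G} (hh : h ∈ H)
    (hhQ : h * z * h⁻¹ ∈ S.Q) (hhz : h * z * h⁻¹ ≠ z) : ∀ g, (∀ e ∈ E, g * e * g⁻¹ ∈ E) → g ∈ H := by
  intro g hg
  have hp : g * z * g⁻¹ ∈ E := hg z (z_mem_E S hE)
  by_cases hpz : g * z * g⁻¹ = z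
  · apply hCK
    exact (mul_inv_eq_iff_eq_mul.1 hpz)
  have h1 : ∀ k : G, k * z * k⁻¹ ≠ 1 := by
    intro k hk
    apply S.z_ne
    calc z = k⁻¹ * (k * z * k⁻¹) * k := by group
      _ = 1 := by rw [hk]; group
  have h2 : ∀ k : G, k * z * k⁻¹ * (k * z * k⁻¹) = 1 := by
    intro k
    calc k * z * k⁻¹ * (k * z * k⁻¹) = k * (z * z) * k⁻¹ := by group
      _ = 1 := by rw [S.z_sq]; group
  obtain ⟨k, hk, hkp⟩ := ElemE.conj_in_C S hhQ (h1 h) hhz (h2 h) (E_le S hE hp) (h1 g) hpz (h2 g)
  have h3 : g⁻¹ * (k * h) ∈ H := by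
    apply hCK
    calc g⁻¹ * (k * h) * z = g⁻¹ * (k * (h * z * h⁻¹) * k⁻¹) * (k * h) := by group
      _ = g⁻¹ * (g * z * g⁻¹) * (k * h) := by rw [hkp]
      _ = z * (g⁻¹ * (k * h)) := by group
  have h4 : k * h ∈ H := H.mul_mem (hCK k hk) hh
  have h5 : g = k * h * (g⁻¹ * (k * h))⁻¹ := by group
  rw [h5]
  exact H.mul_mem h4 (H.inv_mem h3)

/-- **The closing step**, with `N_G(E) ≤ H` replaced by: some element of `H` moves `z` inside `Q`. -/
theorem eq_top' (hTh : Cfsg.IsTh Cfsg.Spor.Th) {H : Subgroup G} (e : Nonempty (H ≃* Cfsg.Spor.Th))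
    (hCK : ∀ x, x * z = z * x → x ∈ H) {h : G} (hh : h ∈ H)
    (hhQ : h * z * h⁻¹ ∈ S.Q) (hhz : h * z * h⁻¹ ≠ z) : H = ⊤ :=
  eq_top S hE ht hcent hTh e hCK (normalizer_le S hE hCK hh hhQ hhz)

end spin

end Cfsg.Agent.ThType.Close
end

-- part: ThType/RelCerts
section
/-! Generated by tools/wordcert/emit.py: word certificates (partial coset enumerations over the trivial subgroup).
-/

set_option autoImplicit false
set_option maxRecDepth 100000

namespace Cfsg.Agent.ThType.RelCerts

open Cfsg.Agent.SporRec.TCUpper Cfsg.Agent.SporRec.TCUpperCert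

/-! ### L0: 12 nodes, 4 columns, 26 entries; letters `a b c`; conclusion `bacbabacbc = 1` -/

namespace L0

def T0 : ℕ := 0xa600000ad1ea459746100
def T1 : ℕ := 0x4e02c4977563538802841
def T2 : ℕ := 0x1665579000000a50dd80
def T3 : ℕ := 0x4000000000000000000
def tabs : List ℕ := [T0, T1, T2, T3]
def dc : ℕ := 0x261184
noncomputable def look (c n : ℕ) : ℕ := lookF tabs 7 127 c n
noncomputable def dcol (n : ℕ) : ℕ := Nat.land (Nat.shiftRight dc (Nat.mul 2 n)) 3
def inv : List ℕ := [0, 1, 2]
def lab : List ℕ := [0, 1, 2, 3]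
def rels : List (List ℕ) := [
  [0, 1, 0, 1, 0, 1],
  [1, 2, 1, 2, 1, 2],
  [0, 2, 0, 2]]
noncomputable def fx (c : ℕ) : Bool := memb [] (nth lab c)
def TM0 : List (Bool × List ℕ) := [(false, [0])]
def TM1 : List (Bool × List ℕ) := [(false, [1]), (true, [0, 1, 0, 1, 0])]
def TM2 : List (Bool × List ℕ) := [(false, [2]), (true, [0, 2, 0])]
def TM3 : List (Bool × List ℕ) := [(false, [1, 2, 1, 2, 1, 2])]
def TT : List (List (Bool × List ℕ)) := [TM0, TM1, TM2, TM3]

theorem tt_ok : allOK 3 inv lab (withInv 3 inv rels) TT 0 = true := by decide +kernel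
theorem bits_ok : bitsLt (7 * 12) tabs = true := by decide +kernel

theorem chunk0 : RangeOk look 15 0 1 dcol fx TT 0 1 :=
  RangeOk.of_chunk (S := 1) (pb := 1) (pm := 1) 1 (by decide) rfl (DD := [
  (0, (1, 0x0), (0, 0x0), [(0, 0x0)]),
  (0, (0, 0x0), (0, 0x0), [(1, 0x0), (0, 0x0)]),
  (0, (1, 0x0), (0, 0x0), [(0, 0x0), (0, 0x0)]),
  (0, (1, 0x0), (0, 0x0), [(0, 0x0)])]) (by decide +kernel)
theorem chunk1 : RangeOk look 15 0 1 dcol fx TT 1 12 :=
  RangeOk.of_chunk (S := 11) (pb := 4) (pm := 15) 12 (by decide) rfl (DD := [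
  (0, (3, 0x987), (4, 0xa641), [(4, 0x5320)]),
  (0, (2, 0x91), (4, 0x8530), [(4, 0xa742), (1, 0x6)]),
  (0, (4, 0xa543), (3, 0x972), [(3, 0x861), (1, 0x0)]),
  (0, (10, 0xa876543210), (0, 0x0), [(1, 0x9)])]) (by decide +kernel)

theorem valid : Valid look 15 0 1 12 dcol fx TT where
  fin := chunk0
  rest := chunk1
  out := fun c n h => by
    have := lookF_ne_zero bits_ok c n h
    exact ⟨this.1, this.2⟩
  bdd := ⟨_, fun c n => lookF_le tabs _ _ c n⟩
  cols := by decide
  pos := by decide

theorem traced : trace look 15 0 0 [1, 0, 2, 1, 0, 1, 0, 2, 1, 2, 3] 0 = true := by decide +kernel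

theorem word {G : Type*} [Group G] (gl : List G) (hl : gl.length = 3)
    (hinv : ∀ a < gl.length, lv gl a * lv gl (nth inv a) = 1) (hrel : ∀ r ∈ rels, wprod gl r = 1) :
    wprod gl ([1, 0, 2, 1, 0, 1, 0, 2, 1, 2, 3].map (nth lab)) = 1 := by
  have h := mem_of_trace gl inv lab [] rels valid (by rw [hl]; exact tt_ok) hinv hrel (⊥ : Subgroup G)
    (by simp) [1, 0, 2, 1, 0, 1, 0, 2, 1, 2, 3] traced
  exact Subgroup.mem_bot.1 h

theorem rel {G : Type*} [Group G] (a b c : G)
    (i0 : a * a = 1)
    (i1 : b * b = 1)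
    (i2 : c * c = 1)
    (h0 : a * b * a * b * a * b = 1)
    (h1 : b * c * b * c * b * c = 1)
    (h2 : a * c * a * c = 1) :
    b * a * c * b * a * b * a * c * b * c = 1 := by
  have h : wprod [a, b, c] [1, 0, 2, 1, 0, 1, 0, 2, 1, 2, 3] = 1 := word [a, b, c] rfl (by
    intro i hi
    match i, hi with
    | 0, _ => exact i0
    | 1, _ => exact i1
    | 2, _ => exact i2
    | n + 3, hi => exact absurd hi (by simp)) (by
    intro r hr
    simp only [rels, List.mem_cons, List.not_mem_nil, or_false] at hr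
    rcases hr with rfl | rfl | rfl
    · simpa only [wprod, lv, List.map_cons, List.map_nil, List.prod_cons, List.prod_nil, List.getD_cons_zero, List.getD_cons_succ,
      List.getD_nil, mul_assoc, mul_one] using h0
    · simpa only [wprod, lv, List.map_cons, List.map_nil, List.prod_cons, List.prod_nil, List.getD_cons_zero, List.getD_cons_succ,
      List.getD_nil, mul_assoc, mul_one] using h1
    · simpa only [wprod, lv, List.map_cons, List.map_nil, List.prod_cons, List.prod_nil, List.getD_cons_zero, List.getD_cons_succ,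
      List.getD_nil, mul_assoc, mul_one] using h2
    )
  simpa only [wprod, lv, List.map_cons, List.map_nil, List.prod_cons, List.prod_nil, List.getD_cons_zero, List.getD_cons_succ,
      List.getD_nil, mul_assoc, mul_one] using h

end L0

/-! ### L1: 47 nodes, 5 columns, 120 entries; letters `a b c d`; conclusion `dcdbacbdcdbacbdcdbacb = 1` -/

namespace L1

def T0 : ℕ := 0xd832195f5dc7b58000000031ca7f4600000d4b130000000000b6f4bc30000000000316d13050000000000
def T1 : ℕ := 0x8ac00d01a35b12d79a680026a000000000000342a2400a3c00d531500351c4ad8b5f4dc3800d2b0bb66ddd1b0700343c131a3bb27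
def T2 : ℕ := 0x36dcbb6bcb3580035d00365c9b5a7a7590035788400ca000d2f240032ac800000353c50000034fc4000d330dc6c00d230900345c1ad600341c0800
def T3 : ℕ := 0x254db32ddab2bd822600268d9325d880000329d6c00d1800c7e84d2f52d36de002aeb7318d4311d3b0fc5c00c6749c2b47c231d002dad0b03d0301
def T4 : ℕ := 0x2500000000000000000000000000000000000000000001000000000000000000000000000000000000000000000000000000
def tabs : List ℕ := [T0, T1, T2, T3, T4]
def dc : ℕ := 0x9a69a29a68261845b60a05a6502d3281698
noncomputable def look (c n : ℕ) : ℕ := lookF tabs 10 1023 c n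
noncomputable def dcol (n : ℕ) : ℕ := Nat.land (Nat.shiftRight dc (Nat.mul 3 n)) 7
def inv : List ℕ := [0, 1, 2, 3]
def lab : List ℕ := [0, 1, 2, 3, 4]
def rels : List (List ℕ) := [
  [0, 1, 0, 1, 0, 1],
  [1, 2, 1, 2, 1, 2],
  [1, 3, 1, 3],
  [0, 2, 3, 2, 3, 2, 3, 2, 3],
  [0, 2, 0, 2],
  [0, 3, 0, 3]]
noncomputable def fx (c : ℕ) : Bool := memb [] (nth lab c)
def TM0 : List (Bool × List ℕ) := [(false, [0]), (true, [2, 0, 2]), (true, [3, 0, 3])]
def TM1 : List (Bool × List ℕ) := [(false, [1]), (true, [3, 1, 3]), (true, [2, 1, 2, 1, 2])]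
def TM2 : List (Bool × List ℕ) := [(false, [2]), (true, [0, 2, 0]), (true, [3, 2, 3, 2, 3, 2, 0, 3])]
def TM3 : List (Bool × List ℕ) := [(false, [3]), (true, [0, 3, 0]), (true, [1, 3, 1]), (true, [2, 3, 0, 2, 3, 2, 3, 2]), (true, [2, 3, 2, 3, 2, 3, 0, 2])]
def TM4 : List (Bool × List ℕ) := [(true, [1, 3, 1, 3]), (false, [1, 4, 1])]
def TT : List (List (Bool × List ℕ)) := [TM0, TM1, TM2, TM3, TM4]

theorem tt_ok : allOK 4 inv lab (withInv 4 inv rels) TT 0 = true := by decide +kernel
theorem bits_ok : bitsLt (10 * 47) tabs = true := by decide +kernel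

theorem chunk0 : RangeOk look 63 0 1 dcol fx TT 0 1 :=
  RangeOk.of_chunk (S := 1) (pb := 1) (pm := 1) 1 (by decide) rfl (DD := [
  (0, (1, 0x0), (0, 0x0), [(0, 0x0), (0, 0x0), (0, 0x0)]),
  (0, (0, 0x0), (0, 0x0), [(1, 0x0), (0, 0x0), (0, 0x0)]),
  (0, (1, 0x0), (0, 0x0), [(0, 0x0), (0, 0x0), (0, 0x0)]),
  (0, (0, 0x0), (0, 0x0), [(1, 0x0), (0, 0x0), (0, 0x0), (0, 0x0), (0, 0x0)]),
  (0, (1, 0x0), (0, 0x0), [(0, 0x0), (0, 0x0)])]) (by decide +kernel)
theorem chunk1 : RangeOk look 63 0 1 dcol fx TT 1 47 :=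
  RangeOk.of_chunk (S := 46) (pb := 6) (pm := 63) 47 (by decide) rfl (DD := [
  (0, (29, 0x2db2baa9a279a59238a16996144d03ce349207182040), (7, 0x2075b5522c4), [(8, 0x7de71744a143), (1, 0xc), (1, 0x16)]),
  (0, (17, 0x2db2baa99e079d71b6975522c4), (8, 0x99951134a183), [(10, 0x95859340c245081), (7, 0x288e23ce207), (4, 0x9217c0)]),
  (0, (14, 0xa2681d6d8554450349182), (15, 0x2dae99e58e17da4cf308141), [(14, 0xb2a91c65759238b287100), (2, 0x783), (1, 0x22)]),
  (0, (8, 0x9a181d6d42c4), (16, 0xb2aa2489e7185d640e247080), [(17, 0x2dae99e37da6513cd30a206141), (2, 0x552), (1, 0x3), (1, 0x13), (1, 0x25)]),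
  (0, (44, 0xb6caeaa689e59238a181f79d71b6996175954d24503ce34c2ca2481c61440c2040), (0, 0x0), [(1, 0x26), (1, 0x14)])]) (by decide +kernel)

theorem valid : Valid look 63 0 1 47 dcol fx TT where
  fin := chunk0
  rest := chunk1
  out := fun c n h => by
    have := lookF_ne_zero bits_ok c n h
    exact ⟨this.1, this.2⟩
  bdd := ⟨_, fun c n => lookF_le tabs _ _ c n⟩
  cols := by decide
  pos := by decide

theorem traced : trace look 63 0 0 [3, 2, 3, 1, 0, 2, 1, 3, 2, 3, 1, 0, 2, 1, 3, 2, 3, 1, 0, 2, 1, 4] 0 = true := by decide +kernel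

theorem word {G : Type*} [Group G] (gl : List G) (hl : gl.length = 4)
    (hinv : ∀ a < gl.length, lv gl a * lv gl (nth inv a) = 1) (hrel : ∀ r ∈ rels, wprod gl r = 1) :
    wprod gl ([3, 2, 3, 1, 0, 2, 1, 3, 2, 3, 1, 0, 2, 1, 3, 2, 3, 1, 0, 2, 1, 4].map (nth lab)) = 1 := by
  have h := mem_of_trace gl inv lab [] rels valid (by rw [hl]; exact tt_ok) hinv hrel (⊥ : Subgroup G)
    (by simp) [3, 2, 3, 1, 0, 2, 1, 3, 2, 3, 1, 0, 2, 1, 3, 2, 3, 1, 0, 2, 1, 4] traced
  exact Subgroup.mem_bot.1 h

theorem rel {G : Type*} [Group G] (a b c d : G)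
    (i0 : a * a = 1)
    (i1 : b * b = 1)
    (i2 : c * c = 1)
    (i3 : d * d = 1)
    (h0 : a * b * a * b * a * b = 1)
    (h1 : b * c * b * c * b * c = 1)
    (h2 : b * d * b * d = 1)
    (h3 : a * c * d * c * d * c * d * c * d = 1)
    (h4 : a * c * a * c = 1)
    (h5 : a * d * a * d = 1) :
    d * c * d * b * a * c * b * d * c * d * b * a * c * b * d * c * d * b * a * c * b = 1 := by
  have h : wprod [a, b, c, d] [3, 2, 3, 1, 0, 2, 1, 3, 2, 3, 1, 0, 2, 1, 3, 2, 3, 1, 0, 2, 1, 4] = 1 := word [a, b, c, d] rfl (by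
    intro i hi
    match i, hi with
    | 0, _ => exact i0
    | 1, _ => exact i1
    | 2, _ => exact i2
    | 3, _ => exact i3
    | n + 4, hi => exact absurd hi (by simp)) (by
    intro r hr
    simp only [rels, List.mem_cons, List.not_mem_nil, or_false] at hr
    rcases hr with rfl | rfl | rfl | rfl | rfl | rfl
    · simpa only [wprod, lv, List.map_cons, List.map_nil, List.prod_cons, List.prod_nil, List.getD_cons_zero, List.getD_cons_succ,
      List.getD_nil, mul_assoc, mul_one] using h0
    · simpa only [wprod, lv, List.map_cons, List.map_nil, List.prod_cons, List.prod_nil, List.getD_cons_zero, List.getD_cons_succ,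
      List.getD_nil, mul_assoc, mul_one] using h1
    · simpa only [wprod, lv, List.map_cons, List.map_nil, List.prod_cons, List.prod_nil, List.getD_cons_zero, List.getD_cons_succ,
      List.getD_nil, mul_assoc, mul_one] using h2
    · simpa only [wprod, lv, List.map_cons, List.map_nil, List.prod_cons, List.prod_nil, List.getD_cons_zero, List.getD_cons_succ,
      List.getD_nil, mul_assoc, mul_one] using h3
    · simpa only [wprod, lv, List.map_cons, List.map_nil, List.prod_cons, List.prod_nil, List.getD_cons_zero, List.getD_cons_succ,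
      List.getD_nil, mul_assoc, mul_one] using h4
    · simpa only [wprod, lv, List.map_cons, List.map_nil, List.prod_cons, List.prod_nil, List.getD_cons_zero, List.getD_cons_succ,
      List.getD_nil, mul_assoc, mul_one] using h5
    )
  simpa only [wprod, lv, List.map_cons, List.map_nil, List.prod_cons, List.prod_nil, List.getD_cons_zero, List.getD_cons_succ,
      List.getD_nil, mul_assoc, mul_one] using h

end L1

/-! ### L2: 129 nodes, 8 columns, 347 entries; letters `a c d e u U w`; conclusion `dudududududu = 1` -/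

namespace L2

def T0 : ℕ := 0xf780000001eda0000000000001080000419c00000000000016fc00000041f20fa00000000000000008bb45d000000000000022d800000000020b915d0000001aae00072cc9964c800000000000000009300000000000000000000000092480000000000003d126a93530000000000000000000000134e0000001e690350004ccc00000000000000000008170002c2343fb070000000000000000286e0000004872c1311eb040002834000000000242600088ad80ea53602b00d49ec000000000002a3b51b0000000000000a895442a1f50d
def T1 : ℕ := 0x1cdc0000000000000e777bc59940016640000002cc40000003df40000000000000000000b2b5956aed57400055c400000000000000000000000000000000000000000000000058fc0000000000001c98f4da2f58d000163200000000000000000000001254aa900000000000000000000000000000000154a00000000000008948001e5400000040b645e0000000000000000000000000160b0004c7683d60900058226360000000002624000b01d0540000000005094000000a900002a3951a0000000000000a898000000000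
def T2 : ℕ := 0x16766bd800000000000059a0001667b335600000000000598c0000000000000001660b2f8002cb157aabc0002ca9653ab95942c9f56cab58002c93647b235916c88000b215906c81565ab20002c79562ab0d8dc0000000003522abae4aaae556c001559b16555c000000b1380000015510005888001621aa70002c3d61cb0d5866c2f6160005854000000b09800000160ea9f800000000000054eaa7000000054d4000000a0ed4cc000000a988002a5c000a95cc40001412986800281e000b05542ec11509b03541ec09505b01540ec01501
def T3 : ℕ := 0x59b5ae2000000000000000000000018e4000b3235d58fa000b30b98aafc0000002de400000000000000015730003dbaade0000005928000f5a8a3c17000000000000000000000000000000000000000000145fb1a557800000092d800268c00000000000000000005896078f3db1200000000000004c8400154b0000000001431b0a800000142d00000026240000005836a7d53bb0644e686c000b0580000000000000000001606b02d812a5e00000050a6c060000000000001523a8f80000000000005462a2e000a888000000000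
def T4 : ℕ := 0x97a000000000166cb3580000000000000002cc800000039cc00157f000598400157d000000000157900041d4000000b28c1bc00000000000000000000000000001643000000000163f000000000163a00055800000000000000000000000000000162e00058aec51352aa98002c4ae3e993000000154f0000000000000aa48002a8c0000000000000000000000000000099e800000160d0000002a72000a1180000000000000002c0e000a0c50bc0000000000000000000a080000000000a86547aa14000a840002a0d515a820002a04000
def T5 : ℕ := 0xb380002cd80000002202cd000053d000000000000000000000000000002cc357cabd800000000000000000015750000002add64e00000018aee5900000000000000000000000000b1f8002ac6000b1c00000000000000002c67249b1958c6c600000000000001628aaa34f244e0000005542c42000000000000000000000000000000005510001614aa1000000000000050eea7a00098fc8d8000000000582800000000000000013170000002c08000000000000130f0000002a4960b000582400160700058140016030005804000000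
def T6 : ℕ := 0x9bf51fc000000000000000000000000000000000002da4001661000000000000000059758e565700000000000000000002ae0000b258002ad40000000000000000ab4000000000000000000000000000002c6b634aaf800000000000000000000000000000000000000000227762491e8000000000b10587ea9a00000000000000000000002c2b32f000584c0000000000002c1b53c0005832c17537a9b000000000000000000000000000002a5b60400000000000000005802a4b522000000000000000000000000000000000000000
def T7 : ℕ := 0x1dd8000000000000000000000000000000000000000cce00000000000000000000000000000000000000000000015580000000000000000000000000000000000000000000000000000000441000000000000000000000000000000000000000000000000000000000000000000000ca000000000000000000000000000000000000000000000000000000000000000000000000000083800000000000000000000000000000000000000000000000000000000000000000000100000000000000000000000000000000000000000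
def tabs : List ℕ := [T0, T1, T2, T3, T4, T5, T6, T7]
def dc : ℕ := 0x2aec8aa46168e72a596252895cd2494494a54ab6669b6c5254e66aad924926b55820f47b17410636ee218185555555550
noncomputable def look (c n : ℕ) : ℕ := lookF tabs 13 8191 c n
noncomputable def dcol (n : ℕ) : ℕ := Nat.land (Nat.shiftRight dc (Nat.mul 3 n)) 7
def inv : List ℕ := [0, 1, 2, 3, 5, 4, 6]
def lab : List ℕ := [0, 1, 2, 3, 4, 5, 6, 7]
def rels : List (List ℕ) := [
  [0, 3, 0, 3],
  [0, 1, 2, 1, 2, 1, 2, 1, 2],
  [1, 3, 1, 3],
  [2, 3, 2, 3, 2, 3],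
  [0, 1, 0, 1],
  [0, 2, 0, 2],
  [4, 4, 1, 0],
  [5, 0, 4, 0],
  [5, 1, 4, 1],
  [5, 3, 4, 3],
  [2, 3, 5, 2, 4, 2, 3, 5, 2, 4],
  [6, 0, 6, 1],
  [3, 6, 3, 6],
  [6, 4, 6, 3, 5],
  [6, 2, 4, 2, 6, 1, 3, 2, 5, 2, 6, 3, 5, 2, 5, 2],
  [6, 2, 1, 2, 6, 2, 1, 2, 6, 2, 1, 2]]
noncomputable def fx (c : ℕ) : Bool := memb [] (nth lab c)
def TM0 : List (Bool × List ℕ) := [(false, [0]), (true, [2, 0, 2]), (true, [1, 0, 1]), (true, [5, 0, 4]), (true, [4, 0, 5]), (true, [3, 0, 3]), (true, [4, 4, 1]), (true, [6, 1, 6])]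
def TM1 : List (Bool × List ℕ) := [(false, [1]), (true, [0, 4, 4]), (true, [6, 0, 6]), (true, [3, 1, 3]), (true, [0, 1, 0]), (true, [2, 1, 2, 1, 2, 1, 0, 2]), (true, [4, 1, 5])]
def TM2 : List (Bool × List ℕ) := [(false, [2]), (true, [0, 2, 0]), (true, [1, 2, 1, 2, 1, 2, 0, 1]), (true, [6, 3, 5, 2, 5, 2, 6, 2, 4, 2, 6, 1, 3, 2, 5])]
def TM3 : List (Bool × List ℕ) := [(false, [3]), (true, [6, 3, 6]), (true, [2, 3, 2, 3, 2]), (true, [4, 3, 5]), (true, [5, 3, 4]), (true, [0, 3, 0]), (true, [1, 3, 1]), (true, [5, 2, 4, 2, 3, 5, 2, 4, 2]), (true, [5, 6, 4, 6]), (true, [6, 5, 6, 4])]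
def TM4 : List (Bool × List ℕ) := [(false, [5]), (true, [3, 4, 3]), (true, [0, 1, 5]), (true, [2, 4, 2, 3, 5, 2, 4, 2, 3]), (true, [0, 4, 0]), (true, [5, 0, 1])]
def TM5 : List (Bool × List ℕ) := [(false, [4]), (true, [0, 5, 0]), (true, [1, 0, 4]), (true, [2, 4, 3, 6, 2, 4, 2, 3, 1, 6, 2, 5, 2, 6, 2]), (true, [3, 2, 5, 2, 4, 3, 2, 5, 2]), (true, [3, 5, 3]), (true, [6, 3, 5, 6])]
def TM6 : List (Bool × List ℕ) := [(false, [6]), (true, [2, 4, 2, 6, 1, 3, 2, 5, 2, 6, 3, 5, 2, 5, 2]), (true, [3, 5, 6, 4]), (true, [3, 6, 3]), (true, [4, 3, 6, 5])]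
def TM7 : List (Bool × List ℕ) := [(true, [2, 7, 2]), (true, [0, 7, 0]), (true, [1, 7, 1]), (true, [5, 7, 4]), (true, [6, 2, 4, 2, 6, 1, 3, 2, 5, 2, 6, 3, 5, 2, 5, 2]), (true, [6, 7, 6])]
def TT : List (List (Bool × List ℕ)) := [TM0, TM1, TM2, TM3, TM4, TM5, TM6, TM7]

theorem tt_ok : allOK 7 inv lab (withInv 7 inv rels) TT 0 = true := by decide +kernel
theorem bits_ok : bitsLt (13 * 129) tabs = true := by decide +kernel

theorem chunk0 : RangeOk look 255 0 1 dcol fx TT 0 1 :=
  RangeOk.of_chunk (S := 1) (pb := 1) (pm := 1) 1 (by decide) rfl (DD := [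
  (0, (0, 0x0), (0, 0x0), [(1, 0x0), (0, 0x0), (0, 0x0), (0, 0x0), (0, 0x0), (0, 0x0), (0, 0x0), (0, 0x0)]),
  (0, (1, 0x0), (0, 0x0), [(0, 0x0), (0, 0x0), (0, 0x0), (0, 0x0), (0, 0x0), (0, 0x0), (0, 0x0)]),
  (0, (0, 0x0), (0, 0x0), [(1, 0x0), (0, 0x0), (0, 0x0), (0, 0x0)]),
  (0, (1, 0x0), (0, 0x0), [(0, 0x0), (0, 0x0), (0, 0x0), (0, 0x0), (0, 0x0), (0, 0x0), (0, 0x0), (0, 0x0), (0, 0x0), (0, 0x0)]),
  (0, (1, 0x0), (0, 0x0), [(0, 0x0), (0, 0x0), (0, 0x0), (0, 0x0), (0, 0x0), (0, 0x0)]),
  (0, (1, 0x0), (0, 0x0), [(0, 0x0), (0, 0x0), (0, 0x0), (0, 0x0), (0, 0x0), (0, 0x0), (0, 0x0)]),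
  (0, (1, 0x0), (0, 0x0), [(0, 0x0), (0, 0x0), (0, 0x0), (0, 0x0), (0, 0x0)]),
  (0, (1, 0x0), (0, 0x0), [(0, 0x0), (0, 0x0), (0, 0x0), (0, 0x0), (0, 0x0), (0, 0x0)])]) (by decide +kernel)
theorem chunk1 : RangeOk look 255 0 1 dcol fx TT 1 129 :=
  RangeOk.of_chunk (S := 128) (pb := 7) (pm := 127) 129 (by decide) rfl (DD := [
  (0, (80, 0xfdf7dfaf3e3b74e7cb8efddaf569d19f263c586fdebb6acd7a74a8d09f3664b95264478b121c27cf5e3b74e5c366ac982f5cb562b52952234484f9e325cb15262c5090c14203), (8, 0x5098e1a223c70c), [(15, 0x1ffe75b961a1b24406880e08080), (11, 0x1df05bad56a3766c5527), (4, 0xcd94e94), (4, 0xd93a33f), (3, 0x1b60c0), (1, 0x70), (1, 0x18), (1, 0x20)]),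
  (0, (89, 0x7ffdf7dfaf3e3a72e3bf76cd7ab4e8cf8b05fbd76e5bb566c57ad56a53a5427ce9b22345890e14180f5e3b74e5c376cd5a3262c17ad56a93a64a911a24280f1a2e58a93203c70c1624305080c080), (12, 0xebcf866cb464c73e6cc92), [(16, 0xf9df263c331f335cb0e941420382), (3, 0x1b4e11), (3, 0x12d48d), (2, 0x2528), (1, 0x18), (1, 0x76), (1, 0x3f)]),
  (0, (49, 0x7df9efd78e9cf970dfbb6ecd396ed7a3325ca8901fbd78e9c355cb15a95095223447cf1c3660b95264068b), (41, 0x7ff3dfb71d7ab464c78705cb76acd8ad56a509b09f396ed19b262c17ad549c5080c10100), [(33, 0x75cf9b15fbd4e94f9d264468b0e0bb6c990a03a64b1424447090e14181), (3, 0x6878c), (1, 0x47), (1, 0x7e)]),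
  (0, (78, 0x3ffef7ebcf8efdbaf3dfaf568cf9b2e4c57ef5cb15eb55a94e951a13e74d99223c5870a0c07ef9cb86ed9a3262c16ac54a53a63e74e1b3464c13243c70d18244070c0c080), (15, 0x1f796ebb29eba5c9511e2e58a90), [(21, 0x74e1b7663c16ed4976d59a8488ca0b1414202), (3, 0x12de20), (2, 0x2caf), (2, 0x38e1), (2, 0x2221), (1, 0x11), (1, 0x7c), (1, 0x46), (1, 0x2b), (1, 0x69)]),
  (0, (85, 0x7efbf3cf8efdbaf3e5c376cd5a7466c98f05fbd76e5bb566c56ab52951a13a64b95264478d162427ae5c366ad19b15eb96ac56a94a84e95222427ce9c3668c97284c911203c68c161c281), (14, 0x3dfae9b7157a73e1c180f1198), [(18, 0x37ebcf35f3a6ec98201424406080c100), (4, 0x7678b15), (3, 0x1ff2a6), (2, 0x38e1), (1, 0xe), (1, 0x3f)]),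
  (0, (83, 0x1ffefbf5dfaf4e7cb8f0dfbb6e9d19f365c98b0debb6acd8af5aad4a7467cd992e549870a0c076e9bb66ad19b262c17ae58a54274c8d01f3c70d9a3260b1526488901c345080c10100), (22, 0x3f7cf1b2fd29d2234588fdc2b3a505890e14181), [(17, 0x79d7ab1e0a0f9ebc72b5524445c78c), (1, 0x5c), (1, 0x47), (1, 0x76), (1, 0x5b), (1, 0x25), (1, 0x21)]),
  (0, (94, 0x3ffcf7ebcf8efdbaf4e7cb86edbb35eacd97263c586fddb76acd8af56a53a54684f9d364c88f1a2c4870a0c07ef9eb970dd9b262c17ae5aa94274c9511d386cd19305cb15244480f1c284880e182840608080), (16, 0xdfa73de992ddb66ab14a4428098d), [(14, 0x3f71c172b4a78d119f3c5060b), (1, 0x68), (1, 0x7d), (1, 0x2b), (1, 0x3a)]),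
  (0, (121, 0x7ffdf3dfaf3e3bf6ebd39f2e3bf76dd9af569d19f365c98f160bf7aedcb76acd8af5aad4a74a8d09d3664b95264478d16243850603f7cf5e3b74e1bb66ad19b262c17ae5ab15aa52a13a64a911a2407cf1d386cd19305cb15284c911203c70d18284880e182840608080), (0, 0x0), [(2, 0x27a1), (1, 0x70), (1, 0x61), (1, 0x39), (1, 0x7d), (1, 0xb)])]) (by decide +kernel)

theorem valid : Valid look 255 0 1 129 dcol fx TT where
  fin := chunk0
  rest := chunk1
  out := fun c n h => by
    have := lookF_ne_zero bits_ok c n h
    exact ⟨this.1, this.2⟩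
  bdd := ⟨_, fun c n => lookF_le tabs _ _ c n⟩
  cols := by decide
  pos := by decide

theorem traced : trace look 255 0 0 [2, 4, 2, 4, 2, 4, 2, 4, 2, 4, 2, 4, 7] 0 = true := by decide +kernel

theorem word {G : Type*} [Group G] (gl : List G) (hl : gl.length = 7)
    (hinv : ∀ a < gl.length, lv gl a * lv gl (nth inv a) = 1) (hrel : ∀ r ∈ rels, wprod gl r = 1) :
    wprod gl ([2, 4, 2, 4, 2, 4, 2, 4, 2, 4, 2, 4, 7].map (nth lab)) = 1 := by
  have h := mem_of_trace gl inv lab [] rels valid (by rw [hl]; exact tt_ok) hinv hrel (⊥ : Subgroup G)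
    (by simp) [2, 4, 2, 4, 2, 4, 2, 4, 2, 4, 2, 4, 7] traced
  exact Subgroup.mem_bot.1 h

theorem rel {G : Type*} [Group G] (a c d e u w : G)
    (i0 : a * a = 1)
    (i1 : c * c = 1)
    (i2 : d * d = 1)
    (i3 : e * e = 1)
    (i6 : w * w = 1)
    (h0 : a * e * a * e = 1)
    (h1 : a * c * d * c * d * c * d * c * d = 1)
    (h2 : c * e * c * e = 1)
    (h3 : d * e * d * e * d * e = 1)
    (h4 : a * c * a * c = 1)
    (h5 : a * d * a * d = 1)
    (h6 : u * u * c * a = 1)
    (h7 : u⁻¹ * a * u * a = 1)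
    (h8 : u⁻¹ * c * u * c = 1)
    (h9 : u⁻¹ * e * u * e = 1)
    (h10 : d * e * u⁻¹ * d * u * d * e * u⁻¹ * d * u = 1)
    (h11 : w * a * w * c = 1)
    (h12 : e * w * e * w = 1)
    (h13 : w * u * w * e * u⁻¹ = 1)
    (h14 : w * d * u * d * w * c * e * d * u⁻¹ * d * w * e * u⁻¹ * d * u⁻¹ * d = 1)
    (h15 : w * d * c * d * w * d * c * d * w * d * c * d = 1) :
    d * u * d * u * d * u * d * u * d * u * d * u = 1 := by
  have h : wprod [a, c, d, e, u, u⁻¹, w] [2, 4, 2, 4, 2, 4, 2, 4, 2, 4, 2, 4, 7] = 1 := word [a, c, d, e, u, u⁻¹, w] rfl (by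
    intro i hi
    match i, hi with
    | 0, _ => exact i0
    | 1, _ => exact i1
    | 2, _ => exact i2
    | 3, _ => exact i3
    | 4, _ => exact mul_inv_cancel u
    | 5, _ => exact inv_mul_cancel u
    | 6, _ => exact i6
    | n + 7, hi => exact absurd hi (by simp)) (by
    intro r hr
    simp only [rels, List.mem_cons, List.not_mem_nil, or_false] at hr
    rcases hr with rfl | rfl | rfl | rfl | rfl | rfl | rfl | rfl | rfl | rfl | rfl | rfl | rfl | rfl | rfl | rfl
    · simpa only [wprod, lv, List.map_cons, List.map_nil, List.prod_cons, List.prod_nil, List.getD_cons_zero, List.getD_cons_succ,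
      List.getD_nil, mul_assoc, mul_one] using h0
    · simpa only [wprod, lv, List.map_cons, List.map_nil, List.prod_cons, List.prod_nil, List.getD_cons_zero, List.getD_cons_succ,
      List.getD_nil, mul_assoc, mul_one] using h1
    · simpa only [wprod, lv, List.map_cons, List.map_nil, List.prod_cons, List.prod_nil, List.getD_cons_zero, List.getD_cons_succ,
      List.getD_nil, mul_assoc, mul_one] using h2
    · simpa only [wprod, lv, List.map_cons, List.map_nil, List.prod_cons, List.prod_nil, List.getD_cons_zero, List.getD_cons_succ,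
      List.getD_nil, mul_assoc, mul_one] using h3
    · simpa only [wprod, lv, List.map_cons, List.map_nil, List.prod_cons, List.prod_nil, List.getD_cons_zero, List.getD_cons_succ,
      List.getD_nil, mul_assoc, mul_one] using h4
    · simpa only [wprod, lv, List.map_cons, List.map_nil, List.prod_cons, List.prod_nil, List.getD_cons_zero, List.getD_cons_succ,
      List.getD_nil, mul_assoc, mul_one] using h5
    · simpa only [wprod, lv, List.map_cons, List.map_nil, List.prod_cons, List.prod_nil, List.getD_cons_zero, List.getD_cons_succ,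
      List.getD_nil, mul_assoc, mul_one] using h6
    · simpa only [wprod, lv, List.map_cons, List.map_nil, List.prod_cons, List.prod_nil, List.getD_cons_zero, List.getD_cons_succ,
      List.getD_nil, mul_assoc, mul_one] using h7
    · simpa only [wprod, lv, List.map_cons, List.map_nil, List.prod_cons, List.prod_nil, List.getD_cons_zero, List.getD_cons_succ,
      List.getD_nil, mul_assoc, mul_one] using h8
    · simpa only [wprod, lv, List.map_cons, List.map_nil, List.prod_cons, List.prod_nil, List.getD_cons_zero, List.getD_cons_succ,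
      List.getD_nil, mul_assoc, mul_one] using h9
    · simpa only [wprod, lv, List.map_cons, List.map_nil, List.prod_cons, List.prod_nil, List.getD_cons_zero, List.getD_cons_succ,
      List.getD_nil, mul_assoc, mul_one] using h10
    · simpa only [wprod, lv, List.map_cons, List.map_nil, List.prod_cons, List.prod_nil, List.getD_cons_zero, List.getD_cons_succ,
      List.getD_nil, mul_assoc, mul_one] using h11
    · simpa only [wprod, lv, List.map_cons, List.map_nil, List.prod_cons, List.prod_nil, List.getD_cons_zero, List.getD_cons_succ,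
      List.getD_nil, mul_assoc, mul_one] using h12
    · simpa only [wprod, lv, List.map_cons, List.map_nil, List.prod_cons, List.prod_nil, List.getD_cons_zero, List.getD_cons_succ,
      List.getD_nil, mul_assoc, mul_one] using h13
    · simpa only [wprod, lv, List.map_cons, List.map_nil, List.prod_cons, List.prod_nil, List.getD_cons_zero, List.getD_cons_succ,
      List.getD_nil, mul_assoc, mul_one] using h14
    · simpa only [wprod, lv, List.map_cons, List.map_nil, List.prod_cons, List.prod_nil, List.getD_cons_zero, List.getD_cons_succ,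
      List.getD_nil, mul_assoc, mul_one] using h15
    )
  simpa only [wprod, lv, List.map_cons, List.map_nil, List.prod_cons, List.prod_nil, List.getD_cons_zero, List.getD_cons_succ,
      List.getD_nil, mul_assoc, mul_one] using h

end L2

/-! ### L3: 169 nodes, 9 columns, 489 entries; letters `a c d e u U w`; conclusion `wdcdedcdewUdcdUdcde = 1` -/

namespace L3

def T0 : ℕ := 0x7d98000000000000000007d800007571d5e000000000000000001e94000225600000007a480000001d8d000000000000000000000000000089260870000000000000000020818915e7e0001e7f000000000000007dde1767dc5f72000000070f5e6f78d40000000000000222b859c0000002226857df5b0001f588880000887c00075440000001f1e814a05388680007d3c0000000000884220f000220e00000008528000883220b882a14600020430000000810214184fe03a00000008812137880e202000203488040000000000000213184c212e000212984a212700000000000000000211b84661188454000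
def T1 : ℕ := 0x1c9600019a36a9000000000006e38000000000000000005a800000001da60000000000227289c40000001c9f0000000000000089a800089940000000000000000000000006979c5c00000008960000716400000000000000000895219286440000000000000000000021897d2e2490000000861c00000000007e04000000197f8911b7e00022426de617b000223e00021730001b3888d40000000000000222d81a40000000000000205f889a15d0000000000222000021567d3e21b0001e1c00000000000000854621500000000000000883c000853220e0000000000000000021458824000882220500021400001f3b8811d3a84f00007c6201980da20184d00000000000884211184bc000883210d00000008496123881a1070000000880a1038458000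
def T2 : ℕ := 0x159b000000000022928a4489d0000000000228c26880005aa0000000227b89e8000000227789d21a40000000000000089be19e6a1e26b00022680001a7f898c0007d91c84000225d6e180007186259866219700022578650000895a1930002253894a250863624e0000000000224b000218800000000002083000224775f400000000008600000890c00085f224085e000088e623885ca17170f217088d216e88c800085aa06788ae22a8589f270002224856e2210002158000221f8875d51000000000021540000000885a14f88500007cc20310000000000000085240000002029811a20a00021440000000850800084f800000000007c64000806df15000213580621330002211844a20f844220d843a20b843212600022078422205841a20384122018408000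
def T3 : ℕ := 0x229676940007a9c00000000008a396a200000000000000000188d000000062421a87a4c0007e54000000000089c21a1666800089b00000000000000000000000008988000897c0000000000896c0000000000000000000000000000000000000000000000000000893618b00000000000000000000000022480002183891a2458604000000000085f400000000000000000000000000000000000000000000085b5e690000000000216488a8000000000000000000001c3a78dc00000000000001d4000000007cfe216000000000000000000000000204a0000000883a1470000000790c0007c8c00080940000001f1c00020210002020000201f000000088061360002200884a1130000000000212b000000000000008822109000000088121050000000845e114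
def T4 : ℕ := 0x228e0000000000000000000005e7c000663dda5000000000000000002270000000000000007db40000000000799e26400022620001d610000000896dd5d000219a6566258756a19500000000001e9100000000000000893c000000224d000000000020870002249000000000000000002182000000061fe24485f8000890a17988fa177000000000022376dbe2350002233000000000000008594000000000000000000000000788800000000000001d1e000221b8868000854c0000000000000221180c9b2e7cb1d2f0000000000220d80a80000000000000000000020408814000000220470e800084ee1380000000000000000000000000000000000088380000000000882800000000000000000848211c00000000000000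
def T5 : ℕ := 0x6ea0000725800000000007a8800000000008a280008a1627c0000000000000089e0000000000075d00006a5e1a00000000000000000000007da00000000000000226000000005d7625b00000000000000896000089580000002255000000000021906944000822c00000000000000000761c000892618600021847a08000000224479f800085fde7969ee17a81d8000000000088dc0000001b3d85bc00085b0000000000000000000000000000215c0002159000000000021570000000886db1d000221a854800085400008539f31000000078b9c30000202f0000000000000080a000000000000001f4100022050001e3c000220484e8000000000000000000000000000000084c8000000210f84a8000000210b00000000000000848400000000000000000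
def T6 : ℕ := 0x8a562948a4c00000022907e3d7978a340000002288000000089f0b886282278869e1a6869400000021a28286270867e26e00000000000a980000000000000000000000001f750000000000219900000000000000000000082000000000000000218e000218c00000008934000892800000000000000000892000000000000000000000000000000000000000000000000000006501c41000000000000000001f2e88ae169000000000000000000000888c0007549a5300000000000000000000000000000000000000000000000000000000000204c8838000852c00000000007c94000809e208850e03f0001e38881400080dc000000220400000000000000000201700000000000000000212d00000000002209842a1240000000847e11a00000008802101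
def T7 : ℕ := 0x134b51a40000000000000078a0000d9800000000000c9c00000000000000000126a00000000000000000066b000000045c8000000000000000000000000000000000000000000000000000000000000000000000000000010890000000000054d000000000000000000000000000000000000000000000000000000000000000000000000000000000000000000000000000000000000043200000000000000000000000000000000000000000000000000000000000000000000000000000000000000000000c440000000000000000000000000000000000000000000000000000000000000000000000000000000000000000000000000000000002120400000000000000000000000000000000000000000000000000000000000000000000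
def T8 : ℕ := 0xf6a0000000000000000000000000e7200000000000000000000000000000000000000000000000000000000000000000000000000000000000000000000000000000000000000000000000000000000000000000000000000000000000000000000000000000000000000000000000000000000000000000000000000000000000000000000000000000000000000000000000000000000000000000000000000000000000000000000000000000000000000000000000000000000000000000000000000000000000
def tabs : List ℕ := [T0, T1, T2, T3, T4, T5, T6, T7, T8]
def dc : ℕ := 0x3666226346256556226522114362632121424353245321452502512224234626104536233051421424122541424216022301262010221544503212400106134000216114564150600310332124212463212321260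
noncomputable def look (c n : ℕ) : ℕ := lookF tabs 14 16383 c n
noncomputable def dcol (n : ℕ) : ℕ := Nat.land (Nat.shiftRight dc (Nat.mul 4 n)) 15
def inv : List ℕ := [0, 1, 2, 3, 5, 4, 6]
def lab : List ℕ := [0, 1, 2, 3, 4, 5, 6, 7, 1]
def rels : List (List ℕ) := [
  [0, 3, 0, 3],
  [0, 1, 2, 1, 2, 1, 2, 1, 2],
  [1, 3, 1, 3],
  [2, 3, 2, 3, 2, 3],
  [0, 1, 0, 1],
  [0, 2, 0, 2],
  [4, 4, 1, 0],
  [5, 0, 4, 0],
  [5, 1, 4, 1],
  [5, 3, 4, 3],
  [2, 3, 5, 2, 4, 2, 3, 5, 2, 4],
  [6, 0, 6, 1],
  [3, 6, 3, 6],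
  [6, 4, 6, 3, 5],
  [6, 2, 4, 2, 6, 1, 3, 2, 5, 2, 6, 3, 5, 2, 5, 2],
  [6, 2, 1, 2, 6, 2, 1, 2, 6, 2, 1, 2],
  [2, 4, 2, 4, 2, 4, 2, 4, 2, 4, 2, 4]]
noncomputable def fx (c : ℕ) : Bool := memb [] (nth lab c)
def TM0 : List (Bool × List ℕ) := [(false, [0]), (true, [2, 0, 2]), (true, [4, 0, 5]), (true, [1, 0, 1]), (true, [5, 0, 4]), (true, [4, 4, 1]), (true, [3, 0, 3]), (true, [6, 1, 6])]
def TM1 : List (Bool × List ℕ) := [(false, [1]), (true, [6, 0, 6]), (true, [0, 1, 0]), (true, [4, 1, 5]), (true, [0, 4, 4]), (true, [2, 1, 2, 1, 2, 1, 0, 2]), (true, [3, 1, 3])]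
def TM2 : List (Bool × List ℕ) := [(false, [2]), (true, [0, 2, 0]), (true, [4, 3, 2, 5, 2, 4, 3, 2, 5]), (true, [3, 2, 3, 2, 3]), (true, [5, 2, 6, 3, 5, 2, 5, 2, 6, 2, 4, 2, 6, 1, 3]), (true, [1, 2, 1, 2, 1, 2, 0, 1])]
def TM3 : List (Bool × List ℕ) := [(false, [3]), (true, [6, 3, 6]), (true, [0, 3, 0]), (true, [1, 3, 1]), (true, [2, 5, 2, 4, 3, 2, 5, 2, 4]), (true, [4, 3, 5]), (true, [5, 3, 4])]
def TM4 : List (Bool × List ℕ) := [(false, [5]), (true, [0, 1, 5]), (true, [1, 4, 1]), (true, [5, 0, 1]), (true, [6, 4, 3, 6]), (true, [0, 4, 0])]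
def TM5 : List (Bool × List ℕ) := [(false, [4]), (true, [4, 1, 0]), (true, [1, 0, 4]), (true, [1, 5, 1]), (true, [3, 5, 3]), (true, [0, 5, 0]), (true, [3, 2, 5, 2, 4, 3, 2, 5, 2]), (true, [6, 3, 5, 6])]
def TM6 : List (Bool × List ℕ) := [(false, [6]), (true, [1, 6, 0]), (true, [3, 5, 6, 4]), (true, [3, 6, 3]), (true, [0, 6, 1]), (true, [2, 1, 2, 6, 2, 1, 2, 6, 2, 1, 2]), (true, [4, 3, 6, 5]), (true, [4, 6, 3, 5]), (true, [7, 6])]
def TM7 : List (Bool × List ℕ) := [(true, [2, 7, 2]), (false, [7]), (true, [1, 7, 1]), (true, [2, 5, 2, 6, 3, 5, 2, 5, 2, 6, 2, 4, 2, 6, 1, 3]), (true, [2, 6, 2, 4, 2, 6, 1, 3, 2, 5, 2, 6, 3, 5, 2, 5]), (true, [5, 7, 4]), (true, [6, 2, 1, 2, 6, 2, 8, 2, 6, 2, 1, 2]), (true, [6, 7, 6]), (false, [1, 7, 1]), (false, [3, 7, 3])]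
def TM8 : List (Bool × List ℕ) := [(true, [7, 1]), (false, [8])]
def TT : List (List (Bool × List ℕ)) := [TM0, TM1, TM2, TM3, TM4, TM5, TM6, TM7, TM8]

theorem tt_ok : allOK 7 inv lab (withInv 7 inv rels) TT 0 = true := by decide +kernel
theorem bits_ok : bitsLt (14 * 169) tabs = true := by decide +kernel

theorem chunk0 : RangeOk look 255 0 1 dcol fx TT 0 1 :=
  RangeOk.of_chunk (S := 1) (pb := 1) (pm := 1) 1 (by decide) rfl (DD := [
  (0, (1, 0x0), (0, 0x0), [(0, 0x0), (0, 0x0), (0, 0x0), (0, 0x0), (0, 0x0), (0, 0x0), (0, 0x0), (0, 0x0)]),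
  (0, (1, 0x0), (0, 0x0), [(0, 0x0), (0, 0x0), (0, 0x0), (0, 0x0), (0, 0x0), (0, 0x0), (0, 0x0)]),
  (0, (1, 0x0), (0, 0x0), [(0, 0x0), (0, 0x0), (0, 0x0), (0, 0x0), (0, 0x0), (0, 0x0)]),
  (0, (0, 0x0), (0, 0x0), [(1, 0x0), (0, 0x0), (0, 0x0), (0, 0x0), (0, 0x0), (0, 0x0), (0, 0x0)]),
  (0, (1, 0x0), (0, 0x0), [(0, 0x0), (0, 0x0), (0, 0x0), (0, 0x0), (0, 0x0), (0, 0x0)]),
  (0, (1, 0x0), (0, 0x0), [(0, 0x0), (0, 0x0), (0, 0x0), (0, 0x0), (0, 0x0), (0, 0x0), (0, 0x0), (0, 0x0)]),
  (0, (0, 0x0), (0, 0x0), [(1, 0x0), (0, 0x0), (0, 0x0), (0, 0x0), (0, 0x0), (0, 0x0), (0, 0x0), (0, 0x0), (0, 0x0)]),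
  (0, (1, 0x0), (0, 0x0), [(0, 0x0), (0, 0x0), (0, 0x0), (0, 0x0), (0, 0x0), (0, 0x0), (0, 0x0), (0, 0x0), (0, 0x0), (0, 0x0)]),
  (0, (1, 0x0), (0, 0x0), [(0, 0x0), (0, 0x0)])]) (by decide +kernel)
theorem chunk1 : RangeOk look 255 0 1 dcol fx TT 1 169 :=
  RangeOk.of_chunk (S := 168) (pb := 8) (pm := 255) 169 (by decide) rfl (DD := [
  (0, (104, 0xa7a6a5a4a3a2a1a09f9e9d9c9b9a999897969594939291908f8e8d8c8b8a89888785848382817f7c7b7a797876747371706e6d6c6b6a69686764636261605c5a59585752514d4c4b4a4746423f3d3b3a353332312e2c2b292422211c1b16131211100c0807060504), (18, 0x75665e4945403e36302f2d2827261a181714), [(25, 0x86807e7d55504e4844392a251f1e190f0e0d0b0a0903020100), (7, 0x776f5453434134), (4, 0x5b4f381d), (3, 0x723c15), (3, 0x5d5637), (2, 0x6520), (1, 0x5f), (1, 0x23)]),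
  (0, (94, 0xa7a6a4a1a09f9d9c9b9a9997969493928f8e8c8b8a89878584838281807f7c7b7977767574736f6e6d6c6b6a66656362615f5e5a5654524f4e4d4c494847464241403e3a383736353231302f2d2a2928272623201e191312110d0a090403), (27, 0x919088867a72675c5955504b443f3b332e2b2422211c15100c0602), [(31, 0xa5a39e71706968645d5b585753433d342c251f1b1a18140f0e0b0807050100), (4, 0x958d514a), (3, 0x7e4517), (3, 0x987d78), (2, 0x391d), (2, 0xa23c), (2, 0x6016)]),
  (0, (64, 0xa6a5a4a09f9e9b99989594908f8e8d888683807d7875726c6b6a68666564625f5e5d5b59554b44403e3a39383635312e2d2c2b29282422211f1d1c1b19161208), (44, 0xa3a29d979693928c8987847f7b777471706f6d69615a5754534e4c484743413d3c343225110f0d0b07050301), [(46, 0xa7a1918b85827c7a7976736e675c58565251504f4d4a4645423f3733302a23201e1a171513100e0c0a0906040200), (6, 0x492f27261814), (3, 0x8a817e), (2, 0x6360), (2, 0x9c9a), (1, 0x3b)]),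
  (0, (113, 0xa5a3a2a19e9d9c9b9a98979391908f8b89888786858483817f7e7d7b7a797877767574737271706f6e6d6a696867666564625d5c5b595857565554535251504f4e4d4a49484544434241403d3c3b3a383734333231302f2e2c2b2827252321201e1c1a181714100f0e0c0b0a0906050201), (19, 0xa7a08e8a82807c6c63605f46352a1613120804), [(22, 0xa69995948d6b615e5a4c473f3e29241f15110d070300), (5, 0xa49f4b2619), (2, 0x362d), (2, 0x3922), (2, 0x928c), (2, 0x961d), (1, 0x1b)]),
  (0, (111, 0xa7a6a5a4a3a2a1a09e9d9c9b9a999794939291908e8d8c8b8988878482807f7c7675747271706f6d6c6a69686664636261605e5d595453524e4c4b4a49474645444342413f3e3d3c3a37353433322c2b2a2726252423221f1e1b1817161514131211100f0d0c0b0908070605020100), (23, 0x9f8f85837e796e6b655b5856514f4d39383129201d0e0a), [(23, 0x968a817d7b7a78775f5a575548403b362f2e2d1a190403), (3, 0x503028), (3, 0x67211c), (2, 0x735c), (2, 0x9895), (1, 0x86)]),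
  (0, (108, 0xa7a5a3a2a19f9e9d9b989796959392918f8c8b8a89888785848382807f7c7b7a797775747271706d6b6a69686765625f5e5b55545351504d4b4a49484746454442403f3e3c3b383533302f2c2a29282725242322201e1c1918171615141312110f0e0b0a0807060503020100), (16, 0x9c9a9994817d787673645d523a371f1b), [(28, 0xa4908d867e6f6e6663615a574e4c43413d39363432311a100d0c0904), (5, 0x564f2e2d21), (3, 0x605c59), (3, 0x582b1d), (2, 0xa66c), (1, 0x26), (1, 0x8e), (1, 0xa0)]),
  (0, (111, 0xa7a3a29d9c9a9991908a8988868584838281807e7d7c7a7978777675737271706e6c6b69676665646361605f5e5d5c5b5a59585756555453504f4e4d4c484746454443413e3d3c3b3a393837363534333231302f2e2b29282725201d1b1a18171615141211100f0e0c0b0a06050201), (21, 0xa6a5a4a19e9b98958d8b6a68624a422c231e190900), [(24, 0xa09f9493928f8c877f7b6f6d52514b492a26220d08070403), (3, 0x24211c), (2, 0x3f1f), (2, 0x8e13), (1, 0x2d), (1, 0x74), (1, 0x96), (1, 0x40), (1, 0x97)]),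
  (0, (154, 0xa7a6a5a4a1a09f9e9c9a99989695949392908f8e8d8c8a8987868584838281807f7e7d7c7b7a7978777675747372706f6e6c6b6a696867666564636261605f5e5d5c5b5a595857565554535251504f4e4c4b4a494847464544434241403f3e3d3c3b3a3938373635343331302f2e2d2c2b2a292827262524232221201f1e1d1c1b1a19181716151411100f0e0d0c0b0a09080706050403020100), (0, 0x0), [(4, 0x918b4d13), (2, 0x9771), (1, 0xa3), (1, 0xa2), (1, 0x9d), (1, 0x32), (1, 0x9b), (1, 0x6d), (1, 0x88), (1, 0x12)]),
  (0, (166, 0xa7a6a5a4a3a2a1a09f9e9d9c9b9a999897969594939291908f8e8d8c8b8a898887868584838281807f7e7d7c7b7a7978777675747372706f6e6d6c6b6a6867666564636261605f5e5d5c5b5a595857565554535251504f4e4d4c4b4a494847464544434241403f3e3d3c3b3a393837363534333231302f2e2d2c2b2a292827262524232221201f1e1d1c1b1a191817161514131211100f0e0d0c0b0a09080706050403020100), (0, 0x0), [(1, 0x71), (1, 0x69)])]) (by decide +kernel)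

theorem valid : Valid look 255 0 1 169 dcol fx TT where
  fin := chunk0
  rest := chunk1
  out := fun c n h => by
    have := lookF_ne_zero bits_ok c n h
    exact ⟨this.1, this.2⟩
  bdd := ⟨_, fun c n => lookF_le tabs _ _ c n⟩
  cols := by decide
  pos := by decide

theorem traced : trace look 255 0 0 [6, 2, 1, 2, 3, 2, 1, 2, 3, 6, 5, 2, 1, 2, 5, 2, 1, 2, 3, 7] 0 = true := by decide +kernel

theorem word {G : Type*} [Group G] (gl : List G) (hl : gl.length = 7)
    (hinv : ∀ a < gl.length, lv gl a * lv gl (nth inv a) = 1) (hrel : ∀ r ∈ rels, wprod gl r = 1) :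
    wprod gl ([6, 2, 1, 2, 3, 2, 1, 2, 3, 6, 5, 2, 1, 2, 5, 2, 1, 2, 3, 7].map (nth lab)) = 1 := by
  have h := mem_of_trace gl inv lab [] rels valid (by rw [hl]; exact tt_ok) hinv hrel (⊥ : Subgroup G)
    (by simp) [6, 2, 1, 2, 3, 2, 1, 2, 3, 6, 5, 2, 1, 2, 5, 2, 1, 2, 3, 7] traced
  exact Subgroup.mem_bot.1 h

theorem rel {G : Type*} [Group G] (a c d e u w : G)
    (i0 : a * a = 1)
    (i1 : c * c = 1)
    (i2 : d * d = 1)
    (i3 : e * e = 1)
    (i6 : w * w = 1)
    (h0 : a * e * a * e = 1)
    (h1 : a * c * d * c * d * c * d * c * d = 1)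
    (h2 : c * e * c * e = 1)
    (h3 : d * e * d * e * d * e = 1)
    (h4 : a * c * a * c = 1)
    (h5 : a * d * a * d = 1)
    (h6 : u * u * c * a = 1)
    (h7 : u⁻¹ * a * u * a = 1)
    (h8 : u⁻¹ * c * u * c = 1)
    (h9 : u⁻¹ * e * u * e = 1)
    (h10 : d * e * u⁻¹ * d * u * d * e * u⁻¹ * d * u = 1)
    (h11 : w * a * w * c = 1)
    (h12 : e * w * e * w = 1)
    (h13 : w * u * w * e * u⁻¹ = 1)
    (h14 : w * d * u * d * w * c * e * d * u⁻¹ * d * w * e * u⁻¹ * d * u⁻¹ * d = 1)
    (h15 : w * d * c * d * w * d * c * d * w * d * c * d = 1)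
    (h16 : d * u * d * u * d * u * d * u * d * u * d * u = 1) :
    w * d * c * d * e * d * c * d * e * w * u⁻¹ * d * c * d * u⁻¹ * d * c * d * e = 1 := by
  have h : wprod [a, c, d, e, u, u⁻¹, w] [6, 2, 1, 2, 3, 2, 1, 2, 3, 6, 5, 2, 1, 2, 5, 2, 1, 2, 3, 7] = 1 := word [a, c, d, e, u, u⁻¹, w] rfl (by
    intro i hi
    match i, hi with
    | 0, _ => exact i0
    | 1, _ => exact i1
    | 2, _ => exact i2
    | 3, _ => exact i3
    | 4, _ => exact mul_inv_cancel u
    | 5, _ => exact inv_mul_cancel u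
    | 6, _ => exact i6
    | n + 7, hi => exact absurd hi (by simp)) (by
    intro r hr
    simp only [rels, List.mem_cons, List.not_mem_nil, or_false] at hr
    rcases hr with rfl | rfl | rfl | rfl | rfl | rfl | rfl | rfl | rfl | rfl | rfl | rfl | rfl | rfl | rfl | rfl | rfl
    · simpa only [wprod, lv, List.map_cons, List.map_nil, List.prod_cons, List.prod_nil, List.getD_cons_zero, List.getD_cons_succ,
      List.getD_nil, mul_assoc, mul_one] using h0
    · simpa only [wprod, lv, List.map_cons, List.map_nil, List.prod_cons, List.prod_nil, List.getD_cons_zero, List.getD_cons_succ,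
      List.getD_nil, mul_assoc, mul_one] using h1
    · simpa only [wprod, lv, List.map_cons, List.map_nil, List.prod_cons, List.prod_nil, List.getD_cons_zero, List.getD_cons_succ,
      List.getD_nil, mul_assoc, mul_one] using h2
    · simpa only [wprod, lv, List.map_cons, List.map_nil, List.prod_cons, List.prod_nil, List.getD_cons_zero, List.getD_cons_succ,
      List.getD_nil, mul_assoc, mul_one] using h3
    · simpa only [wprod, lv, List.map_cons, List.map_nil, List.prod_cons, List.prod_nil, List.getD_cons_zero, List.getD_cons_succ,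
      List.getD_nil, mul_assoc, mul_one] using h4
    · simpa only [wprod, lv, List.map_cons, List.map_nil, List.prod_cons, List.prod_nil, List.getD_cons_zero, List.getD_cons_succ,
      List.getD_nil, mul_assoc, mul_one] using h5
    · simpa only [wprod, lv, List.map_cons, List.map_nil, List.prod_cons, List.prod_nil, List.getD_cons_zero, List.getD_cons_succ,
      List.getD_nil, mul_assoc, mul_one] using h6
    · simpa only [wprod, lv, List.map_cons, List.map_nil, List.prod_cons, List.prod_nil, List.getD_cons_zero, List.getD_cons_succ,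
      List.getD_nil, mul_assoc, mul_one] using h7
    · simpa only [wprod, lv, List.map_cons, List.map_nil, List.prod_cons, List.prod_nil, List.getD_cons_zero, List.getD_cons_succ,
      List.getD_nil, mul_assoc, mul_one] using h8
    · simpa only [wprod, lv, List.map_cons, List.map_nil, List.prod_cons, List.prod_nil, List.getD_cons_zero, List.getD_cons_succ,
      List.getD_nil, mul_assoc, mul_one] using h9
    · simpa only [wprod, lv, List.map_cons, List.map_nil, List.prod_cons, List.prod_nil, List.getD_cons_zero, List.getD_cons_succ,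
      List.getD_nil, mul_assoc, mul_one] using h10
    · simpa only [wprod, lv, List.map_cons, List.map_nil, List.prod_cons, List.prod_nil, List.getD_cons_zero, List.getD_cons_succ,
      List.getD_nil, mul_assoc, mul_one] using h11
    · simpa only [wprod, lv, List.map_cons, List.map_nil, List.prod_cons, List.prod_nil, List.getD_cons_zero, List.getD_cons_succ,
      List.getD_nil, mul_assoc, mul_one] using h12
    · simpa only [wprod, lv, List.map_cons, List.map_nil, List.prod_cons, List.prod_nil, List.getD_cons_zero, List.getD_cons_succ,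
      List.getD_nil, mul_assoc, mul_one] using h13
    · simpa only [wprod, lv, List.map_cons, List.map_nil, List.prod_cons, List.prod_nil, List.getD_cons_zero, List.getD_cons_succ,
      List.getD_nil, mul_assoc, mul_one] using h14
    · simpa only [wprod, lv, List.map_cons, List.map_nil, List.prod_cons, List.prod_nil, List.getD_cons_zero, List.getD_cons_succ,
      List.getD_nil, mul_assoc, mul_one] using h15
    · simpa only [wprod, lv, List.map_cons, List.map_nil, List.prod_cons, List.prod_nil, List.getD_cons_zero, List.getD_cons_succ,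
      List.getD_nil, mul_assoc, mul_one] using h16
    )
  simpa only [wprod, lv, List.map_cons, List.map_nil, List.prod_cons, List.prod_nil, List.getD_cons_zero, List.getD_cons_succ,
      List.getD_nil, mul_assoc, mul_one] using h

end L3

/-! ### L4: 79 nodes, 7 columns, 216 entries; letters `a c d e u U`; conclusion `ddcdudcdudUdcdUdcdedcdea = 1` -/

namespace L4

def T0 : ℕ := 0x54c6bd0000000000000000000000005c000074800000000071e00000000089589400000000000088f88e00072b7ac88d88c6a762888b00088a8890008887bc8877b988688588488388200089681783583400000000000082f82e82a82982682482382181f81d81c81b81a819000000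
def T1 : ℕ := 0x44b4cc8bd00000000000000000000000000000000000084a00000000000073900000000000000000000000000000088e6aa88d62c00000000000000000000000000000000000000079d00000000000000000000089381400000088f81082d00088b80c000000000000885806000000880000802
def T2 : ℕ := 0x2468c28c000000063f8bc8bb2ce8b70008b284d00084c6c90008a084884789e0000000000007347b50008430007b30007af0000000000007aa0000000000007a60000007a383d00000000000079c00079a00000000089481589281389081188e80f88c80d88a80b888809886807884805882803880801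
def T3 : ℕ := 0x74b0000000000008a98a87278a100089f0007bd89d89c8987440000008930007c28900000000000000000008418407bf00088b00000088883e88783c8868398380000000000007b5895816000833891812830000000000000825000000822820000000000000000000000
def T4 : ℕ := 0x3cb5ca8bd0004cd6cc5c58ba0008b584e8b000000054100084973e0000000000000008970007320008938900007b100000088e0005ad00088c5a97a883f0000000000007a27a183b00000000079b00088000000000000000000000000000088d000000827889000000808000000000804000000000
def T5 : ℕ := 0x8c344964834d54c8bd0000000006470000000000000008a500084b00089e0000006bb0000008440000007b400084200000000000000052e00072688b0000000007a472000000000000000000000000000079983600000000083200000083100082c80e82800000080a887000000000883000000000000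
def T6 : ℕ := 0x1b7000000000000000000000000000000000000000118000000000000000000000000000000000000000000000000000000000000000000000000000000000000000000080000000000000000000000000000000000000000000000000000000000000000000000
def tabs : List ℕ := [T0, T1, T2, T3, T4, T5, T6]
def dc : ℕ := 0x15286a51451bad3a9b70072300c204a180c30c00040d14d1511515455450
noncomputable def look (c n : ℕ) : ℕ := lookF tabs 12 4095 c n
noncomputable def dcol (n : ℕ) : ℕ := Nat.land (Nat.shiftRight dc (Nat.mul 3 n)) 7
def inv : List ℕ := [0, 1, 2, 3, 5, 4]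
def lab : List ℕ := [0, 1, 2, 3, 4, 5, 6]
def rels : List (List ℕ) := [
  [0, 3, 0, 3],
  [0, 1, 2, 1, 2, 1, 2, 1, 2],
  [1, 3, 1, 3],
  [2, 3, 2, 3, 2, 3],
  [0, 1, 0, 1],
  [0, 2, 0, 2],
  [4, 4, 1, 0],
  [5, 0, 4, 0],
  [5, 1, 4, 1],
  [5, 3, 4, 3],
  [2, 3, 5, 2, 4, 2, 3, 5, 2, 4],
  [2, 4, 2, 4, 2, 4, 2, 4, 2, 4, 2, 4]]
noncomputable def fx (c : ℕ) : Bool := memb [] (nth lab c)
def TM0 : List (Bool × List ℕ) := [(false, [0]), (true, [3, 0, 3]), (true, [2, 0, 2]), (true, [1, 5, 5]), (true, [5, 0, 4])]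
def TM1 : List (Bool × List ℕ) := [(false, [1]), (true, [0, 1, 0]), (true, [3, 1, 3]), (true, [4, 1, 5])]
def TM2 : List (Bool × List ℕ) := [(false, [2]), (true, [0, 2, 0]), (true, [3, 5, 2, 4, 2, 3, 5, 2, 4]), (true, [3, 2, 3, 2, 3])]
def TM3 : List (Bool × List ℕ) := [(false, [3]), (true, [4, 3, 5]), (true, [0, 3, 0]), (true, [2, 3, 2, 3, 2]), (true, [5, 3, 4])]
def TM4 : List (Bool × List ℕ) := [(false, [5]), (true, [0, 4, 0]), (true, [3, 4, 3]), (true, [0, 1, 5]), (true, [2, 4, 3, 2, 5, 2, 4, 3, 2]), (true, [5, 0, 1]), (true, [1, 4, 1])]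
def TM5 : List (Bool × List ℕ) := [(false, [4]), (true, [4, 1, 0]), (true, [0, 5, 0]), (true, [1, 0, 4]), (true, [2, 3, 5, 2, 4, 2, 3, 5, 2])]
def TM6 : List (Bool × List ℕ) := [(true, [3, 6, 3]), (true, [4, 2, 4, 2, 4, 2, 4, 2, 4, 2, 4, 2]), (true, [5, 6, 4])]
def TT : List (List (Bool × List ℕ)) := [TM0, TM1, TM2, TM3, TM4, TM5, TM6]

theorem tt_ok : allOK 6 inv lab (withInv 6 inv rels) TT 0 = true := by decide +kernel
theorem bits_ok : bitsLt (12 * 79) tabs = true := by decide +kernel

theorem chunk0 : RangeOk look 127 0 1 dcol fx TT 0 1 :=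
  RangeOk.of_chunk (S := 1) (pb := 1) (pm := 1) 1 (by decide) rfl (DD := [
  (0, (1, 0x0), (0, 0x0), [(0, 0x0), (0, 0x0), (0, 0x0), (0, 0x0), (0, 0x0)]),
  (0, (0, 0x0), (0, 0x0), [(1, 0x0), (0, 0x0), (0, 0x0), (0, 0x0)]),
  (0, (0, 0x0), (0, 0x0), [(1, 0x0), (0, 0x0), (0, 0x0), (0, 0x0)]),
  (0, (1, 0x0), (0, 0x0), [(0, 0x0), (0, 0x0), (0, 0x0), (0, 0x0), (0, 0x0)]),
  (0, (1, 0x0), (0, 0x0), [(0, 0x0), (0, 0x0), (0, 0x0), (0, 0x0), (0, 0x0), (0, 0x0), (0, 0x0)]),
  (0, (1, 0x0), (0, 0x0), [(0, 0x0), (0, 0x0), (0, 0x0), (0, 0x0), (0, 0x0)]),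
  (0, (1, 0x0), (0, 0x0), [(0, 0x0), (0, 0x0), (0, 0x0)])]) (by decide +kernel)
theorem chunk1 : RangeOk look 127 0 1 dcol fx TT 1 79 :=
  RangeOk.of_chunk (S := 78) (pb := 7) (pm := 127) 79 (by decide) rfl (DD := [
  (0, (33, 0x4d992e5498d16243850603f7aedd396ed9ab262c17ac4884b922240780), (17, 0x3466b96a950951a24078e1b3464c16), [(21, 0x4770ad315284c70d182c509101c305080c101), (3, 0xf8f9d), (2, 0x243c), (1, 0x2a), (1, 0x27)]),
  (0, (58, 0x26cc911e345890e14180fdf3d76e9cb86cd5a3364c582f5cb54274c95223448501f3c74e1a3260b962a5089018244070c0c100), (8, 0x92b15131e2c281), [(8, 0x96f14921c34504), (2, 0x159b), (1, 0x37), (1, 0x4a)]),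
  (0, (30, 0x25498701eb86ed9ab260b962b54a53a64a911213c74e1b325cb15), (19, 0x1325c78d1213c72509101c305080c10100), [(19, 0x1364417eedd34627c9911e345890e14181), (7, 0xcd6a84680d18), (2, 0x22be), (1, 0x2f)]),
  (0, (43, 0x13664b95264478d121c282f1d3466c572d58ad5294a8d11a3260b931c3460b12202840608080), (15, 0x101fbd76e1bb664bd2213e74a91), [(14, 0x1f284e80f1c36509101e28386), (3, 0x115ab0), (1, 0x16), (1, 0x39), (1, 0x26)]),
  (0, (44, 0x9b262407ef5d3970ddb3464bd6ac54a11a24280e1b3460b15284c911203c70c1620385080c080), (12, 0x95161c16ac582b4e5c689), [(9, 0x4684f19a43a28302), (3, 0x98f19), (3, 0xf9d9f), (2, 0x1725), (2, 0x2447), (2, 0x264b), (1, 0x29)]),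
  (0, (49, 0x478d161c28301fbd76e5c366acd9305cb562b54a12a44680f9e3a70d9a3260a94264480e14243050808080), (7, 0x13643e7498383), [(16, 0x992e54978d17a7425890f1a30588), (3, 0xc5497), (1, 0x22), (1, 0x37), (1, 0x44)]),
  (0, (75, 0x13664b95264478d162428301fbe7af1dba72e1bb668cd93160bd72d58ad529509d325488d121407cf1d386cd19305ca9426488901e3868c16284880e182840608080), (0, 0x0), [(1, 0x35), (1, 0x43), (1, 0x16)])]) (by decide +kernel)

theorem valid : Valid look 127 0 1 79 dcol fx TT where
  fin := chunk0
  rest := chunk1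
  out := fun c n h => by
    have := lookF_ne_zero bits_ok c n h
    exact ⟨this.1, this.2⟩
  bdd := ⟨_, fun c n => lookF_le tabs _ _ c n⟩
  cols := by decide
  pos := by decide

theorem traced : trace look 127 0 0 [2, 2, 1, 2, 4, 2, 1, 2, 4, 2, 5, 2, 1, 2, 5, 2, 1, 2, 3, 2, 1, 2, 3, 0, 6] 0 = true := by decide +kernel

theorem word {G : Type*} [Group G] (gl : List G) (hl : gl.length = 6)
    (hinv : ∀ a < gl.length, lv gl a * lv gl (nth inv a) = 1) (hrel : ∀ r ∈ rels, wprod gl r = 1) :
    wprod gl ([2, 2, 1, 2, 4, 2, 1, 2, 4, 2, 5, 2, 1, 2, 5, 2, 1, 2, 3, 2, 1, 2, 3, 0, 6].map (nth lab)) = 1 := by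
  have h := mem_of_trace gl inv lab [] rels valid (by rw [hl]; exact tt_ok) hinv hrel (⊥ : Subgroup G)
    (by simp) [2, 2, 1, 2, 4, 2, 1, 2, 4, 2, 5, 2, 1, 2, 5, 2, 1, 2, 3, 2, 1, 2, 3, 0, 6] traced
  exact Subgroup.mem_bot.1 h

theorem rel {G : Type*} [Group G] (a c d e u : G)
    (i0 : a * a = 1)
    (i1 : c * c = 1)
    (i2 : d * d = 1)
    (i3 : e * e = 1)
    (h0 : a * e * a * e = 1)
    (h1 : a * c * d * c * d * c * d * c * d = 1)
    (h2 : c * e * c * e = 1)
    (h3 : d * e * d * e * d * e = 1)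
    (h4 : a * c * a * c = 1)
    (h5 : a * d * a * d = 1)
    (h6 : u * u * c * a = 1)
    (h7 : u⁻¹ * a * u * a = 1)
    (h8 : u⁻¹ * c * u * c = 1)
    (h9 : u⁻¹ * e * u * e = 1)
    (h10 : d * e * u⁻¹ * d * u * d * e * u⁻¹ * d * u = 1)
    (h11 : d * u * d * u * d * u * d * u * d * u * d * u = 1) :
    d * d * c * d * u * d * c * d * u * d * u⁻¹ * d * c * d * u⁻¹ * d * c * d * e * d * c * d * e * a = 1 := by
  have h : wprod [a, c, d, e, u, u⁻¹] [2, 2, 1, 2, 4, 2, 1, 2, 4, 2, 5, 2, 1, 2, 5, 2, 1, 2, 3, 2, 1, 2, 3, 0, 6] = 1 := word [a, c, d, e, u, u⁻¹] rfl (by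
    intro i hi
    match i, hi with
    | 0, _ => exact i0
    | 1, _ => exact i1
    | 2, _ => exact i2
    | 3, _ => exact i3
    | 4, _ => exact mul_inv_cancel u
    | 5, _ => exact inv_mul_cancel u
    | n + 6, hi => exact absurd hi (by simp)) (by
    intro r hr
    simp only [rels, List.mem_cons, List.not_mem_nil, or_false] at hr
    rcases hr with rfl | rfl | rfl | rfl | rfl | rfl | rfl | rfl | rfl | rfl | rfl | rfl
    · simpa only [wprod, lv, List.map_cons, List.map_nil, List.prod_cons, List.prod_nil, List.getD_cons_zero, List.getD_cons_succ,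
      List.getD_nil, mul_assoc, mul_one] using h0
    · simpa only [wprod, lv, List.map_cons, List.map_nil, List.prod_cons, List.prod_nil, List.getD_cons_zero, List.getD_cons_succ,
      List.getD_nil, mul_assoc, mul_one] using h1
    · simpa only [wprod, lv, List.map_cons, List.map_nil, List.prod_cons, List.prod_nil, List.getD_cons_zero, List.getD_cons_succ,
      List.getD_nil, mul_assoc, mul_one] using h2
    · simpa only [wprod, lv, List.map_cons, List.map_nil, List.prod_cons, List.prod_nil, List.getD_cons_zero, List.getD_cons_succ,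
      List.getD_nil, mul_assoc, mul_one] using h3
    · simpa only [wprod, lv, List.map_cons, List.map_nil, List.prod_cons, List.prod_nil, List.getD_cons_zero, List.getD_cons_succ,
      List.getD_nil, mul_assoc, mul_one] using h4
    · simpa only [wprod, lv, List.map_cons, List.map_nil, List.prod_cons, List.prod_nil, List.getD_cons_zero, List.getD_cons_succ,
      List.getD_nil, mul_assoc, mul_one] using h5
    · simpa only [wprod, lv, List.map_cons, List.map_nil, List.prod_cons, List.prod_nil, List.getD_cons_zero, List.getD_cons_succ,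
      List.getD_nil, mul_assoc, mul_one] using h6
    · simpa only [wprod, lv, List.map_cons, List.map_nil, List.prod_cons, List.prod_nil, List.getD_cons_zero, List.getD_cons_succ,
      List.getD_nil, mul_assoc, mul_one] using h7
    · simpa only [wprod, lv, List.map_cons, List.map_nil, List.prod_cons, List.prod_nil, List.getD_cons_zero, List.getD_cons_succ,
      List.getD_nil, mul_assoc, mul_one] using h8
    · simpa only [wprod, lv, List.map_cons, List.map_nil, List.prod_cons, List.prod_nil, List.getD_cons_zero, List.getD_cons_succ,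
      List.getD_nil, mul_assoc, mul_one] using h9
    · simpa only [wprod, lv, List.map_cons, List.map_nil, List.prod_cons, List.prod_nil, List.getD_cons_zero, List.getD_cons_succ,
      List.getD_nil, mul_assoc, mul_one] using h10
    · simpa only [wprod, lv, List.map_cons, List.map_nil, List.prod_cons, List.prod_nil, List.getD_cons_zero, List.getD_cons_succ,
      List.getD_nil, mul_assoc, mul_one] using h11
    )
  simpa only [wprod, lv, List.map_cons, List.map_nil, List.prod_cons, List.prod_nil, List.getD_cons_zero, List.getD_cons_succ,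
      List.getD_nil, mul_assoc, mul_one] using h

end L4

/-! ### L5: 54 nodes, 7 columns, 137 entries; letters `a c d e u U`; conclusion `edcdudcdueUdcdUdcdc = 1` -/

namespace L5

def T0 : ℕ := 0x99400000000000000000ab7130030e0030d0000000000c1f06c1704c0c0000000b900000000002e2b80000000000000b6edab66d8b5c0000000
def T1 : ℕ := 0x2ad00000000000000000000c3c00c380000000000000029b000000000000000c4ad3c42d1b8c00c32cd0000000000c1ac700000c0ac300000
def T2 : ℕ := 0xcbc000032bcab28bd400c9323bcaf10000000000c4eed00260002a28740097c0000000a6800a6000a9f00b9711b4b0fb430db3b0bb300000307b2305b1b03b1301b0ad4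
def T3 : ℕ := 0x32ecb00000000c9af400000c7b1cc6a56c52ef000000000000000c32ebc1eea002e900000002a8c0ae7000000000000000002df00309b2a8b0000000000002d5c02c1
def T4 : ℕ := 0x1b3000006c000000000000097c0000315abc00bb800984000025e0030caa800000000029900302002e60000000000c380000000c2800002c9b7000002c50000000000
def T5 : ℕ := 0x7d175001f1003250022e000008a800003140000088800a8c00aaea0003070025c0000000297ba0000000000000002cf002de002cbc200000000c10000000000000
def T6 : ℕ := 0x12f0000000000000e60000000000000000000025000000000000000000000000000000000000000000010000000000000000000000000000000000000000000000000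
def tabs : List ℕ := [T0, T1, T2, T3, T4, T5, T6]
def dc : ℕ := 0x136927526dc75020871d00011a28a88a8ea2aa298
noncomputable def look (c n : ℕ) : ℕ := lookF tabs 10 1023 c n
noncomputable def dcol (n : ℕ) : ℕ := Nat.land (Nat.shiftRight dc (Nat.mul 3 n)) 7
def inv : List ℕ := [0, 1, 2, 3, 5, 4]
def lab : List ℕ := [0, 1, 2, 3, 4, 5, 6]
def rels : List (List ℕ) := [
  [0, 3, 0, 3],
  [0, 1, 2, 1, 2, 1, 2, 1, 2],
  [1, 3, 1, 3],
  [2, 3, 2, 3, 2, 3],
  [0, 1, 0, 1],
  [0, 2, 0, 2],
  [4, 4, 1, 0],
  [5, 0, 4, 0],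
  [5, 1, 4, 1],
  [5, 3, 4, 3],
  [2, 3, 5, 2, 4, 2, 3, 5, 2, 4],
  [2, 4, 2, 4, 2, 4, 2, 4, 2, 4, 2, 4]]
noncomputable def fx (c : ℕ) : Bool := memb [] (nth lab c)
def TM0 : List (Bool × List ℕ) := [(false, [0]), (true, [2, 0, 2])]
def TM1 : List (Bool × List ℕ) := [(false, [1]), (true, [0, 1, 0]), (true, [2, 1, 2, 1, 2, 1, 0, 2])]
def TM2 : List (Bool × List ℕ) := [(false, [2]), (true, [0, 2, 0]), (true, [3, 2, 3, 2, 3])]
def TM3 : List (Bool × List ℕ) := [(false, [3]), (true, [4, 3, 5])]
def TM4 : List (Bool × List ℕ) := [(false, [5]), (true, [3, 4, 3]), (true, [0, 4, 0])]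
def TM5 : List (Bool × List ℕ) := [(false, [4]), (true, [3, 5, 3]), (true, [4, 1, 0]), (true, [1, 0, 4]), (true, [1, 5, 1]), (true, [2, 3, 5, 2, 4, 2, 3, 5, 2]), (true, [2, 4, 2, 4, 2, 4, 2, 4, 2, 4, 2])]
def TM6 : List (Bool × List ℕ) := [(true, [2, 6, 2]), (true, [3, 6, 3]), (true, [4, 3, 2, 5, 2, 4, 3, 2, 5, 2]), (true, [4, 6, 5])]
def TT : List (List (Bool × List ℕ)) := [TM0, TM1, TM2, TM3, TM4, TM5, TM6]

theorem tt_ok : allOK 6 inv lab (withInv 6 inv rels) TT 0 = true := by decide +kernel
theorem bits_ok : bitsLt (10 * 54) tabs = true := by decide +kernel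

theorem chunk0 : RangeOk look 63 0 1 dcol fx TT 0 1 :=
  RangeOk.of_chunk (S := 1) (pb := 1) (pm := 1) 1 (by decide) rfl (DD := [
  (0, (1, 0x0), (0, 0x0), [(0, 0x0), (0, 0x0)]),
  (0, (1, 0x0), (0, 0x0), [(0, 0x0), (0, 0x0), (0, 0x0)]),
  (0, (0, 0x0), (0, 0x0), [(1, 0x0), (0, 0x0), (0, 0x0)]),
  (0, (0, 0x0), (0, 0x0), [(1, 0x0), (0, 0x0)]),
  (0, (1, 0x0), (0, 0x0), [(0, 0x0), (0, 0x0), (0, 0x0)]),
  (0, (1, 0x0), (0, 0x0), [(0, 0x0), (0, 0x0), (0, 0x0), (0, 0x0), (0, 0x0), (0, 0x0), (0, 0x0)]),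
  (0, (1, 0x0), (0, 0x0), [(0, 0x0), (0, 0x0), (0, 0x0), (0, 0x0)])]) (by decide +kernel)
theorem chunk1 : RangeOk look 63 0 1 dcol fx TT 1 54 :=
  RangeOk.of_chunk (S := 53) (pb := 6) (pm := 63) 54 (by decide) rfl (DD := [
  (0, (35, 0x34cf2c70beeb6baa9a279a58a079d71b5544d140f38b289207040), (8, 0x8e17da6585d6), [(9, 0x2c48d3061440c2), (1, 0x24)]),
  (0, (38, 0xd33cb1c2fbadb2aa689e69648e17de75c6da61759551334a2481c40c0), (7, 0x2281240c182), [(6, 0x44f38b141), (1, 0x19), (1, 0x2b)]),
  (0, (17, 0x33cada279a58a075b6995d5248), (16, 0xd31c2fb2b91344f34b1c50c1), [(15, 0x2eaa98e179240e30a184080), (3, 0x1f616), (2, 0x714)]),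
  (0, (29, 0x34c70becae48e28607da6175924503ce34c2861440c2), (12, 0xcf2baaa6899e714240), [(10, 0xb6795d6d94cb201), (2, 0x547)]),
  (0, (35, 0x34cb1beeb6cae9a258e181e6da65859449140f34c2c9205102040), (5, 0x2775538a), [(10, 0xcf0aa489f4c7183), (2, 0x99c), (1, 0x17)]),
  (0, (33, 0x34cf0bacaa99e692385f71a61759349140f38c2871850c2040), (5, 0x2d95b204), [(4, 0x50d2c9), (3, 0x32a1e), (3, 0x22755), (2, 0xad9), (1, 0x20), (1, 0x2f), (1, 0x31)]),
  (0, (49, 0x34cb1c2fbacaeaa689e69638a181f79d71b6996175955134503ce34c2ca2481c61440c2040), (0, 0x0), [(1, 0x12), (1, 0x2d), (1, 0x33), (1, 0x24)])]) (by decide +kernel)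

theorem valid : Valid look 63 0 1 54 dcol fx TT where
  fin := chunk0
  rest := chunk1
  out := fun c n h => by
    have := lookF_ne_zero bits_ok c n h
    exact ⟨this.1, this.2⟩
  bdd := ⟨_, fun c n => lookF_le tabs _ _ c n⟩
  cols := by decide
  pos := by decide

theorem traced : trace look 63 0 0 [3, 2, 1, 2, 4, 2, 1, 2, 4, 3, 5, 2, 1, 2, 5, 2, 1, 2, 1, 6] 0 = true := by decide +kernel

theorem word {G : Type*} [Group G] (gl : List G) (hl : gl.length = 6)
    (hinv : ∀ a < gl.length, lv gl a * lv gl (nth inv a) = 1) (hrel : ∀ r ∈ rels, wprod gl r = 1) :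
    wprod gl ([3, 2, 1, 2, 4, 2, 1, 2, 4, 3, 5, 2, 1, 2, 5, 2, 1, 2, 1, 6].map (nth lab)) = 1 := by
  have h := mem_of_trace gl inv lab [] rels valid (by rw [hl]; exact tt_ok) hinv hrel (⊥ : Subgroup G)
    (by simp) [3, 2, 1, 2, 4, 2, 1, 2, 4, 3, 5, 2, 1, 2, 5, 2, 1, 2, 1, 6] traced
  exact Subgroup.mem_bot.1 h

theorem rel {G : Type*} [Group G] (a c d e u : G)
    (i0 : a * a = 1)
    (i1 : c * c = 1)
    (i2 : d * d = 1)
    (i3 : e * e = 1)
    (h0 : a * e * a * e = 1)
    (h1 : a * c * d * c * d * c * d * c * d = 1)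
    (h2 : c * e * c * e = 1)
    (h3 : d * e * d * e * d * e = 1)
    (h4 : a * c * a * c = 1)
    (h5 : a * d * a * d = 1)
    (h6 : u * u * c * a = 1)
    (h7 : u⁻¹ * a * u * a = 1)
    (h8 : u⁻¹ * c * u * c = 1)
    (h9 : u⁻¹ * e * u * e = 1)
    (h10 : d * e * u⁻¹ * d * u * d * e * u⁻¹ * d * u = 1)
    (h11 : d * u * d * u * d * u * d * u * d * u * d * u = 1) :
    e * d * c * d * u * d * c * d * u * e * u⁻¹ * d * c * d * u⁻¹ * d * c * d * c = 1 := by
  have h : wprod [a, c, d, e, u, u⁻¹] [3, 2, 1, 2, 4, 2, 1, 2, 4, 3, 5, 2, 1, 2, 5, 2, 1, 2, 1, 6] = 1 := word [a, c, d, e, u, u⁻¹] rfl (by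
    intro i hi
    match i, hi with
    | 0, _ => exact i0
    | 1, _ => exact i1
    | 2, _ => exact i2
    | 3, _ => exact i3
    | 4, _ => exact mul_inv_cancel u
    | 5, _ => exact inv_mul_cancel u
    | n + 6, hi => exact absurd hi (by simp)) (by
    intro r hr
    simp only [rels, List.mem_cons, List.not_mem_nil, or_false] at hr
    rcases hr with rfl | rfl | rfl | rfl | rfl | rfl | rfl | rfl | rfl | rfl | rfl | rfl
    · simpa only [wprod, lv, List.map_cons, List.map_nil, List.prod_cons, List.prod_nil, List.getD_cons_zero, List.getD_cons_succ,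
      List.getD_nil, mul_assoc, mul_one] using h0
    · simpa only [wprod, lv, List.map_cons, List.map_nil, List.prod_cons, List.prod_nil, List.getD_cons_zero, List.getD_cons_succ,
      List.getD_nil, mul_assoc, mul_one] using h1
    · simpa only [wprod, lv, List.map_cons, List.map_nil, List.prod_cons, List.prod_nil, List.getD_cons_zero, List.getD_cons_succ,
      List.getD_nil, mul_assoc, mul_one] using h2
    · simpa only [wprod, lv, List.map_cons, List.map_nil, List.prod_cons, List.prod_nil, List.getD_cons_zero, List.getD_cons_succ,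
      List.getD_nil, mul_assoc, mul_one] using h3
    · simpa only [wprod, lv, List.map_cons, List.map_nil, List.prod_cons, List.prod_nil, List.getD_cons_zero, List.getD_cons_succ,
      List.getD_nil, mul_assoc, mul_one] using h4
    · simpa only [wprod, lv, List.map_cons, List.map_nil, List.prod_cons, List.prod_nil, List.getD_cons_zero, List.getD_cons_succ,
      List.getD_nil, mul_assoc, mul_one] using h5
    · simpa only [wprod, lv, List.map_cons, List.map_nil, List.prod_cons, List.prod_nil, List.getD_cons_zero, List.getD_cons_succ,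
      List.getD_nil, mul_assoc, mul_one] using h6
    · simpa only [wprod, lv, List.map_cons, List.map_nil, List.prod_cons, List.prod_nil, List.getD_cons_zero, List.getD_cons_succ,
      List.getD_nil, mul_assoc, mul_one] using h7
    · simpa only [wprod, lv, List.map_cons, List.map_nil, List.prod_cons, List.prod_nil, List.getD_cons_zero, List.getD_cons_succ,
      List.getD_nil, mul_assoc, mul_one] using h8
    · simpa only [wprod, lv, List.map_cons, List.map_nil, List.prod_cons, List.prod_nil, List.getD_cons_zero, List.getD_cons_succ,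
      List.getD_nil, mul_assoc, mul_one] using h9
    · simpa only [wprod, lv, List.map_cons, List.map_nil, List.prod_cons, List.prod_nil, List.getD_cons_zero, List.getD_cons_succ,
      List.getD_nil, mul_assoc, mul_one] using h10
    · simpa only [wprod, lv, List.map_cons, List.map_nil, List.prod_cons, List.prod_nil, List.getD_cons_zero, List.getD_cons_succ,
      List.getD_nil, mul_assoc, mul_one] using h11
    )
  simpa only [wprod, lv, List.map_cons, List.map_nil, List.prod_cons, List.prod_nil, List.getD_cons_zero, List.getD_cons_succ,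
      List.getD_nil, mul_assoc, mul_one] using h

end L5

/-! ### L6: 53 nodes, 7 columns, 142 entries; letters `a c d e u U`; conclusion `dcdudcdudcdudcdu = 1` -/

namespace L6

def T0 : ℕ := 0xccc0000056000000000000db0000005d0001d700089c00000000895125d044888f118000006acc5c00000882f922000000108c0000000107e0f41c8370680000000000209c11
def T1 : ℕ := 0x3deac00027246600000000000000000000000000000000000000000000f7c0000000000000000728000003d70000000000000113607000001126050000011160300000110601000
def T2 : ℕ := 0x46d8d91aa34c688cf1921a43300000218c300000022942e00000000000000000003de000f6c0000000000000000001095e980089d03e2640d89502e2440988d01e2240588500e20401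
def T3 : ℕ := 0x1d14608bd1762c45772d14c00000000fb626c2c0010ac0000000000222c29850f9e2080084c0000000000000210800000000000000000020c8000000020a800
def T4 : ℕ := 0x3b35e2001b817400000230800000000000008aa0000045100113400000000002248007b800000445001104000000011000000082000000000819080000008100000000080905c00000
def T5 : ℕ := 0x1b07e800199bb1000000000006d800000000000aa000000000f8e16c4a000e81ef800000001f4bda88400213c415ae0021244f0000000044b000000004470000020c4430000020b412
def T6 : ℕ := 0x48c0000000000000000000000670000000000000000000000000000000000000000000000000023c0004000000000000000000000000000000000000000000000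
def tabs : List ℕ := [T0, T1, T2, T3, T4, T5, T6]
def dc : ℕ := 0x24924a36db8d411d02001cb1d105455455455450
noncomputable def look (c n : ℕ) : ℕ := lookF tabs 11 2047 c n
noncomputable def dcol (n : ℕ) : ℕ := Nat.land (Nat.shiftRight dc (Nat.mul 3 n)) 7
def inv : List ℕ := [0, 1, 2, 3, 5, 4]
def lab : List ℕ := [0, 1, 2, 3, 4, 5, 6]
def rels : List (List ℕ) := [
  [0, 3, 0, 3],
  [0, 1, 2, 1, 2, 1, 2, 1, 2],
  [1, 3, 1, 3],
  [2, 3, 2, 3, 2, 3],
  [0, 1, 0, 1],
  [0, 2, 0, 2],
  [4, 4, 1, 0],
  [5, 0, 4, 0],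
  [5, 1, 4, 1],
  [5, 3, 4, 3],
  [2, 3, 5, 2, 4, 2, 3, 5, 2, 4]]
noncomputable def fx (c : ℕ) : Bool := memb [] (nth lab c)
def TM0 : List (Bool × List ℕ) := [(false, [0]), (true, [2, 0, 2]), (true, [3, 0, 3]), (true, [1, 5, 5]), (true, [4, 0, 5]), (true, [5, 0, 4])]
def TM1 : List (Bool × List ℕ) := [(false, [1]), (true, [0, 1, 0]), (true, [0, 4, 4]), (true, [5, 1, 4])]
def TM2 : List (Bool × List ℕ) := [(false, [2]), (true, [0, 2, 0])]
def TM3 : List (Bool × List ℕ) := [(false, [3]), (true, [4, 3, 5])]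
def TM4 : List (Bool × List ℕ) := [(false, [5]), (true, [0, 4, 0])]
def TM5 : List (Bool × List ℕ) := [(false, [4]), (true, [4, 1, 0]), (true, [2, 3, 5, 2, 4, 2, 3, 5, 2]), (true, [3, 5, 3]), (true, [0, 5, 0]), (true, [1, 0, 4])]
def TM6 : List (Bool × List ℕ) := [(true, [0, 6, 0]), (true, [2, 4, 2, 3, 5, 2, 4, 2, 3, 5]), (true, [2, 6, 2]), (false, [5, 6, 4])]
def TT : List (List (Bool × List ℕ)) := [TM0, TM1, TM2, TM3, TM4, TM5, TM6]

theorem tt_ok : allOK 6 inv lab (withInv 6 inv rels) TT 0 = true := by decide +kernel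
theorem bits_ok : bitsLt (11 * 53) tabs = true := by decide +kernel

theorem chunk0 : RangeOk look 63 0 1 dcol fx TT 0 1 :=
  RangeOk.of_chunk (S := 1) (pb := 1) (pm := 1) 1 (by decide) rfl (DD := [
  (0, (0, 0x0), (0, 0x0), [(1, 0x0), (0, 0x0), (0, 0x0), (0, 0x0), (0, 0x0), (0, 0x0)]),
  (0, (1, 0x0), (0, 0x0), [(0, 0x0), (0, 0x0), (0, 0x0), (0, 0x0)]),
  (0, (0, 0x0), (0, 0x0), [(1, 0x0), (0, 0x0)]),
  (0, (1, 0x0), (0, 0x0), [(0, 0x0), (0, 0x0)]),
  (0, (1, 0x0), (0, 0x0), [(0, 0x0), (0, 0x0)]),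
  (0, (0, 0x0), (0, 0x0), [(1, 0x0), (0, 0x0), (0, 0x0), (0, 0x0), (0, 0x0), (0, 0x0)]),
  (0, (1, 0x0), (0, 0x0), [(0, 0x0), (0, 0x0), (0, 0x0), (0, 0x0)])]) (by decide +kernel)
theorem chunk1 : RangeOk look 63 0 1 dcol fx TT 1 53 :=
  RangeOk.of_chunk (S := 52) (pb := 6) (pm := 63) 53 (by decide) rfl (DD := [
  (0, (28, 0xcf2c2fb6caeaa279638607d85d44cf38c2ca103081), (8, 0x89e75b699490), [(8, 0x54d2481c6140), (3, 0x31ba4), (2, 0xa66), (1, 0x16), (1, 0x11), (1, 0x1c)]),
  (0, (37, 0x33c2db2baa9a279a59238a181f79c6da6585d55124503ce2ca1c60c2), (4, 0x349141), [(7, 0x32bd6308100), (2, 0xb9d), (1, 0x31), (1, 0x13)]),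
  (0, (20, 0xaa99a58a181f79d71a61759551348f), (16, 0xcf2c70beeb6438c288184080), [(13, 0x2cae89e344d2c91c50c1), (3, 0x1b650)]),
  (0, (31, 0x33cb1c2fbad92389e71b6994d140f38d2ca2481c6143081), (9, 0x2baa9a27960614), [(10, 0xb267dd5d648c100), (2, 0x855)]),
  (0, (33, 0x31badaeaa689e592281f79d6d96165134903cd30b2071440c0), (8, 0xb268e1717551), [(10, 0xcf2c2f38a246081), (1, 0x1a)]),
  (0, (28, 0xc6eb6cae9a279a48e279b69955138d30a248185081), (7, 0x1f5933cb1c3), [(5, 0x20510100), (4, 0xce1717), (3, 0x32c2f), (3, 0x2a958), (1, 0x12), (1, 0x1d)]),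
  (0, (48, 0xcf2c70beeb2baa9a279a58e28607de75c6da6585d65544d240e34c2ca2481c61440c2040), (0, 0x0), [(1, 0x24), (1, 0x2d), (1, 0x11), (1, 0xf)])]) (by decide +kernel)

theorem valid : Valid look 63 0 1 53 dcol fx TT where
  fin := chunk0
  rest := chunk1
  out := fun c n h => by
    have := lookF_ne_zero bits_ok c n h
    exact ⟨this.1, this.2⟩
  bdd := ⟨_, fun c n => lookF_le tabs _ _ c n⟩
  cols := by decide
  pos := by decide

theorem traced : trace look 63 0 0 [2, 1, 2, 4, 2, 1, 2, 4, 2, 1, 2, 4, 2, 1, 2, 4, 6] 0 = true := by decide +kernel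

theorem word {G : Type*} [Group G] (gl : List G) (hl : gl.length = 6)
    (hinv : ∀ a < gl.length, lv gl a * lv gl (nth inv a) = 1) (hrel : ∀ r ∈ rels, wprod gl r = 1) :
    wprod gl ([2, 1, 2, 4, 2, 1, 2, 4, 2, 1, 2, 4, 2, 1, 2, 4, 6].map (nth lab)) = 1 := by
  have h := mem_of_trace gl inv lab [] rels valid (by rw [hl]; exact tt_ok) hinv hrel (⊥ : Subgroup G)
    (by simp) [2, 1, 2, 4, 2, 1, 2, 4, 2, 1, 2, 4, 2, 1, 2, 4, 6] traced
  exact Subgroup.mem_bot.1 h

theorem rel {G : Type*} [Group G] (a c d e u : G)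
    (i0 : a * a = 1)
    (i1 : c * c = 1)
    (i2 : d * d = 1)
    (i3 : e * e = 1)
    (h0 : a * e * a * e = 1)
    (h1 : a * c * d * c * d * c * d * c * d = 1)
    (h2 : c * e * c * e = 1)
    (h3 : d * e * d * e * d * e = 1)
    (h4 : a * c * a * c = 1)
    (h5 : a * d * a * d = 1)
    (h6 : u * u * c * a = 1)
    (h7 : u⁻¹ * a * u * a = 1)
    (h8 : u⁻¹ * c * u * c = 1)
    (h9 : u⁻¹ * e * u * e = 1)
    (h10 : d * e * u⁻¹ * d * u * d * e * u⁻¹ * d * u = 1) :
    d * c * d * u * d * c * d * u * d * c * d * u * d * c * d * u = 1 := by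
  have h : wprod [a, c, d, e, u, u⁻¹] [2, 1, 2, 4, 2, 1, 2, 4, 2, 1, 2, 4, 2, 1, 2, 4, 6] = 1 := word [a, c, d, e, u, u⁻¹] rfl (by
    intro i hi
    match i, hi with
    | 0, _ => exact i0
    | 1, _ => exact i1
    | 2, _ => exact i2
    | 3, _ => exact i3
    | 4, _ => exact mul_inv_cancel u
    | 5, _ => exact inv_mul_cancel u
    | n + 6, hi => exact absurd hi (by simp)) (by
    intro r hr
    simp only [rels, List.mem_cons, List.not_mem_nil, or_false] at hr
    rcases hr with rfl | rfl | rfl | rfl | rfl | rfl | rfl | rfl | rfl | rfl | rfl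
    · simpa only [wprod, lv, List.map_cons, List.map_nil, List.prod_cons, List.prod_nil, List.getD_cons_zero, List.getD_cons_succ,
      List.getD_nil, mul_assoc, mul_one] using h0
    · simpa only [wprod, lv, List.map_cons, List.map_nil, List.prod_cons, List.prod_nil, List.getD_cons_zero, List.getD_cons_succ,
      List.getD_nil, mul_assoc, mul_one] using h1
    · simpa only [wprod, lv, List.map_cons, List.map_nil, List.prod_cons, List.prod_nil, List.getD_cons_zero, List.getD_cons_succ,
      List.getD_nil, mul_assoc, mul_one] using h2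
    · simpa only [wprod, lv, List.map_cons, List.map_nil, List.prod_cons, List.prod_nil, List.getD_cons_zero, List.getD_cons_succ,
      List.getD_nil, mul_assoc, mul_one] using h3
    · simpa only [wprod, lv, List.map_cons, List.map_nil, List.prod_cons, List.prod_nil, List.getD_cons_zero, List.getD_cons_succ,
      List.getD_nil, mul_assoc, mul_one] using h4
    · simpa only [wprod, lv, List.map_cons, List.map_nil, List.prod_cons, List.prod_nil, List.getD_cons_zero, List.getD_cons_succ,
      List.getD_nil, mul_assoc, mul_one] using h5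
    · simpa only [wprod, lv, List.map_cons, List.map_nil, List.prod_cons, List.prod_nil, List.getD_cons_zero, List.getD_cons_succ,
      List.getD_nil, mul_assoc, mul_one] using h6
    · simpa only [wprod, lv, List.map_cons, List.map_nil, List.prod_cons, List.prod_nil, List.getD_cons_zero, List.getD_cons_succ,
      List.getD_nil, mul_assoc, mul_one] using h7
    · simpa only [wprod, lv, List.map_cons, List.map_nil, List.prod_cons, List.prod_nil, List.getD_cons_zero, List.getD_cons_succ,
      List.getD_nil, mul_assoc, mul_one] using h8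
    · simpa only [wprod, lv, List.map_cons, List.map_nil, List.prod_cons, List.prod_nil, List.getD_cons_zero, List.getD_cons_succ,
      List.getD_nil, mul_assoc, mul_one] using h9
    · simpa only [wprod, lv, List.map_cons, List.map_nil, List.prod_cons, List.prod_nil, List.getD_cons_zero, List.getD_cons_succ,
      List.getD_nil, mul_assoc, mul_one] using h10
    )
  simpa only [wprod, lv, List.map_cons, List.map_nil, List.prod_cons, List.prod_nil, List.getD_cons_zero, List.getD_cons_succ,
      List.getD_nil, mul_assoc, mul_one] using h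

end L6

/-! ### L7: 56 nodes, 7 columns, 160 entries; letters `a c d e u U`; conclusion `adcdudcduadcdudcdu = 1` -/

namespace L7

def T0 : ℕ := 0x548000000008e200259cf200000000000000001d700000000197af7000002aed5e92148290d5ba380000054ca8e0000054b000000004df00000000518a2952685000a2e0000000000134ea0501
def T1 : ℕ := 0x4e6000001a3000000f20000000000000000000000000000000002312e8000000000012766f000000002ab494001466a9cd8a2a0000054fa200000054ba1800000000a8d41c00000a8540c00000
def T2 : ℕ := 0xade002ba535ae54ceb8531a6e0000000000000000000000002b2525ac548c00000000000000000000000000000000000489a80002a8511a9d43ea650da9542e6a547a1151683543a0950681513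
def T3 : ℕ := 0x15700055b7c1542b652da81519efd61aa80000000000156a9442f852f9400532a61489fa8000000000052776c0000052e84c00000000000000000000014a8000000000000052b
def T4 : ℕ := 0x29b0f70000029a0000014be4056b000001d2d29000002935638e739c00000abd53ea8000a8d550000009b755400000000002894a00000028745a00000000509938000005058b325800000
def T5 : ℕ := 0x2695d40057184600000000adc00000000a593c2b4000001595b4800a48000004508c347c00000000002018000000028b51a9b354400000a3d53400000000002a400000146ea2000000000004ed
def T6 : ℕ := 0x488000000000000000000000000000000000000000000000000000000000000000000000001000000000000000000000000000000000000000000000000000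
def tabs : List ℕ := [T0, T1, T2, T3, T4, T5, T6]
def dc : ℕ := 0x5554d3adc6eb7544c092090810855155142a2aa280
noncomputable def look (c n : ℕ) : ℕ := lookF tabs 11 2047 c n
noncomputable def dcol (n : ℕ) : ℕ := Nat.land (Nat.shiftRight dc (Nat.mul 3 n)) 7
def inv : List ℕ := [0, 1, 2, 3, 5, 4]
def lab : List ℕ := [0, 1, 2, 3, 4, 5, 6]
def rels : List (List ℕ) := [
  [0, 3, 0, 3],
  [0, 1, 2, 1, 2, 1, 2, 1, 2],
  [1, 3, 1, 3],
  [2, 3, 2, 3, 2, 3],
  [0, 1, 0, 1],
  [0, 2, 0, 2],
  [4, 4, 1, 0],
  [5, 0, 4, 0],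
  [5, 1, 4, 1],
  [5, 3, 4, 3],
  [2, 3, 5, 2, 4, 2, 3, 5, 2, 4]]
noncomputable def fx (c : ℕ) : Bool := memb [] (nth lab c)
def TM0 : List (Bool × List ℕ) := [(false, [0]), (true, [2, 0, 2]), (true, [3, 0, 3]), (true, [1, 5, 5]), (true, [5, 0, 4])]
def TM1 : List (Bool × List ℕ) := [(false, [1]), (true, [0, 1, 0]), (true, [0, 4, 4]), (true, [4, 1, 5]), (true, [5, 1, 4])]
def TM2 : List (Bool × List ℕ) := [(false, [2]), (true, [0, 2, 0])]
def TM3 : List (Bool × List ℕ) := [(false, [3]), (true, [5, 3, 4]), (true, [2, 5, 2, 4, 3, 2, 5, 2, 4]), (true, [4, 3, 5]), (true, [5, 2, 4, 2, 3, 5, 2, 4, 2])]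
def TM4 : List (Bool × List ℕ) := [(false, [5]), (true, [0, 1, 5]), (true, [0, 4, 0]), (true, [3, 4, 3]), (true, [1, 4, 1]), (true, [2, 4, 3, 2, 5, 2, 4, 3, 2])]
def TM5 : List (Bool × List ℕ) := [(false, [4]), (true, [1, 5, 1]), (true, [3, 5, 3]), (true, [4, 1, 0])]
def TM6 : List (Bool × List ℕ) := [(true, [4, 2, 3, 5, 2, 4, 2, 3, 5, 2]), (false, [5, 6, 4])]
def TT : List (List (Bool × List ℕ)) := [TM0, TM1, TM2, TM3, TM4, TM5, TM6]

theorem tt_ok : allOK 6 inv lab (withInv 6 inv rels) TT 0 = true := by decide +kernel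
theorem bits_ok : bitsLt (11 * 56) tabs = true := by decide +kernel

theorem chunk0 : RangeOk look 63 0 1 dcol fx TT 0 1 :=
  RangeOk.of_chunk (S := 1) (pb := 1) (pm := 1) 1 (by decide) rfl (DD := [
  (0, (0, 0x0), (0, 0x0), [(1, 0x0), (0, 0x0), (0, 0x0), (0, 0x0), (0, 0x0)]),
  (0, (1, 0x0), (0, 0x0), [(0, 0x0), (0, 0x0), (0, 0x0), (0, 0x0), (0, 0x0)]),
  (0, (0, 0x0), (0, 0x0), [(1, 0x0), (0, 0x0)]),
  (0, (0, 0x0), (0, 0x0), [(1, 0x0), (0, 0x0), (0, 0x0), (0, 0x0), (0, 0x0)]),
  (0, (1, 0x0), (0, 0x0), [(0, 0x0), (0, 0x0), (0, 0x0), (0, 0x0), (0, 0x0), (0, 0x0)]),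
  (0, (0, 0x0), (0, 0x0), [(0, 0x0), (0, 0x0), (1, 0x0), (0, 0x0)]),
  (0, (1, 0x0), (0, 0x0), [(0, 0x0), (0, 0x0)])]) (by decide +kernel)
theorem chunk1 : RangeOk look 63 0 1 dcol fx TT 1 56 :=
  RangeOk.of_chunk (S := 55) (pb := 6) (pm := 63) 56 (by decide) rfl (DD := [
  (0, (30, 0xd74cf1badb2baa99e696285961551245038d3071440c2), (8, 0x81f6d7593240), [(10, 0xdb279d71a2ca206), (3, 0x308c1), (2, 0xbe8), (1, 0xf), (1, 0x24)]),
  (0, (34, 0xd74cb1beeb6caeaa689e69648607de6da65645034c2481c40c0), (6, 0x6143cb182), [(10, 0xc2275755238a141), (2, 0x8d3), (1, 0x36), (1, 0x1c), (1, 0x33)]),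
  (0, (24, 0xd6db2baa9a279a581f79d71b699617595511), (15, 0x36d32c2489240e30a1c50c1), [(15, 0x33c6fba38533cd2c9184080), (1, 0x8)]),
  (0, (30, 0xdb5d33cb09648e271759551140d30b2892071840c2040), (9, 0x31bedb2aa679a1), [(10, 0xbaba206da6533c5), (3, 0x1f792), (1, 0xe), (1, 0x1d), (1, 0x18)]),
  (0, (27, 0x36d72c6fbaaa669607db61751349138d289205100), (8, 0xae379d71a655), [(11, 0x34cf0b6c9e440c1c3), (3, 0x162c1), (2, 0x3c6), (2, 0xa21), (1, 0x2), (1, 0x22)]),
  (0, (31, 0x34c70bedb2b9e68e181c6da65759540f30b2891c60c2040), (9, 0x35ceea2544d204), [(11, 0x32aa489f758513385), (2, 0xd92), (1, 0x29), (1, 0x1e)]),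
  (0, (53, 0x36d74cf2c70beeb6baa9a279a59238a181f79d71b6996175955134903ce34c2ca2481c61440c2040), (0, 0x0), [(1, 0x2c), (1, 0x11)])]) (by decide +kernel)

theorem valid : Valid look 63 0 1 56 dcol fx TT where
  fin := chunk0
  rest := chunk1
  out := fun c n h => by
    have := lookF_ne_zero bits_ok c n h
    exact ⟨this.1, this.2⟩
  bdd := ⟨_, fun c n => lookF_le tabs _ _ c n⟩
  cols := by decide
  pos := by decide

theorem traced : trace look 63 0 0 [0, 2, 1, 2, 4, 2, 1, 2, 4, 0, 2, 1, 2, 4, 2, 1, 2, 4, 6] 0 = true := by decide +kernel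

theorem word {G : Type*} [Group G] (gl : List G) (hl : gl.length = 6)
    (hinv : ∀ a < gl.length, lv gl a * lv gl (nth inv a) = 1) (hrel : ∀ r ∈ rels, wprod gl r = 1) :
    wprod gl ([0, 2, 1, 2, 4, 2, 1, 2, 4, 0, 2, 1, 2, 4, 2, 1, 2, 4, 6].map (nth lab)) = 1 := by
  have h := mem_of_trace gl inv lab [] rels valid (by rw [hl]; exact tt_ok) hinv hrel (⊥ : Subgroup G)
    (by simp) [0, 2, 1, 2, 4, 2, 1, 2, 4, 0, 2, 1, 2, 4, 2, 1, 2, 4, 6] traced
  exact Subgroup.mem_bot.1 h

theorem rel {G : Type*} [Group G] (a c d e u : G)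
    (i0 : a * a = 1)
    (i1 : c * c = 1)
    (i2 : d * d = 1)
    (i3 : e * e = 1)
    (h0 : a * e * a * e = 1)
    (h1 : a * c * d * c * d * c * d * c * d = 1)
    (h2 : c * e * c * e = 1)
    (h3 : d * e * d * e * d * e = 1)
    (h4 : a * c * a * c = 1)
    (h5 : a * d * a * d = 1)
    (h6 : u * u * c * a = 1)
    (h7 : u⁻¹ * a * u * a = 1)
    (h8 : u⁻¹ * c * u * c = 1)
    (h9 : u⁻¹ * e * u * e = 1)
    (h10 : d * e * u⁻¹ * d * u * d * e * u⁻¹ * d * u = 1) :
    a * d * c * d * u * d * c * d * u * a * d * c * d * u * d * c * d * u = 1 := by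
  have h : wprod [a, c, d, e, u, u⁻¹] [0, 2, 1, 2, 4, 2, 1, 2, 4, 0, 2, 1, 2, 4, 2, 1, 2, 4, 6] = 1 := word [a, c, d, e, u, u⁻¹] rfl (by
    intro i hi
    match i, hi with
    | 0, _ => exact i0
    | 1, _ => exact i1
    | 2, _ => exact i2
    | 3, _ => exact i3
    | 4, _ => exact mul_inv_cancel u
    | 5, _ => exact inv_mul_cancel u
    | n + 6, hi => exact absurd hi (by simp)) (by
    intro r hr
    simp only [rels, List.mem_cons, List.not_mem_nil, or_false] at hr
    rcases hr with rfl | rfl | rfl | rfl | rfl | rfl | rfl | rfl | rfl | rfl | rfl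
    · simpa only [wprod, lv, List.map_cons, List.map_nil, List.prod_cons, List.prod_nil, List.getD_cons_zero, List.getD_cons_succ,
      List.getD_nil, mul_assoc, mul_one] using h0
    · simpa only [wprod, lv, List.map_cons, List.map_nil, List.prod_cons, List.prod_nil, List.getD_cons_zero, List.getD_cons_succ,
      List.getD_nil, mul_assoc, mul_one] using h1
    · simpa only [wprod, lv, List.map_cons, List.map_nil, List.prod_cons, List.prod_nil, List.getD_cons_zero, List.getD_cons_succ,
      List.getD_nil, mul_assoc, mul_one] using h2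
    · simpa only [wprod, lv, List.map_cons, List.map_nil, List.prod_cons, List.prod_nil, List.getD_cons_zero, List.getD_cons_succ,
      List.getD_nil, mul_assoc, mul_one] using h3
    · simpa only [wprod, lv, List.map_cons, List.map_nil, List.prod_cons, List.prod_nil, List.getD_cons_zero, List.getD_cons_succ,
      List.getD_nil, mul_assoc, mul_one] using h4
    · simpa only [wprod, lv, List.map_cons, List.map_nil, List.prod_cons, List.prod_nil, List.getD_cons_zero, List.getD_cons_succ,
      List.getD_nil, mul_assoc, mul_one] using h5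
    · simpa only [wprod, lv, List.map_cons, List.map_nil, List.prod_cons, List.prod_nil, List.getD_cons_zero, List.getD_cons_succ,
      List.getD_nil, mul_assoc, mul_one] using h6
    · simpa only [wprod, lv, List.map_cons, List.map_nil, List.prod_cons, List.prod_nil, List.getD_cons_zero, List.getD_cons_succ,
      List.getD_nil, mul_assoc, mul_one] using h7
    · simpa only [wprod, lv, List.map_cons, List.map_nil, List.prod_cons, List.prod_nil, List.getD_cons_zero, List.getD_cons_succ,
      List.getD_nil, mul_assoc, mul_one] using h8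
    · simpa only [wprod, lv, List.map_cons, List.map_nil, List.prod_cons, List.prod_nil, List.getD_cons_zero, List.getD_cons_succ,
      List.getD_nil, mul_assoc, mul_one] using h9
    · simpa only [wprod, lv, List.map_cons, List.map_nil, List.prod_cons, List.prod_nil, List.getD_cons_zero, List.getD_cons_succ,
      List.getD_nil, mul_assoc, mul_one] using h10
    )
  simpa only [wprod, lv, List.map_cons, List.map_nil, List.prod_cons, List.prod_nil, List.getD_cons_zero, List.getD_cons_succ,
      List.getD_nil, mul_assoc, mul_one] using h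

end L7

/-! ### L8: 73 nodes, 7 columns, 207 entries; letters `a c d e u U`; conclusion `cdcdudcducdcdudcdu = 1` -/

namespace L8

def T0 : ℕ := 0x6476c800000000000000000074100073f00000063c0000000005340000005b70007b30000009987b00006ad7aa72b9910007a600098d98c98b98900080a00098781f98698598498392f0000007939807150000000000000009259249238a092200091e91c91b91a919000000000
def T1 : ℕ := 0x9bf9be00000083b0000000006469489470000008c49ac0006b90000000009a100000000000000000000093a8299918ab98e82598d8a78238a40009347a200000000089e00000000000000089800000000000092a98f91092892698b90c98990a000986907000000982903980901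
def T2 : ℕ := 0x3420000007c60009ba3c89b39b29b09ae0000000009439ab9a89a600000062794100000093f00093e9959939390000009386b49378248a57200009897a300000000000089c00089a00000000092d00000000099091198e90f98c90d98a90b921987908985906983904981902000
def T3 : ℕ := 0x83d9ba0008360000000000008c59ad9ac9440000000008c29a100099f99d99c00000081793c0000000000000000000000000000000009350009330000009310000000009838ae982000000000000000000000000000000000000000000000000000000918916000000
def T4 : ℕ := 0x4c15406c80000000009b56be0000009460009450000000000004b69a10000000000000000000009960000000000000000000008a800000000000000098800000098600000089b00093098200098189500092b91200000092790e00000000000090991f000000905000000000913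
def T5 : ℕ := 0x9be9bc5c50000004485c70007419ad0000000000000000004379420000000007b399800082f00000099200000000098e00000000000000093600098700089e81f00000000000089992e81400098099100000000098d000000000000988920000000984000000000915000
def T6 : ℕ := 0x2a80000000000000000000000002381ac000000000000000000000000000000000000000113000000000000000000000000000000000000000000000000000000000000000000000000080000000000000000000000000000000000000000000000000000000
def tabs : List ℕ := [T0, T1, T2, T3, T4, T5, T6]
def dc : ℕ := 0x136b5124ab6525196dd112a41a40014a200038e0b5155146a2aa288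
noncomputable def look (c n : ℕ) : ℕ := lookF tabs 12 4095 c n
noncomputable def dcol (n : ℕ) : ℕ := Nat.land (Nat.shiftRight dc (Nat.mul 3 n)) 7
def inv : List ℕ := [0, 1, 2, 3, 5, 4]
def lab : List ℕ := [0, 1, 2, 3, 4, 5, 6]
def rels : List (List ℕ) := [
  [0, 3, 0, 3],
  [0, 1, 2, 1, 2, 1, 2, 1, 2],
  [1, 3, 1, 3],
  [2, 3, 2, 3, 2, 3],
  [0, 1, 0, 1],
  [0, 2, 0, 2],
  [4, 4, 1, 0],
  [5, 0, 4, 0],
  [5, 1, 4, 1],
  [5, 3, 4, 3],
  [2, 3, 5, 2, 4, 2, 3, 5, 2, 4]]
noncomputable def fx (c : ℕ) : Bool := memb [] (nth lab c)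
def TM0 : List (Bool × List ℕ) := [(false, [0]), (true, [2, 0, 2]), (true, [1, 0, 1]), (true, [5, 0, 4]), (true, [3, 0, 3]), (true, [1, 5, 5])]
def TM1 : List (Bool × List ℕ) := [(false, [1]), (true, [0, 1, 0]), (true, [0, 4, 4]), (true, [3, 1, 3]), (true, [2, 1, 2, 1, 2, 1, 0, 2])]
def TM2 : List (Bool × List ℕ) := [(false, [2]), (true, [0, 2, 0]), (true, [1, 2, 1, 2, 1, 0, 2, 1]), (true, [3, 5, 2, 4, 2, 3, 5, 2, 4]), (true, [4, 3, 2, 5, 2, 4, 3, 2, 5])]
def TM3 : List (Bool × List ℕ) := [(false, [3]), (true, [4, 3, 5]), (true, [5, 3, 4])]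
def TM4 : List (Bool × List ℕ) := [(false, [5]), (true, [0, 1, 5]), (true, [0, 4, 0]), (true, [1, 4, 1]), (true, [5, 0, 1])]
def TM5 : List (Bool × List ℕ) := [(false, [4]), (true, [4, 1, 0]), (true, [1, 0, 4]), (true, [1, 5, 1]), (true, [2, 3, 5, 2, 4, 2, 3, 5, 2]), (true, [3, 5, 3])]
def TM6 : List (Bool × List ℕ) := [(true, [2, 6, 2]), (true, [2, 3, 5, 2, 4, 2, 3, 5, 2, 4]), (true, [4, 6, 5]), (false, [1, 6, 1])]
def TT : List (List (Bool × List ℕ)) := [TM0, TM1, TM2, TM3, TM4, TM5, TM6]

theorem tt_ok : allOK 6 inv lab (withInv 6 inv rels) TT 0 = true := by decide +kernel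
theorem bits_ok : bitsLt (12 * 73) tabs = true := by decide +kernel

theorem chunk0 : RangeOk look 127 0 1 dcol fx TT 0 1 :=
  RangeOk.of_chunk (S := 1) (pb := 1) (pm := 1) 1 (by decide) rfl (DD := [
  (0, (1, 0x0), (0, 0x0), [(0, 0x0), (0, 0x0), (0, 0x0), (0, 0x0), (0, 0x0), (0, 0x0)]),
  (0, (0, 0x0), (0, 0x0), [(1, 0x0), (0, 0x0), (0, 0x0), (0, 0x0), (0, 0x0)]),
  (0, (1, 0x0), (0, 0x0), [(0, 0x0), (0, 0x0), (0, 0x0), (0, 0x0), (0, 0x0)]),
  (0, (1, 0x0), (0, 0x0), [(0, 0x0), (0, 0x0), (0, 0x0)]),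
  (0, (0, 0x0), (0, 0x0), [(1, 0x0), (0, 0x0), (0, 0x0), (0, 0x0), (0, 0x0)]),
  (0, (1, 0x0), (0, 0x0), [(0, 0x0), (0, 0x0), (0, 0x0), (0, 0x0), (0, 0x0), (0, 0x0)]),
  (0, (1, 0x0), (0, 0x0), [(0, 0x0), (0, 0x0), (0, 0x0), (0, 0x0)])]) (by decide +kernel)
theorem chunk1 : RangeOk look 127 0 1 dcol fx TT 1 73 :=
  RangeOk.of_chunk (S := 72) (pb := 7) (pm := 127) 73 (by decide) rfl (DD := [
  (0, (32, 0x8b121c28301f3c76e5c376ad19305eb13a54078b15224078e1a1c080), (12, 0x5ca12234484e9b3464c13), [(15, 0x11db293e5c90c16284060a10182), (4, 0x7ef59ab), (3, 0x119526), (3, 0xb4e14), (2, 0x1d31), (1, 0x9)]),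
  (0, (34, 0x22c4850603c76e1b3568c98b05eb96ac4278e9c3464c172c50992221c203), (13, 0x478ce59a94e9478b1218100), [(16, 0x86f9eab54991a0203868c1420281), (3, 0x88f9b), (3, 0xfd424), (2, 0x1d15), (1, 0x37)]),
  (0, (25, 0x468b0de3b74d5a3160b94a84278e9c3664b962a4c911), (19, 0x10a03f7cf5c376cb15a0203860a0e14181), [(21, 0x4772cd92f5aa93a54888a0f1a2c4880c10100), (4, 0x467cd18), (1, 0x26), (1, 0x44), (1, 0x41)]),
  (0, (50, 0x23c68b0a03f7cf5c376ccd7ae56a94a84e992a4468909f3a70d193050992224078e1a3058a12203860a10180), (9, 0x4376e9a3262c0b95), [(10, 0x224172b56203c6c101), (2, 0x1a96), (1, 0x3c)]),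
  (0, (47, 0x1121c27ef9e3a72e1bb466c98b05eb962b54a54274c911a24280f1d3668c15243c70b14244050808080), (7, 0x105aad3e70b14), [(12, 0x8d01ebb2e4480d181c303), (2, 0x1b13), (2, 0x2399), (1, 0x25), (1, 0x45)]),
  (0, (44, 0x8f1a1417cedd3970ddb3364c572c56a54274a911a2427ce9a3260b93203c70c16284860a0c101), (12, 0x8b11e2f5498f122234404), [(8, 0x80d5a202a50380), (3, 0xb4e16), (2, 0x219b), (1, 0x3f), (1, 0x3d), (1, 0x30)]),
  (0, (67, 0x11e345890e0c07ef9ebc76e9bb66ad19b262c17ae5ab15a9509d325488d121407cf1d386cd19305cb15284c9101e3868c16284880e182840608080), (0, 0x0), [(2, 0x1caa), (1, 0x42), (1, 0x11), (1, 0x38)])]) (by decide +kernel)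

theorem valid : Valid look 127 0 1 73 dcol fx TT where
  fin := chunk0
  rest := chunk1
  out := fun c n h => by
    have := lookF_ne_zero bits_ok c n h
    exact ⟨this.1, this.2⟩
  bdd := ⟨_, fun c n => lookF_le tabs _ _ c n⟩
  cols := by decide
  pos := by decide

theorem traced : trace look 127 0 0 [1, 2, 1, 2, 4, 2, 1, 2, 4, 1, 2, 1, 2, 4, 2, 1, 2, 4, 6] 0 = true := by decide +kernel

theorem word {G : Type*} [Group G] (gl : List G) (hl : gl.length = 6)
    (hinv : ∀ a < gl.length, lv gl a * lv gl (nth inv a) = 1) (hrel : ∀ r ∈ rels, wprod gl r = 1) :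
    wprod gl ([1, 2, 1, 2, 4, 2, 1, 2, 4, 1, 2, 1, 2, 4, 2, 1, 2, 4, 6].map (nth lab)) = 1 := by
  have h := mem_of_trace gl inv lab [] rels valid (by rw [hl]; exact tt_ok) hinv hrel (⊥ : Subgroup G)
    (by simp) [1, 2, 1, 2, 4, 2, 1, 2, 4, 1, 2, 1, 2, 4, 2, 1, 2, 4, 6] traced
  exact Subgroup.mem_bot.1 h

theorem rel {G : Type*} [Group G] (a c d e u : G)
    (i0 : a * a = 1)
    (i1 : c * c = 1)
    (i2 : d * d = 1)
    (i3 : e * e = 1)
    (h0 : a * e * a * e = 1)
    (h1 : a * c * d * c * d * c * d * c * d = 1)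
    (h2 : c * e * c * e = 1)
    (h3 : d * e * d * e * d * e = 1)
    (h4 : a * c * a * c = 1)
    (h5 : a * d * a * d = 1)
    (h6 : u * u * c * a = 1)
    (h7 : u⁻¹ * a * u * a = 1)
    (h8 : u⁻¹ * c * u * c = 1)
    (h9 : u⁻¹ * e * u * e = 1)
    (h10 : d * e * u⁻¹ * d * u * d * e * u⁻¹ * d * u = 1) :
    c * d * c * d * u * d * c * d * u * c * d * c * d * u * d * c * d * u = 1 := by
  have h : wprod [a, c, d, e, u, u⁻¹] [1, 2, 1, 2, 4, 2, 1, 2, 4, 1, 2, 1, 2, 4, 2, 1, 2, 4, 6] = 1 := word [a, c, d, e, u, u⁻¹] rfl (by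
    intro i hi
    match i, hi with
    | 0, _ => exact i0
    | 1, _ => exact i1
    | 2, _ => exact i2
    | 3, _ => exact i3
    | 4, _ => exact mul_inv_cancel u
    | 5, _ => exact inv_mul_cancel u
    | n + 6, hi => exact absurd hi (by simp)) (by
    intro r hr
    simp only [rels, List.mem_cons, List.not_mem_nil, or_false] at hr
    rcases hr with rfl | rfl | rfl | rfl | rfl | rfl | rfl | rfl | rfl | rfl | rfl
    · simpa only [wprod, lv, List.map_cons, List.map_nil, List.prod_cons, List.prod_nil, List.getD_cons_zero, List.getD_cons_succ,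
      List.getD_nil, mul_assoc, mul_one] using h0
    · simpa only [wprod, lv, List.map_cons, List.map_nil, List.prod_cons, List.prod_nil, List.getD_cons_zero, List.getD_cons_succ,
      List.getD_nil, mul_assoc, mul_one] using h1
    · simpa only [wprod, lv, List.map_cons, List.map_nil, List.prod_cons, List.prod_nil, List.getD_cons_zero, List.getD_cons_succ,
      List.getD_nil, mul_assoc, mul_one] using h2
    · simpa only [wprod, lv, List.map_cons, List.map_nil, List.prod_cons, List.prod_nil, List.getD_cons_zero, List.getD_cons_succ,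
      List.getD_nil, mul_assoc, mul_one] using h3
    · simpa only [wprod, lv, List.map_cons, List.map_nil, List.prod_cons, List.prod_nil, List.getD_cons_zero, List.getD_cons_succ,
      List.getD_nil, mul_assoc, mul_one] using h4
    · simpa only [wprod, lv, List.map_cons, List.map_nil, List.prod_cons, List.prod_nil, List.getD_cons_zero, List.getD_cons_succ,
      List.getD_nil, mul_assoc, mul_one] using h5
    · simpa only [wprod, lv, List.map_cons, List.map_nil, List.prod_cons, List.prod_nil, List.getD_cons_zero, List.getD_cons_succ,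
      List.getD_nil, mul_assoc, mul_one] using h6
    · simpa only [wprod, lv, List.map_cons, List.map_nil, List.prod_cons, List.prod_nil, List.getD_cons_zero, List.getD_cons_succ,
      List.getD_nil, mul_assoc, mul_one] using h7
    · simpa only [wprod, lv, List.map_cons, List.map_nil, List.prod_cons, List.prod_nil, List.getD_cons_zero, List.getD_cons_succ,
      List.getD_nil, mul_assoc, mul_one] using h8
    · simpa only [wprod, lv, List.map_cons, List.map_nil, List.prod_cons, List.prod_nil, List.getD_cons_zero, List.getD_cons_succ,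
      List.getD_nil, mul_assoc, mul_one] using h9
    · simpa only [wprod, lv, List.map_cons, List.map_nil, List.prod_cons, List.prod_nil, List.getD_cons_zero, List.getD_cons_succ,
      List.getD_nil, mul_assoc, mul_one] using h10
    )
  simpa only [wprod, lv, List.map_cons, List.map_nil, List.prod_cons, List.prod_nil, List.getD_cons_zero, List.getD_cons_succ,
      List.getD_nil, mul_assoc, mul_one] using h

end L8

/-! ### L9: 23 nodes, 7 columns, 55 entries; letters `a c d e u U`; conclusion `dcdudcdudcddcdudcdudcda = 1` -/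

namespace L9

def T0 : ℕ := 0x34fb3ca10544c3000000000000000000ca800000078244e400
def T1 : ℕ := 0x6c29800006c72596006b71d75006a71400006970d2f006870400
def T2 : ℕ := 0xd964f6191d763f598dd562f5189d361f4985d160f4181
def T3 : ℕ := 0x0
def T4 : ℕ := 0xc8000000000000018cc40000116c20000000
def T5 : ℕ := 0x1af0000001a80000001a70000001a3000000000
def T6 : ℕ := 0x20000000000000000000000000000000000000000000000
def tabs : List ℕ := [T0, T1, T2, T3, T4, T5, T6]
def dc : ℕ := 0x40455455455455450
noncomputable def look (c n : ℕ) : ℕ := lookF tabs 9 511 c n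
noncomputable def dcol (n : ℕ) : ℕ := Nat.land (Nat.shiftRight dc (Nat.mul 3 n)) 7
def inv : List ℕ := [0, 1, 2, 3, 5, 4]
def lab : List ℕ := [0, 1, 2, 3, 4, 5, 6]
def rels : List (List ℕ) := [
  [0, 3, 0, 3],
  [0, 1, 2, 1, 2, 1, 2, 1, 2],
  [1, 3, 1, 3],
  [2, 3, 2, 3, 2, 3],
  [0, 1, 0, 1],
  [0, 2, 0, 2],
  [4, 4, 1, 0],
  [5, 0, 4, 0],
  [5, 1, 4, 1],
  [5, 3, 4, 3],
  [2, 3, 5, 2, 4, 2, 3, 5, 2, 4]]
noncomputable def fx (c : ℕ) : Bool := memb [] (nth lab c)
def TM0 : List (Bool × List ℕ) := [(false, [0]), (true, [1, 0, 1]), (true, [2, 0, 2]), (true, [4, 4, 1])]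
def TM1 : List (Bool × List ℕ) := [(false, [1]), (true, [2, 1, 2, 0, 1, 2, 1, 2]), (true, [5, 5, 0])]
def TM2 : List (Bool × List ℕ) := [(false, [2])]
def TM3 : List (Bool × List ℕ) := []
def TM4 : List (Bool × List ℕ) := [(false, [5]), (true, [1, 4, 1])]
def TM5 : List (Bool × List ℕ) := []
def TM6 : List (Bool × List ℕ) := [(true, [0, 2, 0, 2])]
def TT : List (List (Bool × List ℕ)) := [TM0, TM1, TM2, TM3, TM4, TM5, TM6]

theorem tt_ok : allOK 6 inv lab (withInv 6 inv rels) TT 0 = true := by decide +kernel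
theorem bits_ok : bitsLt (9 * 23) tabs = true := by decide +kernel

theorem chunk0 : RangeOk look 31 0 1 dcol fx TT 0 1 :=
  RangeOk.of_chunk (S := 1) (pb := 1) (pm := 1) 1 (by decide) rfl (DD := [
  (0, (1, 0x0), (0, 0x0), [(0, 0x0), (0, 0x0), (0, 0x0), (0, 0x0)]),
  (0, (1, 0x0), (0, 0x0), [(0, 0x0), (0, 0x0), (0, 0x0)]),
  (0, (0, 0x0), (0, 0x0), [(1, 0x0)]),
  (0, (1, 0x0), (0, 0x0), []),
  (0, (1, 0x0), (0, 0x0), [(0, 0x0), (0, 0x0)]),
  (0, (1, 0x0), (0, 0x0), []),
  (0, (1, 0x0), (0, 0x0), [(0, 0x0)])]) (by decide +kernel)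
theorem chunk1 : RangeOk look 31 0 1 dcol fx TT 1 23 :=
  RangeOk.of_chunk (S := 22) (pb := 5) (pm := 31) 23 (by decide) rfl (DD := [
  (0, (12, 0xab9ac5a92839483), (2, 0x293), [(5, 0x128bcc1), (1, 0x0), (1, 0x10), (1, 0x2)]),
  (0, (7, 0x4e4e51cc2), (6, 0x2b16a4a1), [(7, 0x520f62080), (1, 0x3), (1, 0xb)]),
  (0, (3, 0x5693), (10, 0x2507314831040), [(9, 0x117b56939461)]),
  (0, (22, 0x2b49ca307b9ac5a928398a418820), (0, 0x0), []),
  (0, (17, 0x15a4e5183dac5a92829020), (0, 0x0), [(4, 0x71cc2), (1, 0x3)]),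
  (0, (18, 0x2b49ca307358a4a0c520820), (4, 0x7ace3), []),
  (0, (21, 0x15a4a307b9ac5a928398a418820), (0, 0x0), [(1, 0x13)])]) (by decide +kernel)

theorem valid : Valid look 31 0 1 23 dcol fx TT where
  fin := chunk0
  rest := chunk1
  out := fun c n h => by
    have := lookF_ne_zero bits_ok c n h
    exact ⟨this.1, this.2⟩
  bdd := ⟨_, fun c n => lookF_le tabs _ _ c n⟩
  cols := by decide
  pos := by decide

theorem traced : trace look 31 0 0 [2, 1, 2, 4, 2, 1, 2, 4, 2, 1, 2, 2, 1, 2, 4, 2, 1, 2, 4, 2, 1, 2, 0, 6] 0 = true := by decide +kernel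

theorem word {G : Type*} [Group G] (gl : List G) (hl : gl.length = 6)
    (hinv : ∀ a < gl.length, lv gl a * lv gl (nth inv a) = 1) (hrel : ∀ r ∈ rels, wprod gl r = 1) :
    wprod gl ([2, 1, 2, 4, 2, 1, 2, 4, 2, 1, 2, 2, 1, 2, 4, 2, 1, 2, 4, 2, 1, 2, 0, 6].map (nth lab)) = 1 := by
  have h := mem_of_trace gl inv lab [] rels valid (by rw [hl]; exact tt_ok) hinv hrel (⊥ : Subgroup G)
    (by simp) [2, 1, 2, 4, 2, 1, 2, 4, 2, 1, 2, 2, 1, 2, 4, 2, 1, 2, 4, 2, 1, 2, 0, 6] traced
  exact Subgroup.mem_bot.1 h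

theorem rel {G : Type*} [Group G] (a c d e u : G)
    (i0 : a * a = 1)
    (i1 : c * c = 1)
    (i2 : d * d = 1)
    (i3 : e * e = 1)
    (h0 : a * e * a * e = 1)
    (h1 : a * c * d * c * d * c * d * c * d = 1)
    (h2 : c * e * c * e = 1)
    (h3 : d * e * d * e * d * e = 1)
    (h4 : a * c * a * c = 1)
    (h5 : a * d * a * d = 1)
    (h6 : u * u * c * a = 1)
    (h7 : u⁻¹ * a * u * a = 1)
    (h8 : u⁻¹ * c * u * c = 1)
    (h9 : u⁻¹ * e * u * e = 1)
    (h10 : d * e * u⁻¹ * d * u * d * e * u⁻¹ * d * u = 1) :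
    d * c * d * u * d * c * d * u * d * c * d * d * c * d * u * d * c * d * u * d * c * d * a = 1 := by
  have h : wprod [a, c, d, e, u, u⁻¹] [2, 1, 2, 4, 2, 1, 2, 4, 2, 1, 2, 2, 1, 2, 4, 2, 1, 2, 4, 2, 1, 2, 0, 6] = 1 := word [a, c, d, e, u, u⁻¹] rfl (by
    intro i hi
    match i, hi with
    | 0, _ => exact i0
    | 1, _ => exact i1
    | 2, _ => exact i2
    | 3, _ => exact i3
    | 4, _ => exact mul_inv_cancel u
    | 5, _ => exact inv_mul_cancel u
    | n + 6, hi => exact absurd hi (by simp)) (by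
    intro r hr
    simp only [rels, List.mem_cons, List.not_mem_nil, or_false] at hr
    rcases hr with rfl | rfl | rfl | rfl | rfl | rfl | rfl | rfl | rfl | rfl | rfl
    · simpa only [wprod, lv, List.map_cons, List.map_nil, List.prod_cons, List.prod_nil, List.getD_cons_zero, List.getD_cons_succ,
      List.getD_nil, mul_assoc, mul_one] using h0
    · simpa only [wprod, lv, List.map_cons, List.map_nil, List.prod_cons, List.prod_nil, List.getD_cons_zero, List.getD_cons_succ,
      List.getD_nil, mul_assoc, mul_one] using h1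
    · simpa only [wprod, lv, List.map_cons, List.map_nil, List.prod_cons, List.prod_nil, List.getD_cons_zero, List.getD_cons_succ,
      List.getD_nil, mul_assoc, mul_one] using h2
    · simpa only [wprod, lv, List.map_cons, List.map_nil, List.prod_cons, List.prod_nil, List.getD_cons_zero, List.getD_cons_succ,
      List.getD_nil, mul_assoc, mul_one] using h3
    · simpa only [wprod, lv, List.map_cons, List.map_nil, List.prod_cons, List.prod_nil, List.getD_cons_zero, List.getD_cons_succ,
      List.getD_nil, mul_assoc, mul_one] using h4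
    · simpa only [wprod, lv, List.map_cons, List.map_nil, List.prod_cons, List.prod_nil, List.getD_cons_zero, List.getD_cons_succ,
      List.getD_nil, mul_assoc, mul_one] using h5
    · simpa only [wprod, lv, List.map_cons, List.map_nil, List.prod_cons, List.prod_nil, List.getD_cons_zero, List.getD_cons_succ,
      List.getD_nil, mul_assoc, mul_one] using h6
    · simpa only [wprod, lv, List.map_cons, List.map_nil, List.prod_cons, List.prod_nil, List.getD_cons_zero, List.getD_cons_succ,
      List.getD_nil, mul_assoc, mul_one] using h7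
    · simpa only [wprod, lv, List.map_cons, List.map_nil, List.prod_cons, List.prod_nil, List.getD_cons_zero, List.getD_cons_succ,
      List.getD_nil, mul_assoc, mul_one] using h8
    · simpa only [wprod, lv, List.map_cons, List.map_nil, List.prod_cons, List.prod_nil, List.getD_cons_zero, List.getD_cons_succ,
      List.getD_nil, mul_assoc, mul_one] using h9
    · simpa only [wprod, lv, List.map_cons, List.map_nil, List.prod_cons, List.prod_nil, List.getD_cons_zero, List.getD_cons_succ,
      List.getD_nil, mul_assoc, mul_one] using h10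
    )
  simpa only [wprod, lv, List.map_cons, List.map_nil, List.prod_cons, List.prod_nil, List.getD_cons_zero, List.getD_cons_succ,
      List.getD_nil, mul_assoc, mul_one] using h

end L9

/-! ### L10: 111 nodes, 7 columns, 304 entries; letters `a b c d e q`; conclusion `bcdebcdebcdebcdebcdebcdebcdebcde = 1` -/

namespace L10

def T0 : ℕ := 0x95e0005e86dd66a4e500056700056e00000086d94f8ec7690000000007da00000000000000073f6d50000008df7dc00000000000093100000084700092c0000000000007d300000000000000084d91e0000000000000000008c900091191090f8c490e90d00000000000083e9030000000000000008b80000000000000000000000000000000000008af8ae8ad8ab8aa0000000000000000000000000008a4000000000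
def T1 : ℕ := 0x95d5670000004ea0000000000000007d20000007d08eb0007cc00000000094400000093f00086193d85e93b00000085b9340000007b192f92e92d8d792b0009269258d40008d10008cf00000000091b91a0008cb0009138489128c78c68c590f8c30000009079068c100000090300082200000000091c89d8b70009188990000009148958b28b09108918ac00090c88d0000009088898a80009048858a3000900881
def T2 : ℕ := 0x95c95b95a0005d995800066600000000000094e8e90008e76658e400000093f0000007d374f7bc7d18dd0000007b60006440000000000006c90000000006c18d592492285092100000000073984b0009186b273300000000000000073100082b0000000000009038be7268bd8bb00000091d89e00000091989a8b400091589600000091189200000090d88e00000090988a0000009058860008a5901882000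
def T3 : ℕ := 0x95f3e53e795d0006e946b00036c00095800095194f8ed0008ea94d94b0000000000000000007c093e93d8e10008e09398dc9348db9330000000000007430007c50007428549258d30000000009208ce0000008379180008ca7b000083200000000000082d0009090008280008bf0000009019008ba91e89f00000091a89b0008b591689700000091289300000090e88f00000090a88b8a90009068870000009028838a2000
def T4 : ℕ := 0x9604637df00000000000000095a9580004ed5e76568ee86c94f0000000008e66e48e56c75e100000000000000093b8de0009380000000000009307577457c60000009297a70000000000009218d084e91e8cd79d00084a0009167959128c87c400082e7910000008c278984190600000078500000091f8a08b983791b89c0000009178988b38329138948b182c90f89000000090b88c0008289078888a6823903884000000000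
def T5 : ℕ := 0x9570000000000000000000009479469458e29430000000000000000000000000000000000000000008da0008d80008d6000000000000000000000000000000000000000000000000000000000000000000000000000000000000000000000000000000000000000000000000000000000000000000000000000000000000000000000000000000000000000000000000000000000
def T6 : ℕ := 0x2de0000000000000000000000000000000000000002500000000000000000000000000000000000000000001bc000000000000000000000000000000000000000000000000000000000121000000000000000000000000000000000000000000000000000000000000000000000000000080000000000000000000000000000000000000000000000000000000000000000000000000000000000000000000000000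
def tabs : List ℕ := [T0, T1, T2, T3, T4, T5, T6]
def dc : ℕ := 0x1182d252275b11376d3516cc2e32c42483096944e025a8610010193102dc68c68c68c68c68c68c68c688
noncomputable def look (c n : ℕ) : ℕ := lookF tabs 12 4095 c n
noncomputable def dcol (n : ℕ) : ℕ := Nat.land (Nat.shiftRight dc (Nat.mul 3 n)) 7
def inv : List ℕ := [0, 1, 2, 3, 4, 5]
def lab : List ℕ := [0, 1, 2, 3, 4, 5, 6]
def rels : List (List ℕ) := [
  [0, 1, 0, 1, 0, 1],
  [0, 4, 0, 4],
  [1, 2, 1, 2, 1, 2],
  [1, 3, 1, 3],
  [1, 4, 1, 4],
  [0, 2, 3, 2, 3, 2, 3, 2, 3],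
  [2, 4, 2, 4],
  [3, 4, 3, 4, 3, 4],
  [0, 2, 0, 2],
  [0, 3, 0, 3],
  [0, 5, 0, 5],
  [2, 5, 2, 5],
  [3, 5, 3, 5, 4, 3, 2, 3, 4, 0],
  [4, 5, 4, 5, 2],
  [5, 3, 2, 3, 5, 3, 2, 3, 0],
  [1, 0, 2, 1, 3, 2, 3, 4, 3, 2, 3, 4, 1, 0, 2, 1, 5, 4]]
noncomputable def fx (c : ℕ) : Bool := memb [] (nth lab c)
def TM0 : List (Bool × List ℕ) := [(false, [0]), (true, [2, 0, 2]), (true, [3, 0, 3]), (true, [1, 0, 1, 0, 1]), (true, [3, 5, 3, 5, 4, 3, 2, 3, 4]), (true, [4, 0, 4]), (true, [5, 0, 5])]
def TM1 : List (Bool × List ℕ) := [(false, [1]), (true, [3, 1, 3]), (true, [4, 1, 4]), (true, [0, 2, 1, 3, 2, 3, 4, 3, 2, 3, 4, 1, 0, 2, 1, 5, 4])]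
def TM2 : List (Bool × List ℕ) := [(false, [2]), (true, [4, 2, 4]), (true, [1, 2, 1, 2, 1]), (true, [0, 2, 0]), (true, [3, 2, 3, 2, 3, 2, 0, 3]), (true, [5, 4, 5, 4])]
def TM3 : List (Bool × List ℕ) := [(false, [3]), (true, [1, 3, 1]), (true, [4, 3, 4, 3, 4]), (true, [0, 3, 0]), (true, [2, 3, 2, 3, 2, 3, 0, 2])]
def TM4 : List (Bool × List ℕ) := [(false, [4]), (true, [1, 4, 1]), (true, [0, 4, 0]), (true, [3, 4, 3, 4, 3]), (true, [1, 0, 2, 1, 3, 2, 3, 4, 3, 2, 3, 4, 1, 0, 2, 1, 5]), (true, [2, 4, 2]), (true, [5, 4, 5, 2])]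
def TM5 : List (Bool × List ℕ) := [(false, [5])]
def TM6 : List (Bool × List ℕ) := [(true, [1, 6, 1]), (true, [2, 6, 2]), (true, [3, 0, 3, 0]), (true, [3, 6, 3]), (true, [4, 6, 4])]
def TT : List (List (Bool × List ℕ)) := [TM0, TM1, TM2, TM3, TM4, TM5, TM6]

theorem tt_ok : allOK 6 inv lab (withInv 6 inv rels) TT 0 = true := by decide +kernel
theorem bits_ok : bitsLt (12 * 111) tabs = true := by decide +kernel

theorem chunk0 : RangeOk look 127 0 1 dcol fx TT 0 1 :=
  RangeOk.of_chunk (S := 1) (pb := 1) (pm := 1) 1 (by decide) rfl (DD := [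
  (0, (1, 0x0), (0, 0x0), [(0, 0x0), (0, 0x0), (0, 0x0), (0, 0x0), (0, 0x0), (0, 0x0), (0, 0x0)]),
  (0, (0, 0x0), (0, 0x0), [(1, 0x0), (0, 0x0), (0, 0x0), (0, 0x0)]),
  (0, (1, 0x0), (0, 0x0), [(0, 0x0), (0, 0x0), (0, 0x0), (0, 0x0), (0, 0x0), (0, 0x0)]),
  (0, (1, 0x0), (0, 0x0), [(0, 0x0), (0, 0x0), (0, 0x0), (0, 0x0), (0, 0x0)]),
  (0, (1, 0x0), (0, 0x0), [(0, 0x0), (0, 0x0), (0, 0x0), (0, 0x0), (0, 0x0), (0, 0x0), (0, 0x0)]),
  (0, (1, 0x0), (0, 0x0), [(0, 0x0)]),
  (0, (1, 0x0), (0, 0x0), [(0, 0x0), (0, 0x0), (0, 0x0), (0, 0x0), (0, 0x0)])]) (by decide +kernel)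
theorem chunk1 : RangeOk look 127 0 1 dcol fx TT 1 111 :=
  RangeOk.of_chunk (S := 110) (pb := 7) (pm := 127) 111 (by decide) rfl (DD := [
  (0, (72, 0xdbb3565c78705bb566bd6ab529d09f325ca931e344850603f7af1dba72d9ab466c98af509d325448501f3c70d9a3260b962a50992222c509101c305080c080), (11, 0x1aef4886dd72d58a94a3), [(15, 0x1a7466bb4a730567480f1c34602), (4, 0xc9728a4), (4, 0xcf7e6be), (1, 0x45), (1, 0x62), (1, 0x38), (1, 0x58)]),
  (0, (47, 0x1b766bd19f2e4c78b0dfbd6ecd8af56a529b324c882f5db970dda3252a1223427cf1d3258a8d1424281), (28, 0xd55a9d09d2a345890a03f6cd58af569d3223860a101820200), [(29, 0x66c176e5a8f0df3c74cd72d58a929b345c992223c70b0e18182), (3, 0x1465a0), (2, 0x27b0), (1, 0x69)]),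
  (0, (54, 0x36ecd7ab4e5c582fdebb6ab55a74a64b931e345890a0c072e1bb460bd72d58a94274c94f9e3668b13243c70b141c303), (19, 0x1a33e6c772a3d78e99a43a64a911a24281), [(24, 0xc96ecd7a13e6ca90f99234280e182e5080c1010100), (6, 0x2c3b6cc55a2), (3, 0x139fb5), (2, 0x21a9), (1, 0x51), (1, 0x61)]),
  (0, (47, 0x1b7465c786ed9b15eb55a93e4478d161c178edd376ccd82e5ab15a94e951a2386cc14264078c161c203), (26, 0x3669c582fdbb54a8cd9725f3968a10a03c68b121c28302), [(27, 0x1ab25eb94e84e992a23d70c98a43e74c972a446891014080), (6, 0x33427ed57a6), (2, 0x35c0), (1, 0x2a), (1, 0x67)]),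
  (0, (41, 0x6ad3a33e6c772ddaa94e951a1365ca93221c27ef9ebc6acd6aa52911a14064c0d1824080), (21, 0x6dcb92ecf991e0bb70c98253e6cb931e2c383), [(31, 0x1b35dfb35eb559d1603a6ed98af56a13a23c74d162a4888e1418282), (8, 0x8d1131c2840404), (4, 0xc57972c), (2, 0x1cb4), (1, 0x60), (1, 0x61), (1, 0x58)]),
  (0, (101, 0x6dd9af569d19f365c98f160bf7aedcb76aa53a54684f9d3664b95264478b0e0c07ef9ebc76e9cb86ed9ab466c98b05eb96ac56a94a84e992a446890a03e78e9c3668c982e58a9426488901e3868c16284880e182840608080), (5, 0x61b362bd5), [(4, 0xad1a242)]),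
  (0, (105, 0x6dd9af4e8cf9b2e4c78b0e0bf7aedbb566c57ad56a53a54684f9d325ca93223c68b121c28301fbe7af1dba70ddb3568cd93160bd72d58ad529509d325488d1214078e9c3668c982e58a9426488901e3868c16284880e182840608080), (0, 0x0), [(1, 0x5c), (1, 0x4d), (1, 0x6a), (1, 0x1f), (1, 0x39)])]) (by decide +kernel)

theorem valid : Valid look 127 0 1 111 dcol fx TT where
  fin := chunk0
  rest := chunk1
  out := fun c n h => by
    have := lookF_ne_zero bits_ok c n h
    exact ⟨this.1, this.2⟩
  bdd := ⟨_, fun c n => lookF_le tabs _ _ c n⟩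
  cols := by decide
  pos := by decide

theorem traced : trace look 127 0 0 [1, 2, 3, 4, 1, 2, 3, 4, 1, 2, 3, 4, 1, 2, 3, 4, 1, 2, 3, 4, 1, 2, 3, 4, 1, 2, 3, 4, 1, 2, 3, 4, 6] 0 = true := by decide +kernel

theorem word {G : Type*} [Group G] (gl : List G) (hl : gl.length = 6)
    (hinv : ∀ a < gl.length, lv gl a * lv gl (nth inv a) = 1) (hrel : ∀ r ∈ rels, wprod gl r = 1) :
    wprod gl ([1, 2, 3, 4, 1, 2, 3, 4, 1, 2, 3, 4, 1, 2, 3, 4, 1, 2, 3, 4, 1, 2, 3, 4, 1, 2, 3, 4, 1, 2, 3, 4, 6].map (nth lab)) = 1 := by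
  have h := mem_of_trace gl inv lab [] rels valid (by rw [hl]; exact tt_ok) hinv hrel (⊥ : Subgroup G)
    (by simp) [1, 2, 3, 4, 1, 2, 3, 4, 1, 2, 3, 4, 1, 2, 3, 4, 1, 2, 3, 4, 1, 2, 3, 4, 1, 2, 3, 4, 1, 2, 3, 4, 6] traced
  exact Subgroup.mem_bot.1 h

theorem rel {G : Type*} [Group G] (a b c d e q : G)
    (i0 : a * a = 1)
    (i1 : b * b = 1)
    (i2 : c * c = 1)
    (i3 : d * d = 1)
    (i4 : e * e = 1)
    (i5 : q * q = 1)
    (h0 : a * b * a * b * a * b = 1)
    (h1 : a * e * a * e = 1)
    (h2 : b * c * b * c * b * c = 1)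
    (h3 : b * d * b * d = 1)
    (h4 : b * e * b * e = 1)
    (h5 : a * c * d * c * d * c * d * c * d = 1)
    (h6 : c * e * c * e = 1)
    (h7 : d * e * d * e * d * e = 1)
    (h8 : a * c * a * c = 1)
    (h9 : a * d * a * d = 1)
    (h10 : a * q * a * q = 1)
    (h11 : c * q * c * q = 1)
    (h12 : d * q * d * q * e * d * c * d * e * a = 1)
    (h13 : e * q * e * q * c = 1)
    (h14 : q * d * c * d * q * d * c * d * a = 1)
    (h15 : b * a * c * b * d * c * d * e * d * c * d * e * b * a * c * b * q * e = 1) :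
    b * c * d * e * b * c * d * e * b * c * d * e * b * c * d * e * b * c * d * e * b * c * d * e * b * c * d * e * b * c * d * e = 1 := by
  have h : wprod [a, b, c, d, e, q] [1, 2, 3, 4, 1, 2, 3, 4, 1, 2, 3, 4, 1, 2, 3, 4, 1, 2, 3, 4, 1, 2, 3, 4, 1, 2, 3, 4, 1, 2, 3, 4, 6] = 1 := word [a, b, c, d, e, q] rfl (by
    intro i hi
    match i, hi with
    | 0, _ => exact i0
    | 1, _ => exact i1
    | 2, _ => exact i2
    | 3, _ => exact i3
    | 4, _ => exact i4
    | 5, _ => exact i5
    | n + 6, hi => exact absurd hi (by simp)) (by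
    intro r hr
    simp only [rels, List.mem_cons, List.not_mem_nil, or_false] at hr
    rcases hr with rfl | rfl | rfl | rfl | rfl | rfl | rfl | rfl | rfl | rfl | rfl | rfl | rfl | rfl | rfl | rfl
    · simpa only [wprod, lv, List.map_cons, List.map_nil, List.prod_cons, List.prod_nil, List.getD_cons_zero, List.getD_cons_succ,
      List.getD_nil, mul_assoc, mul_one] using h0
    · simpa only [wprod, lv, List.map_cons, List.map_nil, List.prod_cons, List.prod_nil, List.getD_cons_zero, List.getD_cons_succ,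
      List.getD_nil, mul_assoc, mul_one] using h1
    · simpa only [wprod, lv, List.map_cons, List.map_nil, List.prod_cons, List.prod_nil, List.getD_cons_zero, List.getD_cons_succ,
      List.getD_nil, mul_assoc, mul_one] using h2
    · simpa only [wprod, lv, List.map_cons, List.map_nil, List.prod_cons, List.prod_nil, List.getD_cons_zero, List.getD_cons_succ,
      List.getD_nil, mul_assoc, mul_one] using h3
    · simpa only [wprod, lv, List.map_cons, List.map_nil, List.prod_cons, List.prod_nil, List.getD_cons_zero, List.getD_cons_succ,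
      List.getD_nil, mul_assoc, mul_one] using h4
    · simpa only [wprod, lv, List.map_cons, List.map_nil, List.prod_cons, List.prod_nil, List.getD_cons_zero, List.getD_cons_succ,
      List.getD_nil, mul_assoc, mul_one] using h5
    · simpa only [wprod, lv, List.map_cons, List.map_nil, List.prod_cons, List.prod_nil, List.getD_cons_zero, List.getD_cons_succ,
      List.getD_nil, mul_assoc, mul_one] using h6
    · simpa only [wprod, lv, List.map_cons, List.map_nil, List.prod_cons, List.prod_nil, List.getD_cons_zero, List.getD_cons_succ,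
      List.getD_nil, mul_assoc, mul_one] using h7
    · simpa only [wprod, lv, List.map_cons, List.map_nil, List.prod_cons, List.prod_nil, List.getD_cons_zero, List.getD_cons_succ,
      List.getD_nil, mul_assoc, mul_one] using h8
    · simpa only [wprod, lv, List.map_cons, List.map_nil, List.prod_cons, List.prod_nil, List.getD_cons_zero, List.getD_cons_succ,
      List.getD_nil, mul_assoc, mul_one] using h9
    · simpa only [wprod, lv, List.map_cons, List.map_nil, List.prod_cons, List.prod_nil, List.getD_cons_zero, List.getD_cons_succ,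
      List.getD_nil, mul_assoc, mul_one] using h10
    · simpa only [wprod, lv, List.map_cons, List.map_nil, List.prod_cons, List.prod_nil, List.getD_cons_zero, List.getD_cons_succ,
      List.getD_nil, mul_assoc, mul_one] using h11
    · simpa only [wprod, lv, List.map_cons, List.map_nil, List.prod_cons, List.prod_nil, List.getD_cons_zero, List.getD_cons_succ,
      List.getD_nil, mul_assoc, mul_one] using h12
    · simpa only [wprod, lv, List.map_cons, List.map_nil, List.prod_cons, List.prod_nil, List.getD_cons_zero, List.getD_cons_succ,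
      List.getD_nil, mul_assoc, mul_one] using h13
    · simpa only [wprod, lv, List.map_cons, List.map_nil, List.prod_cons, List.prod_nil, List.getD_cons_zero, List.getD_cons_succ,
      List.getD_nil, mul_assoc, mul_one] using h14
    · simpa only [wprod, lv, List.map_cons, List.map_nil, List.prod_cons, List.prod_nil, List.getD_cons_zero, List.getD_cons_succ,
      List.getD_nil, mul_assoc, mul_one] using h15
    )
  simpa only [wprod, lv, List.map_cons, List.map_nil, List.prod_cons, List.prod_nil, List.getD_cons_zero, List.getD_cons_succ,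
      List.getD_nil, mul_assoc, mul_one] using h

end L10

end Cfsg.Agent.ThType.RelCerts
end

-- part: ThType/RelOf
section
/-!
# [REL]: all relators of the Thompson group from the relators without `b` and a few relations of `b`

`(b c d e)^8 = 1` is redundant: it follows from the other relators of (1) and (4).
-/

set_option autoImplicit false

namespace Cfsg.Agent.ThType.RelOf

open Cfsg.Agent.ThType.RelCerts

section words

variable {G : Type*} [Group G]

theorem inv_of {x : G} (h : x * x = 1) : x⁻¹ = x := inv_eq_of_mul_eq_one_right h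

/-- `(b c d e)^8 = 1` from the other relators of (1) and (4) -/
theorem bcde8 {a b c d e u : G} (ha : a * a = 1) (hb : b * b = 1) (hc : c * c = 1) (hd : d * d = 1) (he : e * e = 1)
    (hab : a * b * a * b * a * b = 1) (hbc : b * c * b * c * b * c = 1) (hbd : b * d * b * d = 1)
    (hbe : b * e * b * e = 1) (hae : a * e * a * e = 1) (hacd : a * c * d * c * d * c * d * c * d = 1)
    (hce : c * e * c * e = 1) (hde : d * e * d * e * d * e = 1) (hac : a * c * a * c = 1) (had : a * d * a * d = 1)
    (hu2 : u * u * c * a = 1) (hua : u⁻¹ * a * u * a = 1) (huc : u⁻¹ * c * u * c = 1) (hue : u⁻¹ * e * u * e = 1)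
    (hdedu : d * e * u⁻¹ * d * u * d * e * u⁻¹ * d * u = 1)
    (w : G) (hw : w = b * (a * c) * b)
    (hr1 : w * u * w = u * e)
    (hr2 : w * (d * u * d) * w = (d * u * d) * (u * e * w * (d * u * d) * e * c)) :
    (b * c * d * e) ^ 8 = 1 := by
  have ia := inv_of ha
  have ib := inv_of hb
  have ic := inv_of hc
  have id := inv_of hd
  have ie := inv_of he
  have cab : a * c = c * a := by
    have : a * c * (c * a)⁻¹ = 1 := by
      simpa only [mul_inv_rev, ia, ic, mul_assoc] using hac
    exact mul_inv_eq_one.1 this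
  have caeb : a * e = e * a := by
    have : a * e * (e * a)⁻¹ = 1 := by
      simpa only [mul_inv_rev, ia, ie, mul_assoc] using hae
    exact mul_inv_eq_one.1 this
  have cceb : c * e = e * c := by
    have : c * e * (e * c)⁻¹ = 1 := by
      simpa only [mul_inv_rev, ic, ie, mul_assoc] using hce
    exact mul_inv_eq_one.1 this
  have cbeb : b * e = e * b := by
    have : b * e * (e * b)⁻¹ = 1 := by
      simpa only [mul_inv_rev, ib, ie, mul_assoc] using hbe
    exact mul_inv_eq_one.1 this
  have hww : w * w = 1 := by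
    rw [hw]
    calc b * (a * c) * b * (b * (a * c) * b) = b * (a * c) * (b * b) * (a * c) * b := by
          simp only [mul_assoc]
      _ = b * (a * c * a * c) * b := by rw [hb]; simp only [mul_assoc, mul_one]
      _ = 1 := by rw [hac, mul_one, hb]
  have iw := inv_of hww
  have hwe : e * w * e * w = 1 := by
    have h1 : e * w = w * e := by
      rw [hw]
      calc e * (b * (a * c) * b) = (e * b) * (a * c) * b := by simp only [mul_assoc]
        _ = b * (e * a) * c * b := by rw [← cbeb]; simp only [mul_assoc]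
        _ = b * a * (e * c) * b := by rw [← caeb]; simp only [mul_assoc]
        _ = b * a * c * (e * b) := by rw [← cceb]; simp only [mul_assoc]
        _ = b * (a * c) * b * e := by rw [← cbeb]; simp only [mul_assoc]
    rw [h1]
    calc w * e * e * w = w * (e * e) * w := by simp only [mul_assoc]
      _ = 1 := by rw [he, mul_one, hww]
  have hwaw : w * a * w * c = 1 := by
    have h := L0.rel a b c ha hb hc hab hbc hac
    rw [hw]
    simpa only [mul_assoc] using h
  have h1 := L1.rel a b c d ha hb hc hd hab hbc hbd hacd hac had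
  have hw3 : w * d * c * d * w * d * c * d * w * d * c * d = 1 := by
    have h2 : d * c * d * w * (d * c * d * w) * (d * c * d * w) = 1 := by
      rw [hw]; simpa only [mul_assoc] using h1
    calc w * d * c * d * w * d * c * d * w * d * c * d
        = w * (d * c * d * w * (d * c * d * w) * (d * c * d * w)) * w⁻¹ := by group
      _ = 1 := by rw [h2, mul_one, mul_inv_cancel]
  have hr1' : w * u * w * e * u⁻¹ = 1 := by
    rw [hr1]
    calc u * e * e * u⁻¹ = u * (e * e) * u⁻¹ := by simp only [mul_assoc]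
      _ = 1 := by rw [he, mul_one, mul_inv_cancel]
  have hr2' : w * d * u * d * w * c * e * d * u⁻¹ * d * w * e * u⁻¹ * d * u⁻¹ * d = 1 := by
    have h2 : w * (d * u * d) * w * ((d * u * d) * (u * e * w * (d * u * d) * e * c))⁻¹ = 1 :=
      mul_inv_eq_one.2 hr2
    simpa only [mul_inv_rev, ic, id, ie, iw, mul_assoc] using h2
  have hdu6 := L2.rel a c d e u w ha hc hd he hww hae hacd hce hde hac had hu2 hua huc hue hdedu hwaw hwe hr1' hr2' hw3
  have hR3 := L3.rel a c d e u w ha hc hd he hww hae hacd hce hde hac had hu2 hua huc hue hdedu hwaw hwe hr1' hr2' hw3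
    hdu6
  have h4 := L4.rel a c d e u ha hc hd he hae hacd hce hde hac had hu2 hua huc hue hdedu hdu6
  have h5 := L5.rel a c d e u ha hc hd he hae hacd hce hde hac had hu2 hua huc hue hdedu hdu6
  have h6 := L6.rel a c d e u ha hc hd he hae hacd hce hde hac had hu2 hua huc hue hdedu
  have h7 := L7.rel a c d e u ha hc hd he hae hacd hce hde hac had hu2 hua huc hue hdedu
  have h8 := L8.rel a c d e u ha hc hd he hae hacd hce hde hac had hu2 hua huc hue hdedu
  have h9 := L9.rel a c d e u ha hc hd he hae hacd hce hde hac had hu2 hua huc hue hdedu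
  obtain ⟨q, hq⟩ : ∃ q, q = d * c * d * u * d * c * d * u := ⟨_, rfl⟩
  have hqq : q * q = 1 := by rw [hq]; simpa only [mul_assoc] using h6
  have iq := inv_of hqq
  have iq' : u⁻¹ * (d * (c * (d * (u⁻¹ * (d * (c * d)))))) = q := by
    have : q⁻¹ = u⁻¹ * (d * (c * (d * (u⁻¹ * (d * (c * d)))))) := by
      rw [hq]; simp only [mul_inv_rev, ic, id, mul_assoc]
    rw [← this, iq]
  have g1 : a * q * a * q = 1 := by rw [hq]; simpa only [mul_assoc] using h7
  have g2 : c * q * c * q = 1 := by rw [hq]; simpa only [mul_assoc] using h8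
  have g3 : d * q * d * q * e * d * c * d * e * a = 1 := by
    have h := h4
    have e1 : d * d * c * d * u * d * c * d * u * d * u⁻¹ * d * c * d * u⁻¹ * d * c * d * e * d * c * d * e * a =
      d * (d * c * d * u * d * c * d * u) * d * (u⁻¹ * (d * (c * (d * (u⁻¹ * (d * (c * d))))))) *
        (e * d * c * d * e * a) := by simp only [mul_assoc]
    rw [e1, iq', ← hq] at h
    simpa only [mul_assoc] using h
  have g4 : e * q * e * q * c = 1 := by
    have h := h5
    have e1 : e * d * c * d * u * d * c * d * u * e * u⁻¹ * d * c * d * u⁻¹ * d * c * d * c =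
      e * (d * c * d * u * d * c * d * u) * e * (u⁻¹ * (d * (c * (d * (u⁻¹ * (d * (c * d))))))) * c := by
        simp only [mul_assoc]
    rw [e1, iq', ← hq] at h
    exact h
  have g5 : q * d * c * d * q * d * c * d * a = 1 := by
    have h := h9
    have e1 : d * c * d * u * d * c * d * u * d * c * d * d * c * d * u * d * c * d * u * d * c * d * a =
      (d * c * d * u * d * c * d * u) * d * c * d * (d * c * d * u * d * c * d * u) * d * c * d * a := by
        simp only [mul_assoc]
    rw [e1, ← hq] at h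
    exact h
  have g6 : b * a * c * b * d * c * d * e * d * c * d * e * b * a * c * b * q * e = 1 := by
    have h := hR3
    have e1 : w * d * c * d * e * d * c * d * e * w * u⁻¹ * d * c * d * u⁻¹ * d * c * d * e =
      w * d * c * d * e * d * c * d * e * w * (u⁻¹ * (d * (c * (d * (u⁻¹ * (d * (c * d))))))) * e := by
        simp only [mul_assoc]
    rw [e1, iq', hw] at h
    simpa only [mul_assoc] using h
  have h10 := L10.rel a b c d e q ha hb hc hd he hqq hab hae hbc hbd hbe hacd hce hde hac had g1 g2 g3 g4 g5 g6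
  simpa only [pow_succ, pow_zero, one_mul, mul_assoc] using h10

end words

section main

open Cfsg.Agent.Th.Base

variable {G : Type*} [Group G]

theorem comm_of {x y : G} (h : x⁻¹ * y⁻¹ * x * y = 1) : x * y = y * x := by
  have : (y * x)⁻¹ * (x * y) = 1 := by rw [mul_inv_rev]; simpa only [mul_assoc] using h
  exact (inv_mul_eq_one.1 this).symm

theorem of_comm {x y : G} (h : x * y = y * x) : x⁻¹ * y⁻¹ * x * y = 1 := by
  have : (y * x)⁻¹ * (x * y) = 1 := inv_mul_eq_one.2 h.symm
  rw [mul_inv_rev] at this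
  simpa only [mul_assoc] using this

/-- all relators of the Thompson group from `RelC` and the relations of `b` (without `(b c d e)^8`) -/
theorem rel_of {a b c d e s t u : G} (H : RelC a c d e s t u) (hb : b * b = 1) (hab : (a * b) ^ 3 = 1)
    (hbc : (b * c) ^ 3 = 1) (hbd : b * d = d * b) (hbe : b * e = e * b) (hbs : b * s = s * b) (hbt : b * t = t * b)
    (w : G) (hw : w = b * (a * c) * b)
    (hr1 : w * u * w = u * e)
    (hr2 : w * (d * u * d) * w = (d * u * d) * (u * e * w * (d * u * d) * e * c)) :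
    Rel a b c d e s t u := by
  have ha : a * a = 1 := by rw [← pow_two]; exact H.a2
  have hc : c * c = 1 := by rw [← pow_two]; exact H.c2
  have hd : d * d = 1 := by rw [← pow_two]; exact H.d2
  have he : e * e = 1 := by rw [← pow_two]; exact H.e2
  have ia := inv_of ha
  have ib := inv_of hb
  have ic := inv_of hc
  have id := inv_of hd
  have ie := inv_of he
  have hacd : a * c * d * c * d * c * d * c * d = 1 := by
    have h1 : a = (c * d) ^ 4 := mul_inv_eq_one.1 H.acd
    have h2 : a * (c * d) ^ 4 = 1 := by rw [← h1]; exact ha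
    simpa only [pow_succ, pow_zero, one_mul, mul_assoc] using h2
  have h4 : a = c * d * c * d * c * d * c * d := by
    have h1 : a = (c * d) ^ 4 := mul_inv_eq_one.1 H.acd
    rw [h1]; simp only [pow_succ, pow_zero, one_mul, mul_assoc]
  have hac : a * c * a * c = 1 := by
    have h1 : c * a * c = a := by
      have h2 : c * a * c = a⁻¹ := by
        rw [h4]
        simp only [mul_inv_rev, ic, id, mul_assoc]
        rw [← mul_assoc c c, hc, one_mul]
      rw [h2, ia]
    calc a * c * a * c = a * (c * a * c) := by simp only [mul_assoc]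
      _ = 1 := by rw [h1, ha]
  have had : a * d * a * d = 1 := by
    have h1 : d * a * d = a := by
      have h2 : d * a * d = a⁻¹ := by
        rw [h4]
        simp only [mul_inv_rev, ic, id, mul_assoc]
        rw [hd, mul_one]
      rw [h2, ia]
    calc a * d * a * d = a * (d * a * d) := by simp only [mul_assoc]
      _ = 1 := by rw [h1, ha]
  have hbd2 : (b * d) ^ 2 = 1 := by
    rw [pow_two]
    calc b * d * (b * d) = b * d * (d * b) := by rw [hbd]
      _ = b * (d * d) * b := by simp only [mul_assoc]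
      _ = 1 := by rw [hd, mul_one, hb]
  have hbe2 : (b * e) ^ 2 = 1 := by
    rw [pow_two]
    calc b * e * (b * e) = b * e * (e * b) := by rw [hbe]
      _ = b * (e * e) * b := by simp only [mul_assoc]
      _ = 1 := by rw [he, mul_one, hb]
  have h8 : (b * c * d * e) ^ 8 = 1 := by
    refine bcde8 ha hb hc hd he ?_ ?_ ?_ ?_ ?_ hacd ?_ ?_ hac had ?_ ?_ ?_ ?_ ?_ w hw hr1 hr2
    · simpa only [pow_succ, pow_zero, one_mul, mul_assoc] using hab
    · simpa only [pow_succ, pow_zero, one_mul, mul_assoc] using hbc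
    · simpa only [pow_succ, pow_zero, one_mul, mul_assoc] using hbd2
    · simpa only [pow_succ, pow_zero, one_mul, mul_assoc] using hbe2
    · simpa only [pow_succ, pow_zero, one_mul, mul_assoc] using H.ae2
    · simpa only [pow_succ, pow_zero, one_mul, mul_assoc] using H.ce2
    · simpa only [pow_succ, pow_zero, one_mul, mul_assoc] using H.de3
    · simpa only [pow_succ, pow_zero, one_mul, mul_inv_rev, ia, ic, mul_assoc] using H.u2
    · simpa only [ia] using H.ua
    · simpa only [ic] using H.uc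
    · simpa only [ie] using H.ue
    · simpa only [pow_succ, pow_zero, one_mul, mul_assoc] using H.dedu
  have hww : w * w = 1 := by
    rw [hw]
    calc b * (a * c) * b * (b * (a * c) * b) = b * (a * c) * (b * b) * (a * c) * b := by
          simp only [mul_assoc]
      _ = b * (a * c * a * c) * b := by rw [hb]; simp only [mul_assoc, mul_one]
      _ = 1 := by rw [hac, mul_one, hb]
  have iw := inv_of hww
  have hw' : b⁻¹ * (a * c) * b = w := by rw [ib, hw]
  refine ⟨⟨H.a2, by rw [pow_two, hb], H.c2, H.d2, H.e2, hab, H.ae2, hbc, hbd2, hbe2, H.acd, H.ce2, H.de3, h8, H.s7, H.sa,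
    of_comm hbs.symm, H.sc, H.sd2, H.es, H.t3, H.ta, of_comm hbt.symm, H.tc, H.td, H.te, H.st⟩, H, ?_, ?_⟩
  · rw [hw', iw, mul_inv_eq_one]
    calc u⁻¹ * w * u * w = u⁻¹ * (w * u * w) := by simp only [mul_assoc]
      _ = e := by rw [hr1, inv_mul_cancel_left]
  · rw [hw', iw, mul_inv_eq_one, id]
    calc (d * u * d)⁻¹ * w * (d * u * d) * w = (d * u * d)⁻¹ * (w * (d * u * d) * w) := by simp only [mul_assoc]
      _ = u * e * w * (d * u * d) * e * c := by rw [hr2, inv_mul_cancel_left]

/-- images of the generators -/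
def fgen (a b c d e s t u : G) : Cfsg.Spor.Th.Gen → G
  | .a => a
  | .b => b
  | .c => c
  | .d => d
  | .e => e
  | .s => s
  | .t => t
  | .u => u

/-- the homomorphism from the presented Thompson group -/
theorem exists_hom {a b c d e s t u : G} (H : Rel a b c d e s t u) :
    ∃ f : Cfsg.Spor.Th →* G, f (gen .a) = a ∧ f (gen .b) = b ∧ f (gen .c) = c ∧ f (gen .d) = d ∧ f (gen .e) = e ∧
      f (gen .s) = s ∧ f (gen .t) = t ∧ f (gen .u) = u := by
  have hx : ∀ r ∈ Cfsg.Spor.coxRelators Cfsg.Spor.Th.edges ∪ {r | r ∈ Cfsg.Spor.Th.extra},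
      FreeGroup.lift (fgen a b c d e s t u) r = 1 := by
    rintro r (⟨x, hx, _⟩ | hr)
    · exact absurd hx List.not_mem_nil
    · have K := H.K
      have C := H.C
      have hr : r ∈ Cfsg.Spor.Th.extra := hr
      simp only [Cfsg.Spor.Th.extra, List.mem_cons, List.not_mem_nil, or_false] at hr
      rcases hr with rfl | rfl | rfl | rfl | rfl | rfl | rfl | rfl | rfl | rfl | rfl | rfl | rfl | rfl | rfl | rfl |
        rfl | rfl | rfl | rfl | rfl | rfl | rfl | rfl | rfl | rfl | rfl | rfl | rfl | rfl | rfl | rfl | rfl | rfl |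
        rfl | rfl | rfl | rfl | rfl <;>
        simp only [map_mul, map_inv, map_pow, FreeGroup.lift_apply_of, fgen]
      · exact K.a2
      · exact K.b2
      · exact K.c2
      · exact K.d2
      · exact K.e2
      · exact K.ab3
      · exact K.ae2
      · exact K.bc3
      · exact K.bd2
      · exact K.be2
      · exact K.acd
      · exact K.ce2
      · exact K.de3
      · exact K.bcde
      · exact K.s7
      · exact K.sa
      · exact K.sb
      · exact K.sc
      · exact K.sd2
      · exact K.es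
      · exact K.t3
      · exact K.ta
      · exact K.tb
      · exact K.tc
      · exact K.td
      · exact K.te
      · exact K.st
      · exact C.u2
      · exact C.ua
      · exact C.uc
      · exact C.ue
      · exact C.dedu
      · exact H.r1
      · exact H.r2
      · exact C.tu
      · exact C.eus
      · exact C.us3
      · exact C.us4
      · exact C.dus
  refine ⟨PresentedGroup.toGroup hx, ?_, ?_, ?_, ?_, ?_, ?_, ?_, ?_⟩ <;>
    exact PresentedGroup.toGroup.of hx

end main

end Cfsg.Agent.ThType.RelOf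
end

-- part: ThType/Main
section
/-!
R05 (Thompson type): assembly of the recognition theorem from `SpinAt`, fusion and the order of the
presented group.
-/

set_option autoImplicit false

namespace Cfsg.Agent.ThType.Main

open Cfsg.Agent.Th.Base Cfsg.Agent.ThType.SpinData Cfsg.Agent.ThType.SqRules Cfsg.Agent.ThType.Squares
  Cfsg.Agent.ThType.CSideRel Cfsg.Agent.ThType.RelD Cfsg.Agent.ThType.ElemE

variable {G : Type*} [Group G]

/-- the last generator: everything needed about `b` -/
def BData (a c d e s t u : G) : Prop :=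
  ∃ b w : G, b * b = 1 ∧ (a * b) ^ 3 = 1 ∧ (b * c) ^ 3 = 1 ∧ b * d = d * b ∧ b * e = e * b ∧
    b * s = s * b ∧ b * t = t * b ∧ w = b * (a * c) * b ∧ w * w = 1 ∧ w * a * w = c ∧
    w * u * w = u * e ∧ w * (d * u * d) * w = (d * u * d) * (u * e * w * (d * u * d) * e * c)

/-- from all generators to the isomorphism -/
theorem of_bdata [Finite G] {z : G} (S : SpinAt G z)
    (hF : ∃ g, g * z * g⁻¹ ∈ S.Q ∧ g * z * g⁻¹ ≠ z) (hTh : Cfsg.IsTh Cfsg.Spor.Th)
    {x : Fin 8 → G} {d e s t u : G} (hN : Norm S x d e s t u) (hR : RelC z (x 0) d e s t u)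
    (hgen : Subgroup.closure {z, x 0, d, e, s, t, u} = Subgroup.centralizer {z})
    (hb : BData z (x 0) d e s t u) : Nonempty (G ≃* Cfsg.Spor.Th) := by
  obtain ⟨b, w, bb, ab3, bc3, bd, be, bs, bt, hw, ww, wa, hr1, hr2⟩ := hb
  have hrel := RelOf.rel_of hR bb ab3 bc3 bd be bs bt w hw hr1 hr2
  obtain ⟨f, fa, fb, fc, fd, fe, fs, ft, fu⟩ := RelOf.exists_hom hrel
  have hz1 : z ≠ 1 := S.z_ne
  have hinj : Function.Injective f := by
    rw [← MonoidHom.ker_eq_bot_iff]
    have hsim : IsSimpleGroup Cfsg.Spor.Th := hTh.1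
    rcases hsim.eq_bot_or_eq_top_of_normal f.ker (MonoidHom.normal_ker f) with h1 | h1
    · exact h1
    · exfalso
      have h2 : gen .a ∈ f.ker := by rw [h1]; trivial
      rw [MonoidHom.mem_ker, fa] at h2
      exact hz1 h2
  have e0 : Nonempty (f.range ≃* Cfsg.Spor.Th) := ⟨(MonoidHom.ofInjective hinj).symm⟩
  have hE : IsE S (El S 8) := fun y => mem_El_eight S
  have ht : Trans z (El S 8) := fun p hp hp1 => NormE.exists_trans S hF hp hp1
  have hcent : ∀ y, (∀ e ∈ El S 8, y * e = e * y) → y ∈ El S 8 := fun y hy =>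
    NormE.centralizer_El_eight S hy
  have hwH : w ∈ f.range := by
    rw [hw]
    refine ⟨gen .b * (gen .a * gen .c) * gen .b, ?_⟩
    rw [map_mul, map_mul, map_mul, fb, fa, fc]
  have hCK : ∀ y, y * z = z * y → y ∈ f.range := by
    intro y hy
    have h1 : y ∈ Subgroup.closure {z, x 0, d, e, s, t, u} := by
      rw [hgen]; exact Subgroup.mem_centralizer_singleton_iff.mpr hy
    have h2 : Subgroup.closure ({z, x 0, d, e, s, t, u} : Set G) ≤ f.range := by
      rw [Subgroup.closure_le]
      rintro y (rfl | rfl | rfl | rfl | rfl | rfl | rfl)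
      · exact ⟨_, fa⟩
      · exact ⟨_, fc⟩
      · exact ⟨_, fd⟩
      · exact ⟨_, fe⟩
      · exact ⟨_, fs⟩
      · exact ⟨_, ft⟩
      · exact ⟨_, fu⟩
    exact h2 h1
  have hwi : w⁻¹ = w := inv_eq_of_mul_eq_one_right ww
  have hwz : w * z * w⁻¹ = x 0 := by rw [hwi, wa]
  have hxQ : x 0 ∈ S.Q := hN.gens.qb.mem 0
  have hxz : x 0 ≠ z := by
    intro h1
    have h2 : w * z * w⁻¹ = z := by rw [hwz, h1]
    have h3 := hN.gens.qb.pi_x 0
    rw [h1, (S.π_eq_zero z S.z_mem).mpr (Or.inr rfl)] at h3
    have h4 := congrFun h3 0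
    revert h4; decide
  have htop : f.range = ⊤ :=
    Close.eq_top' S hE ht hcent hTh e0 hCK hwH (by rw [hwz]; exact hxQ) (by rw [hwz]; exact hxz)
  have hsurj : Function.Surjective f := MonoidHom.range_eq_top.mp htop
  exact ⟨(MulEquiv.ofBijective f ⟨hinj, hsurj⟩).symm⟩

end Cfsg.Agent.ThType.Main
end
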