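import Mathlib.Algebra.Group.Basic
import Mathlib.Data.Nat.Bitwise
import Mathlib.Tactic
import Cfsg.Agent.ThType.SpinData
import Batteries.Data.Nat.Lemmas
set_option linter.all false

-- part: ThType/CSideModel
section
/-!
Project R05, C-side: a nine bit model of the extraspecial group `2^(1+8)` of plus type.

`Basis z x` : `x 0, …, x 7` are involutions, `x (i+4) * x i = z * x i * x (i+4)`, all the other pairs
commute, `z` is a central involution.  The number `n` codes the element
`ι z x n = z^(bit 8) * x₀^(bit 0) * … * x₇^(bit 7)`; `nmul` is the multiplication of codes,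
`app L` the endomorphism with images `L` of the `x i`.
-/

set_option autoImplicit false

namespace Cfsg.Agent.ThType.CSideModel

variable {G : Type*} [Group G]

/-- `x` or `1` -/
def pw (x : G) (b : Bool) : G := bif b then x else 1

@[simp] theorem pw_true (x : G) : pw x true = x := rfl

@[simp] theorem pw_false (x : G) : pw x false = 1 := rfl

theorem pw_xor {x : G} (h : x * x = 1) (a b : Bool) : pw x (a ^^ b) = pw x a * pw x b := by
  cases a <;> cases b <;> simp [h]

theorem pw_comm {x y : G} (h : x * y = y * x) (a b : Bool) :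
    pw x a * pw y b = pw y b * pw x a := by
  cases a <;> cases b <;> simp [h]

theorem pw_swap {x y z : G} (h : x * y = z * (y * x)) (a b : Bool) :
    pw x a * pw y b = pw z (a && b) * (pw y b * pw x a) := by
  cases a <;> cases b <;> simp [h]

theorem pw_comm_left {x c : G} (h : c * x = x * c) (b : Bool) : c * pw x b = pw x b * c := by
  cases b <;> simp [h]

/-- the defining relations of the basis -/
structure Basis (z : G) (x : Fin 8 → G) : Prop where
  z_sq : z * z = 1
  z_comm : ∀ i, x i * z = z * x i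
  sq : ∀ i, x i * x i = 1
  swap : ∀ i : Fin 4, x ⟨i.1 + 4, by omega⟩ * x ⟨i.1, by omega⟩ =
    z * (x ⟨i.1, by omega⟩ * x ⟨i.1 + 4, by omega⟩)
  comm : ∀ i j : Fin 8, i.1 + 4 ≠ j.1 → j.1 + 4 ≠ i.1 → x i * x j = x j * x i

/-- the product of the first four -/
def lo (x : Fin 8 → G) (b0 b1 b2 b3 : Bool) : G :=
  pw (x 0) b0 * pw (x 1) b1 * (pw (x 2) b2 * pw (x 3) b3)

/-- the product of the last four -/
def hi (x : Fin 8 → G) (b4 b5 b6 b7 : Bool) : G :=
  pw (x 4) b4 * pw (x 5) b5 * (pw (x 6) b6 * pw (x 7) b7)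

/-- the element with code `n` -/
def ι (z : G) (x : Fin 8 → G) (n : ℕ) : G :=
  pw z (n.testBit 8) * (lo x (n.testBit 0) (n.testBit 1) (n.testBit 2) (n.testBit 3) *
    hi x (n.testBit 4) (n.testBit 5) (n.testBit 6) (n.testBit 7))

/-- multiplication of four commuting involutions -/
theorem four_mul {y0 y1 y2 y3 : G} (h0 : y0 * y0 = 1) (h1 : y1 * y1 = 1) (h2 : y2 * y2 = 1)
    (h3 : y3 * y3 = 1) (h01 : y0 * y1 = y1 * y0) (h02 : y0 * y2 = y2 * y0)
    (h03 : y0 * y3 = y3 * y0) (h12 : y1 * y2 = y2 * y1) (h13 : y1 * y3 = y3 * y1)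
    (h23 : y2 * y3 = y3 * y2) (a0 a1 a2 a3 b0 b1 b2 b3 : Bool) :
    pw y0 (a0 ^^ b0) * pw y1 (a1 ^^ b1) * (pw y2 (a2 ^^ b2) * pw y3 (a3 ^^ b3)) =
    pw y0 a0 * pw y1 a1 * (pw y2 a2 * pw y3 a3) *
      (pw y0 b0 * pw y1 b1 * (pw y2 b2 * pw y3 b3)) := by
  rw [pw_xor h0, pw_xor h1, pw_xor h2, pw_xor h3]
  have e01 : Commute (pw y1 a1) (pw y0 b0) := (pw_comm h01 b0 a1).symm
  have e23 : Commute (pw y3 a3) (pw y2 b2) := (pw_comm h23 b2 a3).symm
  have e20 : Commute (pw y2 a2) (pw y0 b0) := (pw_comm h02 b0 a2).symm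
  have e30 : Commute (pw y3 a3) (pw y0 b0) := (pw_comm h03 b0 a3).symm
  have e21 : Commute (pw y2 a2) (pw y1 b1) := (pw_comm h12 b1 a2).symm
  have e31 : Commute (pw y3 a3) (pw y1 b1) := (pw_comm h13 b1 a3).symm
  rw [← e01.mul_mul_mul_comm, ← e23.mul_mul_mul_comm]
  have e : Commute (pw y2 a2 * pw y3 a3) (pw y0 b0 * pw y1 b1) :=
    ((e20.mul_right e21).mul_left (e30.mul_right e31))
  rw [e.mul_mul_mul_comm]

variable {z : G} {x : Fin 8 → G}

theorem lo_mul (h : Basis z x) (a0 a1 a2 a3 b0 b1 b2 b3 : Bool) :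
    lo x (a0 ^^ b0) (a1 ^^ b1) (a2 ^^ b2) (a3 ^^ b3) = lo x a0 a1 a2 a3 * lo x b0 b1 b2 b3 :=
  four_mul (h.sq 0) (h.sq 1) (h.sq 2) (h.sq 3)
    (h.comm 0 1 (by decide) (by decide)) (h.comm 0 2 (by decide) (by decide))
    (h.comm 0 3 (by decide) (by decide)) (h.comm 1 2 (by decide) (by decide))
    (h.comm 1 3 (by decide) (by decide)) (h.comm 2 3 (by decide) (by decide)) _ _ _ _ _ _ _ _

theorem hi_mul (h : Basis z x) (a0 a1 a2 a3 b0 b1 b2 b3 : Bool) :
    hi x (a0 ^^ b0) (a1 ^^ b1) (a2 ^^ b2) (a3 ^^ b3) = hi x a0 a1 a2 a3 * hi x b0 b1 b2 b3 :=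
  four_mul (h.sq 4) (h.sq 5) (h.sq 6) (h.sq 7)
    (h.comm 4 5 (by decide) (by decide)) (h.comm 4 6 (by decide) (by decide))
    (h.comm 4 7 (by decide) (by decide)) (h.comm 5 6 (by decide) (by decide))
    (h.comm 5 7 (by decide) (by decide)) (h.comm 6 7 (by decide) (by decide)) _ _ _ _ _ _ _ _

/-- an element which commutes with `x 0, …` up to `z` commutes with a product up to `z` -/
theorem swap_mul {w u v : G} {a b : Bool} (hz : z * z = 1) (hzu : u * z = z * u)
    (h1 : w * u = pw z a * (u * w)) (h2 : w * v = pw z b * (v * w)) :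
    w * (u * v) = pw z (a ^^ b) * ((u * v) * w) := by
  have h3 : u * pw z b = pw z b * u := pw_comm_left hzu b
  rw [pw_xor hz, ← mul_assoc, h1, mul_assoc (pw z a), mul_assoc u, h2, ← mul_assoc u, h3]
  simp only [mul_assoc]

theorem swap_lo_one (h : Basis z x) (i : Fin 4) (b0 b1 b2 b3 : Bool) :
    x ⟨i.1 + 4, by omega⟩ * lo x b0 b1 b2 b3 =
      pw z ((i == 0 && b0) ^^ (i == 1 && b1) ^^ ((i == 2 && b2) ^^ (i == 3 && b3))) *
        (lo x b0 b1 b2 b3 * x ⟨i.1 + 4, by omega⟩) := by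
  have key : ∀ (j : Fin 4) (b : Bool), x ⟨i.1 + 4, by omega⟩ * pw (x ⟨j.1, by omega⟩) b =
      pw z (i == j && b) * (pw (x ⟨j.1, by omega⟩) b * x ⟨i.1 + 4, by omega⟩) := by
    intro j b
    cases b
    · simp
    · by_cases hij : i = j
      · subst hij
        simpa using h.swap i
      · have : (i == j) = false := by simpa using hij
        simp only [this, Bool.false_and, pw_false, one_mul, pw_true]
        refine h.comm _ _ (by simp; omega) ?_
        simp only [ne_eq]
        intro h2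
        exact hij (Fin.ext (by omega))
  have zc : ∀ (j : Fin 8) (b : Bool), pw (x j) b * z = z * pw (x j) b := by
    intro j b
    cases b
    · simp
    · exact h.z_comm j
  have e0 := key 0 b0
  have e1 := key 1 b1
  have e2 := key 2 b2
  have e3 := key 3 b3
  exact swap_mul h.z_sq (by rw [mul_assoc, zc, ← mul_assoc, zc, mul_assoc])
    (swap_mul h.z_sq (zc _ _) e0 e1) (swap_mul h.z_sq (zc _ _) e2 e3)

/-- `swap_mul` on the other side -/
theorem swap_mul' {w u v : G} {a b : Bool} (hz : z * z = 1) (hzu : u * z = z * u)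
    (h1 : u * w = pw z a * (w * u)) (h2 : v * w = pw z b * (w * v)) :
    (u * v) * w = pw z (a ^^ b) * (w * (u * v)) := by
  have h3 : u * pw z b = pw z b * u := pw_comm_left hzu b
  rw [mul_assoc, h2, ← mul_assoc, h3, mul_assoc, ← mul_assoc u w v, h1, Bool.xor_comm, pw_xor hz]
  simp only [mul_assoc]

theorem hi_lo (h : Basis z x) (a0 a1 a2 a3 b0 b1 b2 b3 : Bool) :
    hi x a0 a1 a2 a3 * lo x b0 b1 b2 b3 =
      pw z ((a0 && b0) ^^ (a1 && b1) ^^ ((a2 && b2) ^^ (a3 && b3))) *
        (lo x b0 b1 b2 b3 * hi x a0 a1 a2 a3) := by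
  have zc : ∀ (j : Fin 8) (b : Bool), pw (x j) b * z = z * pw (x j) b := by
    intro j b
    cases b
    · simp
    · exact h.z_comm j
  have key : ∀ (i : Fin 4) (a : Bool), pw (x ⟨i.1 + 4, by omega⟩) a * lo x b0 b1 b2 b3 =
      pw z (a && ((i == 0 && b0) ^^ (i == 1 && b1) ^^ ((i == 2 && b2) ^^ (i == 3 && b3)))) *
        (lo x b0 b1 b2 b3 * pw (x ⟨i.1 + 4, by omega⟩) a) := by
    intro i a
    cases a
    · simp
    · exact swap_lo_one h i b0 b1 b2 b3
  have e0 := key 0 a0
  have e1 := key 1 a1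
  have e2 := key 2 a2
  have e3 := key 3 a3
  simp only [show ((0 : Fin 4) == 0) = true from rfl, show ((0 : Fin 4) == 1) = false from rfl,
    show ((0 : Fin 4) == 2) = false from rfl, show ((0 : Fin 4) == 3) = false from rfl,
    show ((1 : Fin 4) == 0) = false from rfl, show ((1 : Fin 4) == 1) = true from rfl,
    show ((1 : Fin 4) == 2) = false from rfl, show ((1 : Fin 4) == 3) = false from rfl,
    show ((2 : Fin 4) == 0) = false from rfl, show ((2 : Fin 4) == 1) = false from rfl,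
    show ((2 : Fin 4) == 2) = true from rfl, show ((2 : Fin 4) == 3) = false from rfl,
    show ((3 : Fin 4) == 0) = false from rfl, show ((3 : Fin 4) == 1) = false from rfl,
    show ((3 : Fin 4) == 2) = false from rfl, show ((3 : Fin 4) == 3) = true from rfl,
    Bool.true_and, Bool.false_and, Bool.xor_false, Bool.false_xor] at e0 e1 e2 e3
  exact swap_mul' h.z_sq (by rw [mul_assoc, zc, ← mul_assoc, zc, mul_assoc])
    (swap_mul' h.z_sq (zc _ _) e0 e1) (swap_mul' h.z_sq (zc _ _) e2 e3)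

/-- parity of the last four bits -/
def par4 (k : ℕ) : ℕ :=
  Nat.land (Nat.xor (Nat.xor k (Nat.shiftRight k 1))
    (Nat.xor (Nat.shiftRight k 2) (Nat.shiftRight k 3))) 1

/-- multiplication of codes -/
def nmul (m n : ℕ) : ℕ :=
  Nat.xor (Nat.xor m n) (Nat.shiftLeft (par4 (Nat.land (Nat.shiftRight m 4) n)) 8)

theorem par4_testBit (k i : ℕ) : (par4 k).testBit i =
    (decide (i = 0) && ((k.testBit 0 ^^ k.testBit 1) ^^ (k.testBit 2 ^^ k.testBit 3))) := by
  change (((k ^^^ (k >>> 1)) ^^^ ((k >>> 2) ^^^ (k >>> 3))) &&& 1).testBit i = _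
  rw [Nat.testBit_and, Nat.testBit_xor, Nat.testBit_xor, Nat.testBit_xor,
    Nat.testBit_shiftRight, Nat.testBit_shiftRight, Nat.testBit_shiftRight]
  by_cases hi : i = 0
  · subst hi
    simp
  · have h1 : Nat.testBit 1 i = false := by
      obtain ⟨j, rfl⟩ := Nat.exists_eq_succ_of_ne_zero hi
      simp [Nat.testBit_succ]
    simp [hi, h1]

theorem nmul_testBit_lt (m n i : ℕ) (hi : i < 8) :
    (nmul m n).testBit i = (m.testBit i ^^ n.testBit i) := by
  change ((m ^^^ n) ^^^ ((par4 _) <<< 8)).testBit i = _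
  rw [Nat.testBit_xor, Nat.testBit_xor, Nat.testBit_shiftLeft]
  have : decide (i ≥ 8) = false := by simpa using hi
  simp [this]

theorem nmul_testBit_eight (m n : ℕ) :
    (nmul m n).testBit 8 = ((m.testBit 8 ^^ n.testBit 8) ^^
      (((m.testBit 4 && n.testBit 0) ^^ (m.testBit 5 && n.testBit 1)) ^^
        ((m.testBit 6 && n.testBit 2) ^^ (m.testBit 7 && n.testBit 3)))) := by
  change ((m ^^^ n) ^^^ ((par4 ((m >>> 4) &&& n)) <<< 8)).testBit 8 = _
  rw [Nat.testBit_xor, Nat.testBit_xor, Nat.testBit_shiftLeft, par4_testBit]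
  simp

/-- the multiplication of codes is the multiplication of elements -/
theorem ι_nmul (h : Basis z x) (m n : ℕ) : ι z x (nmul m n) = ι z x m * ι z x n := by
  have zc : ∀ (j : Fin 8) (b : Bool), pw (x j) b * z = z * pw (x j) b := by
    intro j b
    cases b
    · simp
    · exact h.z_comm j
  have zlo : ∀ b0 b1 b2 b3 : Bool, ∀ c : Bool, Commute (lo x b0 b1 b2 b3) (pw z c) := by
    intro b0 b1 b2 b3 c
    cases c
    · exact Commute.one_right _
    · exact ((show Commute _ z from zc 0 b0).mul_left (zc 1 b1)).mul_left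
        ((show Commute _ z from zc 2 b2).mul_left (zc 3 b3))
  have zhi : ∀ b0 b1 b2 b3 : Bool, ∀ c : Bool, Commute (hi x b0 b1 b2 b3) (pw z c) := by
    intro b0 b1 b2 b3 c
    cases c
    · exact Commute.one_right _
    · exact ((show Commute _ z from zc 4 b0).mul_left (zc 5 b1)).mul_left
        ((show Commute _ z from zc 6 b2).mul_left (zc 7 b3))
  unfold ι
  rw [nmul_testBit_eight]
  simp only [nmul_testBit_lt m n _ (show 0 < 8 by norm_num),
    nmul_testBit_lt m n _ (show 1 < 8 by norm_num), nmul_testBit_lt m n _ (show 2 < 8 by norm_num),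
    nmul_testBit_lt m n _ (show 3 < 8 by norm_num), nmul_testBit_lt m n _ (show 4 < 8 by norm_num),
    nmul_testBit_lt m n _ (show 5 < 8 by norm_num), nmul_testBit_lt m n _ (show 6 < 8 by norm_num),
    nmul_testBit_lt m n _ (show 7 < 8 by norm_num)]
  rw [lo_mul h, hi_mul h, pw_xor h.z_sq, pw_xor h.z_sq]
  generalize m.testBit 8 = m8
  generalize n.testBit 8 = n8
  have e1 := hi_lo h (m.testBit 4) (m.testBit 5) (m.testBit 6) (m.testBit 7) (n.testBit 0)
    (n.testBit 1) (n.testBit 2) (n.testBit 3)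
  set lm := lo x (m.testBit 0) (m.testBit 1) (m.testBit 2) (m.testBit 3)
  set hm := hi x (m.testBit 4) (m.testBit 5) (m.testBit 6) (m.testBit 7)
  set ln := lo x (n.testBit 0) (n.testBit 1) (n.testBit 2) (n.testBit 3)
  set hn := hi x (n.testBit 4) (n.testBit 5) (n.testBit 6) (n.testBit 7)
  generalize (((m.testBit 4 && n.testBit 0) ^^ (m.testBit 5 && n.testBit 1)) ^^
        ((m.testBit 6 && n.testBit 2) ^^ (m.testBit 7 && n.testBit 3))) = β at e1 ⊢
  have c1 : Commute hm (pw z n8) := zhi _ _ _ _ _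
  have c2 : Commute lm (pw z n8) := zlo _ _ _ _ _
  have c3 : Commute lm (pw z β) := zlo _ _ _ _ _
  calc pw z m8 * pw z n8 * pw z β * (lm * ln * (hm * hn))
      = pw z m8 * pw z n8 * ((pw z β * lm) * ((ln * hm) * hn)) := by simp only [mul_assoc]
    _ = pw z m8 * pw z n8 * ((lm * pw z β) * ((ln * hm) * hn)) := by rw [c3.eq]
    _ = pw z m8 * pw z n8 * (lm * ((pw z β * (ln * hm)) * hn)) := by simp only [mul_assoc]
    _ = pw z m8 * pw z n8 * (lm * ((hm * ln) * hn)) := by rw [e1]
    _ = pw z m8 * (pw z n8 * (lm * hm)) * (ln * hn) := by simp only [mul_assoc]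
    _ = pw z m8 * ((lm * hm) * pw z n8) * (ln * hn) := by rw [(c2.mul_left c1).eq]
    _ = _ := by simp only [mul_assoc]

theorem ι_zero : ι z x 0 = 1 := by
  simp [ι, lo, hi]

theorem ι_z : ι z x 256 = z := by
  simp [ι, lo, hi, show Nat.testBit 256 8 = true by decide, show Nat.testBit 256 0 = false by decide,
    show Nat.testBit 256 1 = false by decide, show Nat.testBit 256 2 = false by decide,
    show Nat.testBit 256 3 = false by decide, show Nat.testBit 256 4 = false by decide,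
    show Nat.testBit 256 5 = false by decide, show Nat.testBit 256 6 = false by decide,
    show Nat.testBit 256 7 = false by decide]

theorem ι_gen (i : Fin 8) : ι z x (2 ^ i.1) = x i := by
  fin_cases i <;> simp [ι, lo, hi, pw, Nat.testBit]

/-- the images of the generators, packed in a list -/
def img (L : List ℕ) (i : ℕ) : ℕ := L.getD i 0

/-- the endomorphism with images `L` -/
def app (L : List ℕ) (n : ℕ) : ℕ :=
  nmul (bif n.testBit 8 then 256 else 0)
    (nmul (nmul (nmul (bif n.testBit 0 then img L 0 else 0) (bif n.testBit 1 then img L 1 else 0))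
        (nmul (bif n.testBit 2 then img L 2 else 0) (bif n.testBit 3 then img L 3 else 0)))
      (nmul (nmul (bif n.testBit 4 then img L 4 else 0) (bif n.testBit 5 then img L 5 else 0))
        (nmul (bif n.testBit 6 then img L 6 else 0) (bif n.testBit 7 then img L 7 else 0))))

/-- `c` normalises the extraspecial group with images `L` -/
structure Acts (z : G) (x : Fin 8 → G) (c : G) (L : List ℕ) : Prop where
  z_comm : c * z = z * c
  gen : ∀ i : Fin 8, c * x i * c⁻¹ = ι z x (img L i.1)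

theorem Acts.conj (h : Basis z x) {c : G} {L : List ℕ} (hc : Acts z x c L) (n : ℕ) :
    c * ι z x n * c⁻¹ = ι z x (app L n) := by
  have e : ∀ (i : Fin 8) (b : Bool), c * pw (x i) b * c⁻¹ = ι z x (bif b then img L i.1 else 0) := by
    intro i b
    cases b
    · simp [ι_zero]
    · exact hc.gen i
  have ez : ∀ b : Bool, c * pw z b * c⁻¹ = ι z x (bif b then 256 else 0) := by
    intro b
    cases b
    · simp [ι_zero]
    · simp only [pw_true, cond_true, ι_z, hc.z_comm, mul_inv_cancel_right]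
  have m : ∀ u v : G, c * (u * v) * c⁻¹ = (c * u * c⁻¹) * (c * v * c⁻¹) := by
    intro u v
    group
  have e0 : ∀ b, c * pw (x 0) b * c⁻¹ = ι z x (bif b then img L 0 else 0) := e 0
  have e1 : ∀ b, c * pw (x 1) b * c⁻¹ = ι z x (bif b then img L 1 else 0) := e 1
  have e2 : ∀ b, c * pw (x 2) b * c⁻¹ = ι z x (bif b then img L 2 else 0) := e 2
  have e3 : ∀ b, c * pw (x 3) b * c⁻¹ = ι z x (bif b then img L 3 else 0) := e 3
  have e4 : ∀ b, c * pw (x 4) b * c⁻¹ = ι z x (bif b then img L 4 else 0) := e 4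
  have e5 : ∀ b, c * pw (x 5) b * c⁻¹ = ι z x (bif b then img L 5 else 0) := e 5
  have e6 : ∀ b, c * pw (x 6) b * c⁻¹ = ι z x (bif b then img L 6 else 0) := e 6
  have e7 : ∀ b, c * pw (x 7) b * c⁻¹ = ι z x (bif b then img L 7 else 0) := e 7
  unfold app
  rw [ι_nmul h, ι_nmul h, ι_nmul h, ι_nmul h, ι_nmul h, ι_nmul h, ι_nmul h, ι_nmul h,
    ← ez, ← e0, ← e1, ← e2, ← e3, ← e4, ← e5, ← e6, ← e7]
  simp only [ι, lo, hi, m]

theorem Acts.inv (h : Basis z x) {c : G} {L L' : List ℕ} (hc : Acts z x c L)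
    (hL : ∀ i : Fin 8, app L (img L' i.1) = 2 ^ i.1) : Acts z x c⁻¹ L' := by
  refine ⟨?_, fun i => ?_⟩
  · have := hc.z_comm
    rw [inv_mul_eq_iff_eq_mul, ← mul_assoc, this, mul_inv_cancel_right]
  · have := hc.conj h (img L' i.1)
    rw [hL i, ι_gen] at this
    rw [← this]
    group

end Cfsg.Agent.ThType.CSideModel
end

-- part: ThType/CSideBasis
section
/-!
Project R05, C-side: a basis `x` of `Q` for a `SpinAt G z`, codes of the elements of `Q`, and
existence of elements of `C_G(z)` with prescribed image in `A₉` and prescribed action on `Q`.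
-/

set_option autoImplicit false

namespace Cfsg.Agent.ThType.CSideBasis

open Cfsg.Agent.ThType.SpinData Cfsg.Agent.ThType.CSideModel

/-- the vector of the low eight bits -/
def vec (n : ℕ) : V := fun i => if n.testBit i.1 then 1 else 0

theorem vec_nmul (m n : ℕ) : vec (nmul m n) = vec m + vec n := by
  funext i
  simp only [vec, Pi.add_apply, nmul_testBit_lt m n i.1 i.2]
  cases m.testBit i.1 <;> cases n.testBit i.1 <;> decide

theorem vec_zero : vec 0 = 0 := by
  funext i
  simp [vec]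

theorem vec_z : vec 256 = 0 := by
  decide

theorem vec_surj (v : V) : ∃ n : ℕ, vec n = v := by
  refine ⟨Nat.ofBits (fun i : Fin 8 => decide (v i = 1)), ?_⟩
  funext i
  simp only [vec, Nat.testBit_ofBits_lt _ i.1 i.2, decide_eq_true_eq]
  generalize v i = w
  revert w
  decide

variable {G : Type*} [Group G] {z : G}

/-- `x` is a basis of `Q` lying over the standard basis of `V` -/
structure QB (S : SpinAt G z) (x : Fin 8 → G) : Prop where
  basis : Basis z x
  mem : ∀ i, x i ∈ S.Q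
  pi_x : ∀ i : Fin 8, S.π (x i) = vec (2 ^ i.1)

theorem exists_basis (S : SpinAt G z) : ∃ x : Fin 8 → G, QB S x := by
  choose x hx hπ using fun i : Fin 8 => S.π_surj (vec (2 ^ i.1))
  refine ⟨x, ⟨⟨S.z_sq, fun i => S.Q_le _ (hx i), fun i => ?_, fun i => ?_, fun i j h1 h2 => ?_⟩,
    hx, hπ⟩⟩
  · rw [S.sq _ (hx i), hπ i, if_pos]
    revert i
    decide
  · rw [S.comm _ (hx _) _ (hx _), hπ, hπ, if_neg]
    revert i
    decide
  · rw [S.comm _ (hx _) _ (hx _), hπ, hπ, if_pos, one_mul]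
    revert h1 h2 i j
    decide

theorem one_mem_comm : (1 : G) * z = z * 1 := by simp

theorem mul_comm_z {a b : G} (ha : a * z = z * a) (hb : b * z = z * b) :
    (a * b) * z = z * (a * b) :=
  (show Commute a z from ha).mul_left hb

theorem inv_comm_z {a : G} (ha : a * z = z * a) : a⁻¹ * z = z * a⁻¹ :=
  (show Commute a z from ha).inv_left

theorem phi_one (S : SpinAt G z) : S.φ 1 = 1 :=
  (S.φ_eq_one 1 one_mem_comm).mpr S.Q.one_mem

theorem phi_inv (S : SpinAt G z) {a : G} (ha : a * z = z * a) : S.φ a⁻¹ = (S.φ a)⁻¹ := by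
  rw [eq_inv_iff_mul_eq_one, ← S.φ_mul _ _ (inv_comm_z ha) ha, inv_mul_cancel, phi_one]

theorem phi_mem (S : SpinAt G z) {q : G} (hq : q ∈ S.Q) : S.φ q = 1 :=
  (S.φ_eq_one q (S.Q_le q hq)).mpr hq

theorem conj_mem (S : SpinAt G z) {c q : G} (hc : c * z = z * c) (hq : q ∈ S.Q) :
    c * q * c⁻¹ ∈ S.Q := by
  have h1 : (c * q) * z = z * (c * q) := mul_comm_z hc (S.Q_le q hq)
  rw [← S.φ_eq_one _ (mul_comm_z h1 (inv_comm_z hc)), S.φ_mul _ _ h1 (inv_comm_z hc),
    S.φ_mul _ _ hc (S.Q_le q hq), phi_inv S hc, phi_mem S hq, mul_one, mul_inv_cancel]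

theorem pi_one (S : SpinAt G z) : S.π 1 = 0 :=
  (S.π_eq_zero 1 S.Q.one_mem).mpr (Or.inl rfl)

theorem pi_z (S : SpinAt G z) : S.π z = 0 :=
  (S.π_eq_zero z S.z_mem).mpr (Or.inr rfl)

theorem pi_eq_iff (S : SpinAt G z) {p q : G} (hp : p ∈ S.Q) (hq : q ∈ S.Q)
    (h : S.π p = S.π q) : p = q ∨ p = z * q := by
  have h1 : S.π (p * q⁻¹) = 0 := by
    have h2 : S.π (p * q⁻¹) + S.π q = S.π p := by
      rw [← S.π_mul _ (S.Q.mul_mem hp (S.Q.inv_mem hq)) _ hq, inv_mul_cancel_right]
    rw [← h] at h2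
    simpa using h2
  rcases (S.π_eq_zero _ (S.Q.mul_mem hp (S.Q.inv_mem hq))).mp h1 with h2 | h2
  · exact Or.inl (mul_inv_eq_one.mp h2)
  · exact Or.inr (mul_inv_eq_iff_eq_mul.mp h2)

variable {S : SpinAt G z} {x : Fin 8 → G}

theorem pw_mem {H : Subgroup G} {y : G} (hy : y ∈ H) (b : Bool) : pw y b ∈ H := by
  cases b
  · exact H.one_mem
  · exact hy

theorem lo_mem {H : Subgroup G} (h : ∀ i, x i ∈ H) (a b c d : Bool) : lo x a b c d ∈ H :=
  H.mul_mem (H.mul_mem (pw_mem (h _) _) (pw_mem (h _) _))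
    (H.mul_mem (pw_mem (h _) _) (pw_mem (h _) _))

theorem hi_mem {H : Subgroup G} (h : ∀ i, x i ∈ H) (a b c d : Bool) : hi x a b c d ∈ H :=
  H.mul_mem (H.mul_mem (pw_mem (h _) _) (pw_mem (h _) _))
    (H.mul_mem (pw_mem (h _) _) (pw_mem (h _) _))

theorem ι_mem_of {H : Subgroup G} (hz : z ∈ H) (h : ∀ i, x i ∈ H) (n : ℕ) : ι z x n ∈ H :=
  H.mul_mem (pw_mem hz _) (H.mul_mem (lo_mem h _ _ _ _) (hi_mem h _ _ _ _))

theorem ι_mem (h : QB S x) (n : ℕ) : ι z x n ∈ S.Q := ι_mem_of S.z_mem h.mem n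

theorem ι_comm (h : QB S x) (n : ℕ) : ι z x n * z = z * ι z x n := S.Q_le _ (ι_mem h n)

theorem pi_pw (h : QB S x) (i : Fin 8) (b : Bool) :
    S.π (pw (x i) b) = if b then vec (2 ^ i.1) else 0 := by
  cases b
  · simpa using pi_one S
  · simpa using h.pi_x i

theorem pi_ι (h : QB S x) (n : ℕ) : S.π (ι z x n) = vec n := by
  have m : ∀ (i : Fin 8) (b : Bool), pw (x i) b ∈ S.Q := fun i b => pw_mem (h.mem i) b
  have ez : S.π (pw z (n.testBit 8)) = 0 := by
    cases n.testBit 8
    · exact pi_one S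
    · exact pi_z S
  unfold ι
  rw [S.π_mul _ (pw_mem S.z_mem _) _ (S.Q.mul_mem (lo_mem h.mem _ _ _ _) (hi_mem h.mem _ _ _ _)),
    S.π_mul _ (lo_mem h.mem _ _ _ _) _ (hi_mem h.mem _ _ _ _), ez, zero_add]
  unfold lo hi
  rw [S.π_mul _ (S.Q.mul_mem (m _ _) (m _ _)) _ (S.Q.mul_mem (m _ _) (m _ _)),
    S.π_mul _ (S.Q.mul_mem (m _ _) (m _ _)) _ (S.Q.mul_mem (m _ _) (m _ _)),
    S.π_mul _ (m _ _) _ (m _ _), S.π_mul _ (m _ _) _ (m _ _), S.π_mul _ (m _ _) _ (m _ _),
    S.π_mul _ (m _ _) _ (m _ _), pi_pw h, pi_pw h, pi_pw h, pi_pw h, pi_pw h, pi_pw h, pi_pw h,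
    pi_pw h]
  have key : ∀ b0 b1 b2 b3 b4 b5 b6 b7 : Bool, ∀ j : Fin 8,
      (((if b0 then vec (2 ^ (0 : Fin 8).1) else 0) + (if b1 then vec (2 ^ (1 : Fin 8).1) else 0) +
        ((if b2 then vec (2 ^ (2 : Fin 8).1) else 0) + (if b3 then vec (2 ^ (3 : Fin 8).1) else 0)) +
       ((if b4 then vec (2 ^ (4 : Fin 8).1) else 0) + (if b5 then vec (2 ^ (5 : Fin 8).1) else 0) +
        ((if b6 then vec (2 ^ (6 : Fin 8).1) else 0) +
          (if b7 then vec (2 ^ (7 : Fin 8).1) else 0))) : V)) j =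
      if (![b0, b1, b2, b3, b4, b5, b6, b7] j) then (1 : ZMod 2) else 0 := by
    have v : ∀ i j : Fin 8, vec (2 ^ i.1) j = if i = j then 1 else 0 := by decide
    intro b0 b1 b2 b3 b4 b5 b6 b7 j
    simp only [Pi.add_apply]
    have w : ∀ (i : Fin 8) (b : Bool), (if b then vec (2 ^ i.1) else 0 : V) j =
        if b ∧ i = j then 1 else 0 := by
      intro i b
      cases b
      · simp
      · simp [v]
    rw [w, w, w, w, w, w, w, w]
    fin_cases j <;> simp <;> split_ifs <;> simp_all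
  funext j
  rw [key, vec]
  fin_cases j <;> rfl

theorem exists_code (h : QB S x) {q : G} (hq : q ∈ S.Q) : ∃ n, q = ι z x n := by
  obtain ⟨n, hn⟩ := vec_surj (S.π q)
  rcases pi_eq_iff S hq (ι_mem h n) (by rw [pi_ι h, hn]) with h1 | h1
  · exact ⟨n, h1⟩
  · exact ⟨nmul 256 n, by rw [ι_nmul h.basis, ι_z, ← h1]⟩

theorem b0_gen (v : V) (i : Fin 8) : b0 v (vec (2 ^ i.1)) = v (i + 4) := by
  have v' : ∀ i j : Fin 8, vec (2 ^ i.1) j = if i = j then 1 else 0 := by decide
  simp only [b0, v']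
  fin_cases i <;> simp

/-- an element of `C_G(z)` with trivial image in `A₉` and trivial action on `Q` is `1` or `z` -/
theorem eq_one_or_z (h : QB S x) {c : G} (hc : c * z = z * c) (hφ : S.φ c = 1)
    (hx : ∀ i, c * x i * c⁻¹ = x i) : c = 1 ∨ c = z := by
  have hQ : c ∈ S.Q := (S.φ_eq_one c hc).mp hφ
  rw [← S.π_eq_zero c hQ]
  have h1 : ∀ i : Fin 8, b0 (S.π c) (vec (2 ^ i.1)) = 0 := by
    intro i
    by_contra hne
    have h2 := S.comm c hQ (x i) (h.mem i)
    rw [h.pi_x i, if_neg hne, ← mul_inv_eq_iff_eq_mul.mp (hx i), right_eq_mul] at h2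
    exact S.z_ne h2
  funext j
  have h2 := h1 (j - 4)
  rw [b0_gen, sub_add_cancel] at h2
  simpa using h2

/-- the code of the element of `Q` which changes the signs `δ` -/
theorem exists_sign (h : QB S x) (δ : Fin 8 → Bool) :
    ∃ q ∈ S.Q, ∀ i, q * x i * q⁻¹ = pw z (δ i) * x i := by
  refine ⟨ι z x (Nat.ofBits (fun i : Fin 8 => δ (i - 4))), ι_mem h _, fun i => ?_⟩
  rw [mul_inv_eq_iff_eq_mul, S.comm _ (ι_mem h _) _ (h.mem i), pi_ι h, h.pi_x, b0_gen, vec,
    Nat.testBit_ofBits_lt _ _ (i + 4).2, ← mul_assoc]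
  congr 1
  congr 1
  simp only [Fin.eta, add_sub_cancel_right]
  cases δ i <;> simp

/-- existence of elements with prescribed image and action -/
theorem exists_lift (h : QB S x) (p : alternatingGroup (Fin 9)) (L : List ℕ)
    (hL : ∀ i : Fin 8, (S.ρ p).mulVec (vec (2 ^ i.1)) = vec (img L i.1)) :
    ∃ c, c * z = z * c ∧ S.φ c = p ∧ Acts z x c L := by
  obtain ⟨c0, hc0, hp⟩ := S.φ_surj p
  have h1 : ∀ i : Fin 8, ∃ b : Bool, c0 * x i * c0⁻¹ = pw z b * ι z x (img L i.1) := by
    intro i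
    have h2 : S.π (c0 * x i * c0⁻¹) = S.π (ι z x (img L i.1)) := by
      rw [S.act c0 hc0 _ (h.mem i), hp, h.pi_x, hL, pi_ι h]
    rcases pi_eq_iff S (conj_mem S hc0 (h.mem i)) (ι_mem h _) h2 with h3 | h3
    · exact ⟨false, by simpa using h3⟩
    · exact ⟨true, by simpa using h3⟩
  choose δ hδ using h1
  obtain ⟨q, hq, hqx⟩ := exists_sign h δ
  have hqz := S.Q_le q hq
  refine ⟨c0 * q, mul_comm_z hc0 hqz, ?_, ⟨mul_comm_z hc0 hqz, fun i => ?_⟩⟩
  · rw [S.φ_mul _ _ hc0 hqz, phi_mem S hq, mul_one, hp]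
  · have h2 : c0 * pw z (δ i) = pw z (δ i) * c0 := pw_comm_left hc0 (δ i)
    calc c0 * q * x i * (c0 * q)⁻¹ = c0 * (q * x i * q⁻¹) * c0⁻¹ := by group
      _ = pw z (δ i) * (c0 * x i * c0⁻¹) := by
          rw [hqx i, ← mul_assoc c0, h2]
          simp only [mul_assoc]
      _ = ι z x (img L i.1) := by
          rw [hδ i, ← mul_assoc, ← pw_xor h.basis.z_sq]
          cases δ i <;> simp

end Cfsg.Agent.ThType.CSideBasis
end

-- part: ThType/SqRules
section
/-!
Project R05: the sign rules ("case (n)") for the squares of elements of `C_G(z)` over involutions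
of `A₉`, in the form used by the files `ThType.CSide*`.
-/

set_option autoImplicit false

namespace Cfsg.Agent.ThType.SqRules

open Cfsg.Agent.ThType.SpinData

/-- sign rules: an element `x` of `C_G(z)` with `x² ∈ {1, z}` has square `z` if `φ x` is a product of
two disjoint transpositions and square `1` if `φ x` is a product of four. -/
structure SqRules {G : Type*} [Group G] {z : G} (S : SpinAt G z) : Prop where
  sq2 : ∀ x : G, x * z = z * x → S.φ x * S.φ x = 1 → (S.φ x).1.support.card = 4 →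
    (x * x = 1 ∨ x * x = z) → x * x = z
  sq4 : ∀ x : G, x * z = z * x → S.φ x * S.φ x = 1 → (S.φ x).1.support.card = 8 →
    (x * x = 1 ∨ x * x = z) → x * x = 1

theorem cycleType_of_card {σ : Equiv.Perm (Fin 9)} {n : ℕ} (h : σ * σ = 1)
    (hc : σ.support.card = 2 * n) : σ.cycleType = Multiset.replicate n 2 := by
  have : Fact (Nat.Prime 2) := ⟨Nat.prime_two⟩
  have h1 : ∀ c ∈ σ.cycleType, c = 2 :=
    Equiv.Perm.pow_prime_eq_one_iff.mp (by rw [pow_two, h])
  have h2 := Multiset.eq_replicate_card.mpr h1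
  have h3 := Equiv.Perm.sum_cycleType σ
  rw [h2, Multiset.sum_replicate, hc, smul_eq_mul] at h3
  rw [h2, show Multiset.card σ.cycleType = n by omega]

/-- the sign rules from the statements in terms of cycle types -/
theorem of_cycleType {G : Type*} [Group G] {z : G} (S : SpinAt G z)
    (h2 : ∀ x : G, x * z = z * x → (S.φ x : Equiv.Perm (Fin 9)).cycleType = {2, 2} →
      (x * x = 1 ∨ x * x = z) → x * x = z)
    (h4 : ∀ x : G, x * z = z * x → (S.φ x : Equiv.Perm (Fin 9)).cycleType = {2, 2, 2, 2} →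
      (x * x = 1 ∨ x * x = z) → x * x = 1) : SqRules S where
  sq2 x hx hφ hc hs := h2 x hx (cycleType_of_card (n := 2) (congrArg Subtype.val hφ) hc) hs
  sq4 x hx hφ hc hs := h4 x hx (cycleType_of_card (n := 4) (congrArg Subtype.val hφ) hc) hs

end Cfsg.Agent.ThType.SqRules
end

-- part: ThType/CSideWords
section
/-!
Project R05, C-side: words in elements of `C_G(z)` with tabulated action on `Q` and on nine letters.

`tabL l` = the images of `x 0, …, x 7` under conjugation by the `l`-th element, `tabP l` = its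
permutation of `{0, …, 8}`.  All checks are computations with natural numbers.
-/

set_option autoImplicit false

namespace Cfsg.Agent.ThType.CSideWords

open Cfsg.Agent.ThType.SpinData Cfsg.Agent.ThType.CSideModel Cfsg.Agent.ThType.CSideBasis
  Cfsg.Agent.ThType.SqRules

/-- action of a word on codes -/
def wact (tabL : ℕ → List ℕ) : List ℕ → ℕ → ℕ
  | [], n => n
  | l :: w, n => app (tabL l) (wact tabL w n)

/-- action of a word on letters -/
def wperm (tabP : ℕ → ℕ → ℕ) : List ℕ → ℕ → ℕ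
  | [], j => j
  | l :: w, j => tabP l (wperm tabP w j)

variable {G : Type*} [Group G] {z : G}

/-- value of a word -/
def wval (g : ℕ → G) : List ℕ → G
  | [] => 1
  | l :: w => g l * wval g w

/-- the tables describe the `l`-th element -/
structure Good (S : SpinAt G z) (x : Fin 8 → G) (g : ℕ → G) (tabL : ℕ → List ℕ)
    (tabP : ℕ → ℕ → ℕ) (l : ℕ) : Prop where
  acts : Acts z x (g l) (tabL l)
  perm : ∀ j : Fin 9, ((S.φ (g l)).1 j).1 = tabP l j.1

variable {S : SpinAt G z} {x : Fin 8 → G} {g : ℕ → G} {tabL : ℕ → List ℕ} {tabP : ℕ → ℕ → ℕ}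

theorem wval_comm : ∀ {w : List ℕ}, (∀ l ∈ w, Good S x g tabL tabP l) →
    wval g w * z = z * wval g w
  | [], _ => one_mem_comm
  | l :: _, h => mul_comm_z (h l List.mem_cons_self).acts.z_comm
      (wval_comm fun l' hl' => h l' (List.mem_cons_of_mem _ hl'))

theorem wval_conj (hx : QB S x) : ∀ {w : List ℕ}, (∀ l ∈ w, Good S x g tabL tabP l) → ∀ n,
    wval g w * ι z x n * (wval g w)⁻¹ = ι z x (wact tabL w n)
  | [], _, n => by simp [wval, wact]
  | l :: w, h, n => by
      have h1 := wval_conj hx (w := w) (fun l' hl' => h l' (List.mem_cons_of_mem _ hl')) n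
      have h2 := (h l List.mem_cons_self).acts.conj hx.basis (wact tabL w n)
      rw [wact, ← h2, ← h1, wval]
      group

theorem wval_perm : ∀ {w : List ℕ}, (∀ l ∈ w, Good S x g tabL tabP l) → ∀ j : Fin 9,
    ((S.φ (wval g w)).1 j).1 = wperm tabP w j.1
  | [], _, j => by
      rw [wval, phi_one]
      rfl
  | l :: w, h, j => by
      have hw : ∀ l' ∈ w, Good S x g tabL tabP l' := fun l' hl' => h l' (List.mem_cons_of_mem _ hl')
      have h1 := wval_perm (w := w) hw j
      have h2 := (h l List.mem_cons_self).perm ((S.φ (wval g w)).1 j)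
      rw [h1] at h2
      rw [wval, S.φ_mul _ _ (h l List.mem_cons_self).acts.z_comm (wval_comm hw), wperm, ← h2]
      rfl

theorem wval_append (v w : List ℕ) : wval g (v ++ w) = wval g v * wval g w := by
  induction v with
  | nil => simp [wval]
  | cons l v ih => simp only [List.cons_append, wval, ih, mul_assoc]

/-- check that a word acts trivially on letters and codes -/
def trivW (tabL : ℕ → List ℕ) (tabP : ℕ → ℕ → ℕ) (w : List ℕ) : Bool :=
  (List.range 8).all (fun i => Nat.beq (wact tabL w (2 ^ i)) (2 ^ i)) &&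
    (List.range 9).all (fun j => Nat.beq (wperm tabP w j) j)

theorem phi_eq_one_of_perm {w : List ℕ} (hg : ∀ l ∈ w, Good S x g tabL tabP l)
    (h : ∀ j < 9, wperm tabP w j = j) : S.φ (wval g w) = 1 := by
  apply Subtype.ext
  apply Equiv.ext
  intro j
  apply Fin.ext
  rw [wval_perm hg, h _ j.2]
  rfl

theorem triv (hx : QB S x) {w : List ℕ} (hg : ∀ l ∈ w, Good S x g tabL tabP l)
    (h : trivW tabL tabP w = true) : wval g w = 1 ∨ wval g w = z := by
  rw [trivW, Bool.and_eq_true, List.all_eq_true, List.all_eq_true] at h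
  refine eq_one_or_z hx (wval_comm hg) (phi_eq_one_of_perm hg fun j hj =>
    Nat.eq_of_beq_eq_true (h.2 j (List.mem_range.mpr hj))) fun i => ?_
  rw [← ι_gen (z := z) (x := x) i, wval_conj hx hg,
    Nat.eq_of_beq_eq_true (h.1 i.1 (List.mem_range.mpr i.2))]

/-- multiplying letters by powers of `z` -/
theorem wval_twist {g' : ℕ → G} {ε : ℕ → Bool} (hz : z * z = 1) : ∀ {w : List ℕ},
    (∀ l ∈ w, g l * z = z * g l) → (∀ l ∈ w, g' l = pw z (ε l) * g l) →
    wval g' w = pw z (w.foldr (fun l b => ε l ^^ b) false) * wval g w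
  | [], _, _ => by simp [wval]
  | l :: w, h, h' => by
      have h1 := wval_twist hz (w := w) (fun l' hl' => h l' (List.mem_cons_of_mem _ hl'))
        (fun l' hl' => h' l' (List.mem_cons_of_mem _ hl'))
      have h2 : ∀ b, g l * pw z b = pw z b * g l := pw_comm_left (h l List.mem_cons_self)
      rw [wval, wval, h1, h' l List.mem_cons_self, List.foldr_cons, pw_xor hz]
      simp only [mul_assoc]
      rw [← mul_assoc (g l), h2]
      simp only [mul_assoc]

/-- inverse code -/
def ninv (q : ℕ) : ℕ := Nat.xor q (Nat.shiftLeft (par4 (Nat.land (Nat.shiftRight q 4) q)) 8)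

theorem nmul_ninv (q i : ℕ) (hi : i < 9) : (nmul q (ninv q)).testBit i = false := by
  have h8 : ∀ j < 8, (ninv q).testBit j = q.testBit j := by
    intro j hj
    change (q ^^^ ((par4 _) <<< 8)).testBit j = _
    rw [Nat.testBit_xor, Nat.testBit_shiftLeft]
    have : decide (j ≥ 8) = false := by simpa using hj
    simp [this]
  rcases Nat.lt_succ_iff_lt_or_eq.mp hi with h | h
  · rw [nmul_testBit_lt _ _ _ h, h8 _ h, Bool.xor_self]
  · subst h
    rw [nmul_testBit_eight, h8 0 (by norm_num), h8 1 (by norm_num), h8 2 (by norm_num),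
      h8 3 (by norm_num)]
    have : (ninv q).testBit 8 = (q.testBit 8 ^^ (((q.testBit 4 && q.testBit 0) ^^
        (q.testBit 5 && q.testBit 1)) ^^ ((q.testBit 6 && q.testBit 2) ^^
        (q.testBit 7 && q.testBit 3)))) := by
      change (q ^^^ ((par4 ((q >>> 4) &&& q)) <<< 8)).testBit 8 = _
      rw [Nat.testBit_xor, Nat.testBit_shiftLeft, par4_testBit]
      simp
    rw [this, ← Bool.xor_assoc (q.testBit 8), Bool.xor_self, Bool.false_xor, Bool.xor_self]

theorem ι_congr {m n : ℕ} (h : ∀ i < 9, m.testBit i = n.testBit i) : ι z x m = ι z x n := by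
  unfold ι
  rw [h 0 (by norm_num), h 1 (by norm_num), h 2 (by norm_num), h 3 (by norm_num),
    h 4 (by norm_num), h 5 (by norm_num), h 6 (by norm_num), h 7 (by norm_num), h 8 (by norm_num)]

theorem ι_ninv (hx : Basis z x) (q : ℕ) : ι z x (ninv q) = (ι z x q)⁻¹ := by
  symm
  rw [inv_eq_iff_mul_eq_one, ← ι_nmul hx, ← ι_zero (z := z) (x := x)]
  exact ι_congr fun i hi => by rw [nmul_ninv q i hi, Nat.zero_testBit]

/-- action of `w q w q` on codes -/
def sqact (tabL : ℕ → List ℕ) (w : List ℕ) (q n : ℕ) : ℕ :=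
  wact tabL w (nmul (nmul q (wact tabL w (nmul (nmul q n) (ninv q)))) (ninv q))

/-- number of moved letters -/
def moved (tabP : ℕ → ℕ → ℕ) (w : List ℕ) : ℕ :=
  ((List.range 9).filter fun j => !Nat.beq (wperm tabP w j) j).length

/-- check for the determination of a square: the word `w` has a square acting trivially on letters,
`w q w q` acts trivially on `Q`, moves `k` letters, and `w(q) r q = e` -/
def sqW (tabL : ℕ → List ℕ) (tabP : ℕ → ℕ → ℕ) (w : List ℕ) (q r k e : ℕ) : Bool :=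
  ((List.range 8).all (fun i => Nat.beq (sqact tabL w q (2 ^ i)) (2 ^ i)) &&
    (List.range 9).all (fun j => Nat.beq (wperm tabP w (wperm tabP w j)) j)) &&
    (Nat.beq (moved tabP w) k && Nat.beq (nmul (nmul (wact tabL w q) r) q) e)

theorem support_card {w : List ℕ} (hg : ∀ l ∈ w, Good S x g tabL tabP l) :
    (S.φ (wval g w)).1.support.card = moved tabP w := by
  have h : ∀ f : ℕ → ℕ, (Finset.univ.filter fun j : Fin 9 => f j.1 ≠ j.1).card =
      ((List.range 9).filter fun j => !Nat.beq (f j) j).length := by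
    intro f
    have h1 : ((List.range 9).filter fun j => !Nat.beq (f j) j).length =
        ((Finset.range 9).filter fun j => f j ≠ j).card := by
      rw [← List.toFinset_card_of_nodup (List.Nodup.filter _ List.nodup_range)]
      congr 1
      ext j
      rw [List.mem_toFinset, List.mem_filter, List.mem_range, Finset.mem_filter, Finset.mem_range,
        Bool.not_eq_true', Bool.eq_false_iff, ne_eq, ne_eq, Nat.beq_eq]
    rw [h1]
    exact Finset.card_bij (fun j _ => j.1) (fun j hj => by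
      simp only [Finset.mem_filter, Finset.mem_univ, true_and, Finset.mem_range] at hj ⊢
      exact ⟨j.2, hj⟩) (fun a _ b _ hab => Fin.ext hab) (fun b hb => by
      simp only [Finset.mem_filter, Finset.mem_range] at hb
      exact ⟨⟨b, hb.1⟩, by simpa using hb.2, rfl⟩)
  rw [moved, ← h (wperm tabP w)]
  congr 1
  ext j
  rw [Equiv.Perm.mem_support, Finset.mem_filter, ← wval_perm hg j]
  simp only [ne_eq, Finset.mem_univ, true_and, Fin.ext_iff]

/-- squares over involutions of `A₉` are determined by the sign rules -/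
theorem sq_eq (hx : QB S x) (hS : SqRules S) {w : List ℕ}
    (hg : ∀ l ∈ w, Good S x g tabL tabP l) {q r k e : ℕ}
    (hke : (k = 4 ∧ e = 256) ∨ (k = 8 ∧ e = 0)) (h : sqW tabL tabP w q r k e = true) :
    wval g w * wval g w = ι z x r := by
  rw [sqW, Bool.and_eq_true, Bool.and_eq_true, Bool.and_eq_true, List.all_eq_true,
    List.all_eq_true] at h
  obtain ⟨⟨h1, h2⟩, h3, h4⟩ := h
  replace h3 := Nat.eq_of_beq_eq_true h3
  replace h4 := Nat.eq_of_beq_eq_true h4
  set W := wval g w with hW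
  have hWz : W * z = z * W := wval_comm hg
  have hq := ι_mem hx q
  have hqz := ι_comm hx q
  have hyz : (W * ι z x q) * z = z * (W * ι z x q) := mul_comm_z hWz hqz
  have hφ : S.φ (W * ι z x q) = S.φ W := by
    rw [S.φ_mul _ _ hWz hqz, phi_mem S hq, mul_one]
  have hφ2 : S.φ W * S.φ W = 1 := by
    apply Subtype.ext
    apply Equiv.ext
    intro j
    apply Fin.ext
    change ((S.φ W).1 ((S.φ W).1 j)).1 = j.1
    rw [hW, wval_perm hg, wval_perm hg, Nat.eq_of_beq_eq_true (h2 j.1 (List.mem_range.mpr j.2))]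
  have hcard : (S.φ W).1.support.card = k := by rw [hW, support_card hg, h3]
  have key : (W * ι z x q) * (W * ι z x q) = 1 ∨ (W * ι z x q) * (W * ι z x q) = z := by
    refine eq_one_or_z hx (mul_comm_z hyz hyz) ?_ fun i => ?_
    · rw [S.φ_mul _ _ hyz hyz, hφ, hφ2]
    · have e1 := Nat.eq_of_beq_eq_true (h1 i.1 (List.mem_range.mpr i.2))
      rw [sqact] at e1
      have c1 : ∀ n, ι z x q * ι z x n * (ι z x q)⁻¹ = ι z x (nmul (nmul q n) (ninv q)) := by
        intro n
        rw [ι_nmul hx.basis, ι_nmul hx.basis, ι_ninv hx.basis]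
      have c2 : ∀ n, W * ι z x n * W⁻¹ = ι z x (wact tabL w n) := wval_conj hx hg
      have c3 := congrArg (ι z x) e1
      rw [← c2, ← c1, ← c2, ← c1, ι_gen] at c3
      refine Eq.trans ?_ c3
      group
  have fin : (W * ι z x q) * (W * ι z x q) = ι z x e := by
    rcases hke with ⟨hk, he⟩ | ⟨hk, he⟩
    · rw [he, ι_z]
      exact hS.sq2 _ hyz (by rw [hφ, hφ2]) (by rw [hφ, hcard, hk]) key
    · rw [he, ι_zero]
      exact hS.sq4 _ hyz (by rw [hφ, hφ2]) (by rw [hφ, hcard, hk]) key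
  have c2 : W * ι z x q * W⁻¹ = ι z x (wact tabL w q) := wval_conj hx hg q
  rw [← h4, ι_nmul hx.basis, ι_nmul hx.basis, ← c2] at fin
  have e2 : (W * ι z x q) * (W * ι z x q) = (W * ι z x q * W⁻¹) * (W * W) * ι z x q := by group
  rw [e2] at fin
  exact mul_left_cancel (mul_right_cancel fin)

end Cfsg.Agent.ThType.CSideWords
end
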